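import Cfsg.Agent.H6.CT1

/-! Goldschmidt's theorem on commuting strongly closed subgroups: the general case. -/

set_option autoImplicit false
set_option linter.unusedSectionVars false
set_option linter.unusedVariables false

namespace H6.CS

open Subgroup Cfsg H5 H5.Gd
open scoped commutatorElement
open H10 (IsSylowIn)

universe u

variable {G : Type u} [Group G] [Finite G]
variable {Ω Ω₁ Ω₂ : Set G} {A B D H K L M N P Q S T : Subgroup G} {a b c d e g t x y : G}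

theorem Cl.le_normal (h : Cl Ω) (hS : IsSylowIn 2 S ⊤) [N.Normal] (h1 : gen Ω S ≤ N) : gen Ω ⊤ ≤ N :=
  gen_le_iff.2 fun x _ hx => by
    obtain ⟨g, hg⟩ := exists_conj_in hS (h.two x hx)
    simpa [mul_assoc] using Normal.conj_mem' ‹_› _
      (h1 (mem_gen (hg x (mem_zpowers x)) (h.conj g x hx))) g

theorem Cl.gen_top (h : Cl Ω) (hS : IsSylowIn 2 S ⊤) :
    gen Ω ⊤ = normalClosure (gen Ω S : Set G) :=
  have := h.normal ⊤
  le_antisymm (h.le_normal hS le_normalClosure) (normalClosure_le_normal (gen_mono le_top))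

theorem Cm.gen_inter (h : Cm Ω₁ Ω₂) (hP : IsPGroup 2 P) :
    gen Ω₁ P ⊓ gen Ω₂ P = gen (Ω₁ ∩ Ω₂) P := Subgroup.ext fun x => by
  rw [mem_inf, h.c1.mem_gen_iff hP, h.c2.mem_gen_iff hP, (h.c1.inter h.c2).mem_gen_iff hP,
    Set.mem_inter_iff]
  tauto

theorem Cm.sa (h : Cm Ω₁ Ω₂) (hS : IsSylowIn 2 S ⊤) : H10.SA S (gen (Ω₁ ∩ Ω₂) S) :=
  ⟨hS, gen_le, by
    rw [← h.gen_inter hS.isPGroup]
    exact inf_le_left.trans ((h.gen_comm hS.isPGroup).trans (centralizer_anti inf_le_right)),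
    ((h.c1.inter h.c2).sc hS.isPGroup).2⟩

/-- elements of `Ω₁` centralize a normal `2`-subgroup inside `Ω₂` -/
theorem Cm.cent (h : Cm Ω₁ Ω₂) [K.Normal] (hK : IsPGroup 2 K) (h2 : ∀ x ∈ K, x ∈ Ω₂) :
    gen Ω₁ ⊤ ≤ 𝒞(K) := gen_le_iff.2 fun x _ hx k hk =>
  (h.comm _ (two_sup_N (h.c1.two x hx) hK (le_normalizer_of_normal' ⊤ K trivial)) x
    (mem_sup_left (mem_zpowers x)) k (mem_sup_right hk) hx (h2 k hk)).symm

theorem Cm.exists_simple (h : Cm Ω₁ Ω₂) (hO : 𝒪((⊤ : Subgroup G)) = ⊥)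
    (ht : gen Ω₁ ⊤ ⊔ gen Ω₂ ⊤ = ⊤) (hS : IsSylowIn 2 S ⊤) (h0 : gen (Ω₁ ∩ Ω₂) ⊤ ≠ ⊥)
    (hZ : gen (Ω₁ ∩ Ω₂) (pCore 2 G) = ⊥) : ∃ L : Subgroup G, L.Normal ∧ IsSimpleGroup L ∧
      ¬ IsMulCommutative L ∧ gen (Ω₁ ∩ Ω₂) S ⊓ L ≠ ⊥ ∧ L ≤ gen (Ω₁ ∩ Ω₂) ⊤ := by
  have hc := h.c1.inter h.c2
  have sa := h.sa hS
  rw [hc.gen_top hS] at h0 ⊢
  obtain ⟨A, hA⟩ : ∃ A, A = gen (Ω₁ ∩ Ω₂) S := ⟨_, rfl⟩
  rw [← hA] at sa h0 ⊢
  set N := normalClosure (A : Set G) with hN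
  have sb := sa.sub (K := N) le_normalClosure
  have hi := N.subtype_injective
  have o1 : pPrimeCore 2 N = ⊥ := (map_eq_bot_iff_of_injective _ hi).1 (O_normal hO)
  have sn : SN N ⊤ := SN.of_normal le_top (le_normalizer_of_normal' _ _)
  have o2 : pCore 2 N = ⊥ := by
    refine (map_eq_bot_iff_of_injective _ hi).1 (le_bot_iff.1 (hZ ▸ fun x hx => mem_gen ?_ ?_))
    · exact opOf_top (G := G) 2 ▸ sn.opOf_le 2 hx
    · obtain ⟨y, hy, rfl⟩ := hx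
      exact hc.of_gen hS.isPGroup (hA ▸ sb.core_le_A sa.ncl_sub o1 hy)
  have ss : H10.SS N := ⟨o2, o1⟩
  have key : ∀ L, CompOf L N → A ⊓ L ≠ ⊥ ∧ L ⊓ 𝒞(L) = ⊥ := fun L hL => by
    have h1 := compOf_top_iff.2 (compOf_iff.1 hL).2
    refine ⟨fun e => ss.ne_bot sb sa.ncl_sub h1 (by rw [subgroupOf, subgroupOf, ← comap_inf, e, ← subgroupOf, bot_subgroupOf]), ?_⟩
    have := hL.sn.zOf_le_fitOf
    rwa [fitOf_eq_opOf (O_normal hO), opOf, o2, Subgroup.map_bot, le_bot_iff] at this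
  obtain ⟨L, hL⟩ : ∃ L, CompOf L N := by
    by_contra! hh
    refine h0 (eq_bot_of_fstarOf_eq_bot ?_)
    rw [fstarOf_eq, layerOf_eq_bot_iff.2 hh, fitOf_eq_opOf (O_normal hO), opOf, o2, Subgroup.map_bot,
      sup_idem]
  have nn : ∀ {Ω₁ Ω₂ : Set G}, Cm Ω₁ Ω₂ → A ≤ gen Ω₂ S → gen Ω₁ ⊤ ≤ 𝒩(L) := fun h hA =>
    gen_le_iff.2 fun x _ hx => by
      obtain ⟨g, hg⟩ := exists_conj_in hS (h.c1.two x hx)
      have h1 := hL.cj_of_mem (le_normalizer_of_normal' ⊤ N (mem_top g))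
      have h2 : g * x * g⁻¹ ∈ 𝒩(cj g L) := by
        by_contra h2
        have h3 := commutator_eq_bot_iff'.1 (h1.commutator_eq_bot (h1.cj_of_mem
          (le_normalizer_of_normal' ⊤ N (mem_top (g * x * g⁻¹)))) fun e => h2 (cj_eq_self_iff.1 e.symm))
        refine (key _ h1).1 (le_bot_iff.1 ((key _ h1).2 ▸ fun a ha => ⟨ha.2, h3 ?_⟩))
        have := conj_mem_cj (g := g * x * g⁻¹) ha.2
        rwa [h.comm S hS.isPGroup _ (hg x (mem_zpowers x)) a (sa.le ha.1) (h.c1.conj g x hx)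
          (h.c2.of_gen hS.isPGroup (hA ha.1)), mul_inv_cancel_right] at this
      rw [← cj_normalizer, mem_cj] at h2
      simpa [mul_assoc] using h2
  obtain ⟨s1, s2⟩ := ss.simple (compOf_top_iff.2 (compOf_iff.1 hL).2)
  have e := subgroupOfEquivOfLe hL.le
  refine ⟨L, normal_iff_top_le_normalizer.2 (ht.ge.trans (sup_le
    (nn h (hA ▸ h.gen_inter hS.isPGroup ▸ inf_le_right))
    (nn h.symm (hA ▸ h.gen_inter hS.isPGroup ▸ inf_le_left)))), e.symm.isSimpleGroup,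
    fun k => qs_not_le_centralizer hL.qs fun a ha b hb =>
      congrArg Subtype.val (k.1.1 ⟨b, hb⟩ ⟨a, ha⟩), (key L hL).1, hL.le⟩

/-- the theorem for groups of order less than `n` -/
def A1 (n : ℕ) : Prop :=
  ∀ (X : Type u) [Group X] [Finite X], Nat.card X < n → ∀ Ω₁ Ω₂ : Set X, Cm Ω₁ Ω₂ →
    ⁅gen Ω₁ ⊤, gen Ω₂ ⊤⁆ ≤ gen (Ω₁ ∩ Ω₂) ⊤ ⊔ 𝒪((⊤ : Subgroup X))

theorem A1.sub (ih : A1.{u} (Nat.card G)) (h : Cm Ω₁ Ω₂) (hH : H ≠ ⊤) :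
    ⁅gen Ω₁ H, gen Ω₂ H⁆ ≤ gen (Ω₁ ∩ Ω₂) H ⊔ 𝒪(H) := by
  have := map_mono (f := H.subtype) (ih H (card_lt_of_ne hH) _ _ (h.comap H.subtype_injective))
  rwa [map_commutator, map_gen_sub, map_gen_sub, Subgroup.map_sup, ← Set.preimage_inter, map_gen_sub,
    map_oppOf_of_injective H.subtype_injective, map_subtype_top] at this

theorem A1.quot (ih : A1.{u} (Nat.card G)) (h : Cm Ω₁ Ω₂) [M.Normal] (h0 : M ≠ ⊥)
    (hk : ∀ T : Subgroup G, IsPGroup 2 T → ∀ x ∈ T, ∀ y ∈ T, x ∈ Ω₁ → y ∈ Ω₂ → x⁻¹ * y ∈ M →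
      x ∈ gen (Ω₁ ∩ Ω₂) ⊤ ⊔ M) : ⁅gen Ω₁ ⊤, gen Ω₂ ⊤⁆ ≤ gen (Ω₁ ∩ Ω₂) ⊤ ⊔
        (𝒪((⊤ : Subgroup (G ⧸ M)))).comap (QuotientGroup.mk' M) := by
  have hf := QuotientGroup.mk'_surjective M
  set f := QuotientGroup.mk' M
  have hM : M ≤ (𝒪((⊤ : Subgroup (G ⧸ M)))).comap f := fun x hx => by
    rw [mem_comap, show f x = 1 from (QuotientGroup.eq_one_iff x).2 hx]; exact one_mem _
  have h1 := ih _ (card_quot_lt h0) _ _ (h.map hf)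
  rw [← map_gen_top hf, ← map_gen_top hf, ← map_commutator, map_le_iff_le_comap] at h1
  refine h1.trans ?_
  rw [← comap_map_eq_self (f := f) (H := gen (Ω₁ ∩ Ω₂) ⊤ ⊔ _) (by
    rw [QuotientGroup.ker_mk']; exact hM.trans le_sup_right)]
  refine comap_mono (sup_le (gen_le_iff.2 fun z _ hz => ?_) ?_)
  · obtain ⟨T, hT, x, hx, y, hy, a, b, rfl, e⟩ := h.lift hf hz.1 hz.2
    exact mem_map_of_mem f (sup_le_sup_left hM _ (hk T hT x hx y hy a b (QuotientGroup.eq.1 e.symm)))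
  · rw [Subgroup.map_sup, map_comap_eq_self_of_surjective hf]; exact le_sup_right

theorem A1.lem (ih : A1.{u} (Nat.card G)) (h : Cm Ω₁ Ω₂) (hO : 𝒪((⊤ : Subgroup G)) = ⊥)
    (hS : IsSylowIn 2 S ⊤) [L.Normal] (hs : IsSimpleGroup L) (hn : ¬ IsMulCommutative L)
    (h0 : gen (Ω₁ ∩ Ω₂) S ⊓ L ≠ ⊥) (h1 : L ≤ gen (Ω₁ ∩ Ω₂) ⊤)
    (h2 : gen Ω₂ S ≤ (gen (Ω₁ ∩ Ω₂) S ⊓ L) ⊔ 𝒞(L)) : ⁅gen Ω₁ ⊤, gen Ω₂ ⊤⁆ ≤ gen (Ω₁ ∩ Ω₂) ⊤ := by
  have hc := h.c1.inter h.c2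
  have := hc.normal ⊤
  have := h.c2.normal ⊤
  have h2S := hS.isPGroup
  have hLC : L ≤ 𝒩(𝒞(L)) := le_normalizer_of_normal' _ _
  have h3 : gen Ω₂ ⊤ ≤ L ⊔ 𝒞(L) := h.c2.le_normal hS (h2.trans (sup_le_sup_right inf_le_right _))
  have h4 := ih.quot h (M := L) (fun e => h0 (by rw [e, inf_bot_eq])) fun T hT x hx y hy a b e => by
    obtain ⟨g, hg⟩ := exists_conj_in hS hT
    have y1 := mem_gen (hg y hy) (h.c2.conj g y b)
    have x1 := mem_gen (hg x hx) (h.c1.conj g x a)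
    obtain ⟨v, hv, c, k1, k2⟩ := (mem_sup_of_le_normalizer (inf_le_right.trans hLC)).1 (h2 y1)
    have l1 : (g * x * g⁻¹)⁻¹ * (g * y * g⁻¹) ∈ L := by
      simpa [mul_assoc] using Normal.conj_mem ‹_› _ e g
    have e1 : x = g⁻¹ * (g * x * g⁻¹) * g := by group
    generalize g * x * g⁻¹ = x' at *
    rw [← k2] at l1 y1
    have hA : gen Ω₁ S ⊓ gen Ω₂ S = _ := h.gen_inter h2S
    have v1 := hA.ge hv.1
    have e2 : v * (x'⁻¹ * (v * c))⁻¹ * c = x' := by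
      rw [mul_assoc, k1 _ (inv_mem l1)]; group
    have k3 : v * (x'⁻¹ * (v * c))⁻¹ ∈ S ⊓ L := ⟨S.mul_mem (gen_le hv.1)
      (S.inv_mem (S.mul_mem (S.inv_mem (gen_le x1)) (gen_le y1))), L.mul_mem hv.2 (L.inv_mem l1)⟩
    have k4 := loc_abs (h.sa hS) hs hn h0 (h.c1.sc h2S) (hA.ge.trans inf_le_left) k3 k1 (e2.symm ▸ x1)
    have k5 : c ∈ gen (Ω₁ ∩ Ω₂) S := hA.le (mem_inf.2 ⟨by
      rw [eq_inv_mul_of_mul_eq e2]; exact mul_mem (inv_mem k4) x1, by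
        simpa using mul_mem (inv_mem (mem_inf.1 v1).2) y1⟩)
    rw [e1, ← e2]
    exact Normal.conj_mem' inferInstance _ (mul_mem (mem_sup_right k3.2)
      (mem_sup_left (gen_mono le_top k5))) g
  set Y := (𝒪((⊤ : Subgroup (G ⧸ L)))).comap (QuotientGroup.mk' L) with hY
  have : (𝒪((⊤ : Subgroup (G ⧸ L)))).Normal := oppOf_top (G := G ⧸ L) 2 ▸ inferInstance
  have hLY : L ≤ Y := fun x hx => by
    rw [mem_comap, show QuotientGroup.mk' L x = 1 from (QuotientGroup.eq_one_iff x).2 hx]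
    exact one_mem _
  have h5 : Y ⊓ 𝒞(L) ≤ L := by
    have := two_of_cent hO (K := Y ⊓ 𝒞(L)) (QuotientGroup.mk' L) (coprime_of_le (cop_O _)
      (map_le_iff_le_comap.2 inf_le_left)) (by
        rw [QuotientGroup.ker_mk']
        exact inf_le_right.trans (le_centralizer_iff.1 inf_le_right))
    rwa [QuotientGroup.ker_mk'] at this
  refine (le_inf h4 ((commutator_le_right _ _).trans h3)).trans ?_
  rw [sup_inf_dedekind (le_normalizer_of_normal' _ _) ((gen_le_iff.2 fun x hx a =>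
    mem_gen hx a.2).trans h3), inf_comm, sup_inf_dedekind hLC hLY, inf_comm]
  exact sup_le le_rfl (sup_le h1 (h5.trans h1))

theorem A1.step (ih : A1.{u} (Nat.card G)) (h : Cm Ω₁ Ω₂) :
    ⁅gen Ω₁ ⊤, gen Ω₂ ⊤⁆ ≤ gen (Ω₁ ∩ Ω₂) ⊤ ⊔ 𝒪((⊤ : Subgroup G)) := by
  have hc := h.c1.inter h.c2
  by_cases hO : 𝒪((⊤ : Subgroup G)) = ⊥
  swap
  · rw [oppOf_top] at hO ⊢
    have := ih.quot h hO fun T hT x hx y hy a b e => by
      have e1 := eq_of_odd hT hx hy (oppOf_top (G := G) 2 ▸ cop_O ⊤) e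
      exact mem_sup_left (mem_gen trivial ⟨a, e1 ▸ b⟩)
    rwa [oppOf_map_mk', MonoidHom.comap_bot, QuotientGroup.ker_mk'] at this
  have := h.c1.normal ⊤
  have := h.c2.normal ⊤
  by_cases ht : gen Ω₁ ⊤ ⊔ gen Ω₂ ⊤ = ⊤
  swap
  · have h1 := ih.sub h ht
    rw [O_normal hO] at h1
    exact (commutator_mono (gen_le_iff.2 fun x hx a => mem_gen (mem_sup_left (mem_gen hx a)) a)
      (gen_le_iff.2 fun x hx a => mem_gen (mem_sup_right (mem_gen hx a)) a)).trans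
        (h1.trans (sup_le_sup (gen_mono le_top) bot_le))
  by_cases h0 : gen (Ω₁ ∩ Ω₂) ⊤ = ⊥
  · exact (Dj.top' ⟨h, fun x a b => gen_eq_bot.1 h0 x trivial ⟨a, b⟩⟩).trans le_sup_right
  refine le_trans ?_ le_sup_left
  obtain ⟨S, hS⟩ := H10.exists_isSylowIn 2 (⊤ : Subgroup G)
  by_cases hZ : gen (Ω₁ ∩ Ω₂) (pCore 2 G) = ⊥
  · obtain ⟨L, _, hs, hn, h1, h2⟩ := h.exists_simple hO ht hS h0 hZ
    rcases loc_inn (h.sa hS) hs hn h1 (h.c1.sc hS.isPGroup) (h.c2.sc hS.isPGroup)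
      (h.gen_inter hS.isPGroup) (h.gen_comm hS.isPGroup) with e | e
    · rw [commutator_comm, Set.inter_comm] at *
      exact ih.lem h.symm hO hS hs hn h1 h2 e
    · exact ih.lem h hO hS hs hn h1 h2 e
  have := hc.normal (pCore 2 G)
  have p2 : IsPGroup 2 (pCore 2 G) := opOf_top (G := G) 2 ▸ isPGroup_opOf 2 ⊤
  have hm : ∀ x ∈ gen (Ω₁ ∩ Ω₂) (pCore 2 G), x ∈ Ω₁ ∩ Ω₂ := fun x => hc.of_gen p2
  have hl : gen (Ω₁ ∩ Ω₂) (pCore 2 G) ≤ gen (Ω₁ ∩ Ω₂) ⊤ := gen_mono le_top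
  have hz : IsPGroup 2 (gen (Ω₁ ∩ Ω₂) (pCore 2 G)) := p2.to_le gen_le
  generalize gen (Ω₁ ∩ Ω₂) (pCore 2 G) = Z at *
  have h1 : ⊤ ≤ 𝒞(Z) := ht.ge.trans (sup_le (h.cent hz fun x hx => (hm x hx).2)
    (h.symm.cent hz fun x hx => (hm x hx).1))
  have h2 := ih.quot h hZ fun T hT x hx y hy a b e => mem_sup_left (mem_gen trivial ⟨a, by
    simpa using h.c2.mul_comm b (h.c2.inv (hm _ e).2) (h1 (mem_top y) _ (inv_mem e)).symm⟩)
  have : (𝒪((⊤ : Subgroup (G ⧸ Z)))).Normal := oppOf_top (G := G ⧸ Z) 2 ▸ inferInstance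
  have h3 := two_of_cent hO (K := (𝒪((⊤ : Subgroup (G ⧸ Z)))).comap (QuotientGroup.mk' Z))
    (QuotientGroup.mk' Z) (coprime_of_le (cop_O _) (map_comap_le _ _)) (by
      rw [QuotientGroup.ker_mk']
      exact inf_le_right.trans (le_centralizer_iff.1 (le_top.trans h1)))
  rw [QuotientGroup.ker_mk'] at h3
  exact h2.trans (sup_le le_rfl (h3.trans hl))

theorem a1 (n : ℕ) : A1.{u} n := by
  induction n with
  | zero => intro X _ _ h; omega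
  | succ n ih =>
    intro X _ _ h Ω₁ Ω₂ hd
    exact A1.step (fun Y _ _ hY => ih Y (by omega)) hd

/-- Goldschmidt's theorem for commuting strongly closed subgroups -/
theorem Cm.top (h : Cm Ω₁ Ω₂) :
    ⁅gen Ω₁ ⊤, gen Ω₂ ⊤⁆ ≤ gen (Ω₁ ∩ Ω₂) ⊤ ⊔ 𝒪((⊤ : Subgroup G)) :=
  a1 _ G (Nat.lt_succ_self _) _ _ h

end H6.CS
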