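import Cfsg.Agent.H6.CoAct

/-! Splitting automorphisms of prime order (Hughes, Thompson, Kegel). -/

set_option autoImplicit false
set_option linter.unusedSectionVars false

namespace H6

open Subgroup Cfsg

/-- The norm identity. -/
theorem prod_eq_pow_of_norm {M V : Type*} [Group M] [CommGroup V] (φ : M →* MulAut V)
    (K : Subgroup M) [Fintype K] {x : M} (hx : x ∈ normalizer (K : Set M)) {p : ℕ} (hp : p.Prime)
    (h1 : ∀ k ∈ K, (x * k) ^ p = 1)
    (h2 : ∀ k ∈ K, ∀ v, ∏ i ∈ Finset.range p, φ ((x * k) ^ i) v = 1) (v : V) :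
    ∏ k : K, φ k v = v ^ Nat.card K := by
  have hm : ∀ k ∈ K, ∀ i : ℕ, (x ^ i)⁻¹ * (x * k) ^ i ∈ K := by
    intro k hk i
    induction i with
    | zero => simp
    | succ i ih =>
      have := K.mul_mem (H3.conj_mem_of_mem_normalizer' hx ih) hk
      convert this using 1
      simp only [pow_succ, mul_inv_rev, mul_assoc]
  have h3 : ∀ i, 0 < i → i < p → ∏ k : K, φ ((x * k) ^ i) v = φ (x ^ i) (∏ k : K, φ k v) := by
    intro i hi hip
    let f : K → K := fun k => ⟨(x ^ i)⁻¹ * (x * k) ^ i, hm k k.2 i⟩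
    have hf : Function.Injective f := by
      intro a b hab
      have h4 : (x * a) ^ i = (x * b) ^ i := mul_left_cancel (congrArg Subtype.val hab)
      obtain ⟨j, -, hj⟩ := Nat.exists_mul_mod_eq_one_of_coprime
        (Nat.coprime_of_lt_prime hi.ne' hip hp).symm hp.one_lt
      have h5 : ∀ c : K, ((x * c) ^ i) ^ j = x * c := fun c => by
        rw [← pow_mul, pow_eq_pow_mod _ (h1 c c.2), hj, pow_one]
      have h6 := h5 a
      rw [h4, h5] at h6
      exact Subtype.ext (mul_left_cancel h6).symm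
    rw [map_prod, ← (Finite.injective_iff_bijective.1 hf).prod_comp fun k : K => φ (x ^ i) (φ k v)]
    refine Finset.prod_congr rfl fun k _ => ?_
    rw [← MulAut.mul_apply, ← map_mul, mul_inv_cancel_left]
  have h4 : ∏ i ∈ Finset.range p, ∏ k : K, φ ((x * k) ^ i) v = 1 := by
    rw [Finset.prod_comm]
    exact Finset.prod_eq_one fun k _ => h2 k k.2 v
  have h5 := h2 1 K.one_mem (∏ k : K, φ k v)
  obtain ⟨n, rfl⟩ : ∃ n, p = n + 1 := ⟨p - 1, (Nat.sub_add_cancel hp.pos).symm⟩
  rw [Finset.prod_range_succ'] at h4 h5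
  rw [Finset.prod_congr rfl fun i hi => h3 (i + 1) i.succ_pos (by simpa using hi)] at h4
  simp only [mul_one, pow_zero, map_one, MulAut.one_apply, Finset.prod_const, Finset.card_univ] at h4 h5
  rw [Nat.card_eq_fintype_card]
  exact mul_left_cancel (h5.trans h4.symm)

variable {G : Type*} [Group G]

open scoped IsMulCommutative in
theorem le_centralizer_of_split [Finite G] {V K : Subgroup G} [V.Normal] [IsMulCommutative V] {x : G}
    (hx : x ∈ normalizer (K : Set G)) {p : ℕ} (hp : p.Prime)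
    (h : ∀ k ∈ K, ∀ v ∈ V, (v * (x * k)) ^ p = 1) (hc : (Nat.card V).Coprime (Nat.card K)) :
    K ≤ centralizer (V : Set G) := by
  classical
  haveI := Fintype.ofFinite K
  let φ : G →* MulAut V := MulAut.conjNormal
  have h1 : ∀ (y : G) (v : V) (n : ℕ),
      ((∏ i ∈ Finset.range n, φ (y ^ i) v : V) : G) * y ^ n = (v * y) ^ n := by
    intro y v n
    induction n with
    | zero => simp
    | succ n ih =>
      rw [Finset.prod_range_succ, coe_mul, pow_succ (v * y : G), ← ih, MulAut.conjNormal_apply]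
      group
  have h2 : ∀ k ∈ K, (x * k) ^ p = 1 := fun k hk => by simpa using h k hk 1 V.one_mem
  have h3 := prod_eq_pow_of_norm φ K hx hp h2 fun k hk v => by
    have := h1 (x * k) v p
    rw [h k hk v v.2, h2 k hk, mul_one] at this
    exact Subtype.ext this
  intro k hk
  refine mem_centralizer_iff_commute.2 fun v hv => ?_
  have h4 : φ k (∏ l : K, φ l ⟨v, hv⟩) = ∏ l : K, φ l ⟨v, hv⟩ := by
    rw [map_prod, ← (Group.mulLeft_bijective (⟨k, hk⟩ : K)).prod_comp fun l : K => φ l ⟨v, hv⟩]
    refine Finset.prod_congr rfl fun l _ => ?_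
    rw [← MulAut.mul_apply, ← map_mul]; rfl
  rw [h3, map_pow] at h4
  have h5 := (powCoprime hc).injective h4
  exact conj_eq_iff_commute.1 (congrArg Subtype.val h5)

/-- Kegel's theorem: a group with a splitting automorphism of prime order is nilpotent. -/
theorem isNilpotent_of_split.{u} {p : ℕ} (hp : p.Prime) (n : ℕ) :
    ∀ (G : Type u) [Group G] [Finite G] (H : Subgroup G) [H.Normal], Nat.card G = n → H ≠ ⊤ →
      (∀ x, x ∉ H → x ^ p = 1) → Group.IsNilpotent H := by
  induction n using Nat.strong_induction_on with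
  | _ n ih =>
  intro G _ _ H _ hn hH h
  subst hn
  have sub : ∀ L : Subgroup G, L ≠ ⊤ → ¬ L ≤ H → ∀ X, X ≤ L → X ≤ H → Group.IsNilpotent X := by
    intro L h1 h2 X h3 h4
    have h5 := ih _ (H1.card_lt_card_of_ne_top h1) L (H.subgroupOf L) rfl
      (fun h5 => h2 (subgroupOf_eq_top.1 h5)) (fun x hx => Subtype.ext (h x hx))
    have h6 := H1.isNilpotent_map h5 L.subtype
    rw [subgroupOf_map_subtype] at h6
    exact H1.isNilpotent_of_le h6 (le_inf h4 h3)
  have frat : ∀ (q : ℕ) [Fact q.Prime] (Q : Sylow q H),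
      ¬ normalizer (((Q : Subgroup H).map H.subtype : Subgroup G) : Set G) ≤ H := by
    intro q _ Q h1
    have := Sylow.normalizer_sup_eq_top Q
    rw [sup_eq_right.2 h1] at this
    exact hH this
  have sub2 : ∀ (X : Subgroup G) (x : G), x ∉ H → x ∈ normalizer (X : Set G) → X < H →
      Group.IsNilpotent X := by
    intro X x hx hxX hX
    refine sub (X ⊔ zpowers x) (fun h1 => hX.ne ?_) (fun h1 => hx (h1 (mem_sup_right (mem_zpowers x))))
      X le_sup_left hX.le
    have h2 := H1.sup_inf_assoc_of_le_normalizer (B := zpowers x) hX.le (Or.inr (zpowers_le.2 hxX))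
    have h3 : zpowers x ⊓ H = ⊥ := by
      have h4 : orderOf x = p := by
        haveI := Fact.mk hp
        exact orderOf_eq_prime (h x hx) fun h4 => hx (h4 ▸ H.one_mem)
      haveI : Fact (Nat.card (zpowers x)).Prime := ⟨by rwa [Nat.card_zpowers, h4]⟩
      rcases (H.subgroupOf (zpowers x)).eq_bot_or_eq_top_of_prime_card with h5 | h5
      · rwa [subgroupOf_eq_bot, disjoint_iff, inf_comm] at h5
      · exact absurd (subgroupOf_eq_top.1 h5 (mem_zpowers x)) hx
    rw [h1, h3, top_inf_eq, sup_bot_eq] at h2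
    exact h2.symm
  have hpg : ∀ q : ℕ, q.Prime → IsPGroup q H → Group.IsNilpotent H := fun q hq h => by
    haveI := Fact.mk hq
    exact h.isNilpotent
  by_cases hN : ∃ N : Subgroup G, N.Normal ∧ N ≠ ⊥ ∧ N < H
  swap
  · push Not at hN
    have hN' : ∀ N : Subgroup G, N.Normal → N ≠ ⊥ → N ≤ H → N = H := fun N h1 h2 h3 =>
      (eq_or_lt_of_le h3).resolve_right (hN N h1 h2)
    by_cases h2 : IsPGroup 2 H
    · exact hpg 2 Nat.prime_two h2
    obtain ⟨q, hq, hqH, hq2⟩ : ∃ q : ℕ, q.Prime ∧ q ∣ Nat.card H ∧ q ≠ 2 := by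
      by_contra hc
      push Not at hc
      exact h2 (H1.isPiNat_card_singleton_iff.1 fun q hq hq' => hc q hq hq')
    haveI := Fact.mk hq
    obtain ⟨Q⟩ : Nonempty (Sylow q H) := inferInstance
    have hZ := H4.centerThompsonOf_ne_bot Q.isPGroup' (Q.ne_bot_of_dvd_card hqH)
    set Z := centerThompsonOf q (Q : Subgroup H) with hZd
    have hZ' : Z.map H.subtype = centerThompsonOf q ((Q : Subgroup H).map H.subtype) :=
      H4.map_centerThompsonOf _ (by rw [ker_subtype, inf_bot_eq])
    by_cases hZN : normalizer ((Z.map H.subtype : Subgroup G) : Set G) = ⊤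
    · have h3 := hN' _ (normalizer_eq_top_iff.1 hZN)
        (by rwa [Ne, map_eq_bot_iff_of_injective _ H.subtype_injective]) (map_subtype_le _)
      exact hpg q hq (h3 ▸ (Q.isPGroup'.to_le (H4.centerThompsonOf_le _)).map H.subtype)
    have h3 := sub _ hZN (fun h3 => frat q Q (le_trans (by
      rw [hZ']; exact H4.normalizer_le_normalizer_centerThompsonOf _) h3))
      ((normalizer (Z : Set H)).map H.subtype) (le_normalizer_map _) (map_subtype_le _)
    haveI : Group.IsNilpotent (normalizer (Z : Set H)) :=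
      (Group.isNilpotent_congr (equivMapOfInjective _ _ H.subtype_injective)).2 h3
    have h4 := H3.hasNormalPComplement_iff_coprime.1 (H3.glauberman_thompson hq2 (Or.inr rfl) Q
      (H3.hasNormalPComplement_of_isNilpotent _))
    by_cases h5 : pResidual q H = ⊥
    · exact hpg q hq (H3.pResidual_eq_bot_iff.1 h5)
    have h6 := hN' _ (H1.normal_map_char H (pResidual q H))
      (by rwa [Ne, map_eq_bot_iff_of_injective _ H.subtype_injective]) (map_subtype_le _)
    rw [← card_map_of_injective H.subtype_injective, h6] at h4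
    exact absurd hqH ((Nat.Prime.coprime_iff_not_dvd hq).1 h4.symm)
  obtain ⟨N, hN, hN1, hN2⟩ := hN
  obtain ⟨x, hx⟩ : ∃ x, x ∉ H := by
    by_contra h1
    push Not at h1
    exact hH (eq_top_iff.2 fun x _ => h1 x)
  haveI := sub2 N x hx (by rw [normalizer_eq_top_iff.2 hN]; trivial) hN2
  obtain ⟨V, r, hV, hV1, hV2, hr, hV3, -, hV4, -⟩ := H1.exists_minimal_normal_elementary N inferInstance hN1
  haveI := Fact.mk hr
  have hVH : V ≤ H := hV2.trans hN2.le
  have hs := QuotientGroup.mk'_surjective V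
  have hmem : ∀ y : G, QuotientGroup.mk' V y ∈ H.map (QuotientGroup.mk' V) ↔ y ∈ H := fun y => by
    rw [QuotientGroup.mk'_apply, mem_map_mk'_iff, sup_eq_left.2 hVH]
  haveI := Normal.map ‹H.Normal› _ hs
  have h1 := ih _ (H1.card_quotient_lt hV1) (G ⧸ V) (H.map (QuotientGroup.mk' V)) rfl
    (fun h1 => hx ((hmem x).1 (h1 ▸ mem_top _))) (fun y hy => by
      obtain ⟨y, rfl⟩ := hs y
      rw [← map_pow, h y (fun h1 => hy ((hmem y).2 h1)), map_one])
  refine H1.isNilpotent_of_sylow_normal fun q _ Q => ?_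
  set Q' := (Q : Subgroup H).map H.subtype with hQ'
  have hQH : Q' ≤ H := map_subtype_le _
  have hQp : IsPGroup q Q' := Q.isPGroup'.map _
  -- `Q V` is normalized by `H`
  have h2 : H ≤ normalizer ((Q' ⊔ V : Subgroup G) : Set G) := by
    have h3 : Q'.map (QuotientGroup.mk' V) = pCore q (G ⧸ V) ⊓ H.map (QuotientGroup.mk' V) := by
      have h4 := H1.sylow_map_eq_pCore_inf _ h1
        (Q.mapSurjective ((QuotientGroup.mk' V).subgroupMap_surjective H))
      rw [← h4, Sylow.coe_mapSurjective, hQ', map_map, map_map]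
      rfl
    have h4 : (Q' ⊔ V).Normal := by
      have : (Q'.map (QuotientGroup.mk' V)).Normal := h3 ▸ inferInstance
      have := this.comap (QuotientGroup.mk' V)
      rwa [comap_map_eq, QuotientGroup.ker_mk'] at this
    rw [normalizer_eq_top_iff.2 h4]; exact le_top
  rw [← H1.le_normalizer_map_subtype_iff, ← hQ']
  by_cases hqr : q = r
  · subst hqr
    have h3 : V ≤ Q' := by
      have := map_mono (f := H.subtype) ((H1.le_pCore (hV4.comap_subtype (K := H))).trans (H1.pCore_le_sylow Q))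
      rwa [← subgroupOf, subgroupOf_map_subtype, inf_eq_left.2 hVH] at this
    rwa [sup_eq_left.2 h3] at h2
  have hc : (Nat.card V).Coprime (Nat.card Q') := by
    obtain ⟨a, ha⟩ := IsPGroup.iff_card.1 hV4
    obtain ⟨b, hb⟩ := IsPGroup.iff_card.1 hQp
    rw [ha, hb]
    exact Nat.Coprime.pow _ _ ((Nat.coprime_primes hr Fact.out).2 (Ne.symm hqr))
  obtain ⟨y, hy, hyH⟩ := SetLike.not_le_iff_exists.1 (frat q Q)
  have h3 : Q' ≤ centralizer (V : Set G) := le_centralizer_of_split hy hp
    (fun k hk v hv => h _ fun h4 => hyH ((H.mul_mem_cancel_right (hQH hk)).1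
      ((H.mul_mem_cancel_left (hVH hv)).1 h4))) hc
  -- `Q` is characteristic in `Q V`
  have h4 : Q' ⊔ V ≤ normalizer (Q' : Set G) :=
    sup_le le_normalizer ((le_centralizer_iff.1 h3).trans (centralizer_le_normalizer' _))
  intro g hg
  refine mem_normalizer_of_conj_le fun a ha => ?_
  have h5 : g * a * g⁻¹ ∈ Q' ⊔ V := H3.conj_mem_of_mem_normalizer (h2 hg) (mem_sup_left ha)
  have h6 : (zpowers (g * a * g⁻¹)) ≤ Q' := by
    refine H1.le_of_coprime_relIndex (zpowers_le.2 h5) h4 ?_
    obtain ⟨k, hk⟩ := IsPGroup.iff_orderOf.1 hQp ⟨a, ha⟩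
    rw [← orderOf_coe] at hk
    rw [Nat.card_zpowers, show orderOf (g * a * g⁻¹) = orderOf a from
      (MulAut.conj g).orderOf_eq a, hk, sup_comm,
      H1.relIndex_sup_of_le_normalizer (le_sup_right.trans h4)]
    obtain ⟨a, ha⟩ := IsPGroup.iff_card.1 hV4
    exact (Nat.Coprime.pow _ _ ((Nat.coprime_primes Fact.out hr).2 hqr)).coprime_dvd_right
      (ha ▸ relIndex_dvd_card _ _)
  exact h6 (mem_zpowers _)

end H6
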