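import Cfsg.Agent.H6.ZS4a
import Cfsg.Agent.H6.Act
import Cfsg.Agent.H7.AutAlt
import Cfsg.Agent.H15.B1a
import Cfsg.Agent.S3035

/-! A 2-central involution with centralizer `Z₂ × S₄`: identification. -/

set_option autoImplicit false
set_option linter.unusedSectionVars false

namespace H6.ZS4

open Subgroup Equiv MulAction
open scoped commutatorElement

def c6 : Perm (Fin 6) := swap 0 2 * swap 0 1
def d6 : Perm (Fin 6) := swap 0 2 * swap 0 1 * (swap 3 5 * swap 3 4)

set_option synthInstance.maxSize 1024 in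
theorem ord3_six : ∀ a : Perm (Fin 6), a * a * a = 1 → a = 1 ∨
    (∃ g : Perm (Fin 6), g * c6 * g⁻¹ = a) ∨
    (∃ g : Perm (Fin 6), g * d6 * g⁻¹ = a ∧ Perm.sign g = 1) := by decide +kernel

theorem c6_ne : ∀ g : Perm (Fin 6), g * c6 * g⁻¹ ≠ d6 := by decide +kernel

theorem c6_three : c6.IsThreeCycle := H7.isThreeCycle_c3 (by decide) (by decide) (by decide)

/-- an involutory automorphism of `A₆` fixing an element of order three is induced by `S₆` -/
theorem exists_conj_six (α : alternatingGroup (Fin 6) ≃* alternatingGroup (Fin 6))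
    (h2 : ∀ x, α (α x) = x) {x : alternatingGroup (Fin 6)} (hx : x * x * x = 1) (h1 : x ≠ 1)
    (hf : α x = x) : ∃ σ : Perm (Fin 6), ∀ g, (α g : Perm (Fin 6)) = σ * g * σ⁻¹ := by
  have h3 : ∀ a : Perm (Fin 6), a.IsThreeCycle ↔ IsConj c6 a := fun a => by
    rw [Perm.isConj_iff_cycleType_eq, c6_three.cycleType]
    exact ⟨fun k => k.cycleType.symm, fun k => k.symm⟩
  have hd : ∀ a : alternatingGroup (Fin 6), a * a * a = 1 → a ≠ 1 → ¬ (a : Perm (Fin 6)).IsThreeCycle →
      IsConj (⟨d6, Perm.mem_alternatingGroup.2 (by decide +kernel)⟩ : alternatingGroup (Fin 6)) a := by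
    intro a k1 k2 k3
    rcases ord3_six a (congrArg Subtype.val k1) with k | k | ⟨g, k, k'⟩
    · exact absurd (Subtype.ext k) k2
    · exact absurd ((h3 _).mpr (isConj_iff.mpr k)) k3
    · exact isConj_iff.mpr ⟨⟨g, Perm.mem_alternatingGroup.2 k'⟩, Subtype.ext k⟩
  refine H7.exists_conj_of_three (by simp) ((alternatingGroup (Fin 6)).subtype.comp α.toMonoidHom)
    (Subtype.val_injective.comp α.injective) fun y hy => ?_
  show (α y : Perm (Fin 6)).IsThreeCycle
  by_cases k : (x : Perm (Fin 6)).IsThreeCycle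
  · have := α.toMonoidHom.map_isConj (alternatingGroup.isThreeCycle_isConj (by simp) k hy)
    rw [MulEquiv.coe_toMonoidHom, hf] at this
    exact (h3 _).mpr (((h3 _).mp k).trans ((alternatingGroup (Fin 6)).subtype.map_isConj this))
  by_contra k'
  have hy3 : y * y * y = 1 := Subtype.ext (by
    have := pow_orderOf_eq_one (y : Perm (Fin 6))
    rwa [hy.orderOf, pow_succ, pow_two] at this)
  have hy1 : y ≠ 1 := fun e => by
    have := hy.orderOf
    rw [e] at this
    simp at this
  have k1 := hd (α y) (by rw [← map_mul, ← map_mul, hy3, map_one]) (fun e => hy1 (by simpa using e)) k'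
  have k2 := hd x hx h1 k
  have k3 := α.toMonoidHom.map_isConj (k1.symm.trans k2)
  rw [MulEquiv.coe_toMonoidHom, hf, h2] at k3
  obtain ⟨g, e⟩ := isConj_iff.mp (((h3 _).mp hy).trans ((alternatingGroup (Fin 6)).subtype.map_isConj (k3.trans k2.symm)))
  exact c6_ne g e

theorem cen_s4 : ∀ σ : S4, σ * a0 = a0 * σ → σ * (swap 1 2) = swap 1 2 * σ → σ * z0 = z0 * σ → σ = 1 := by
  decide +kernel

variable {G : Type*} [Group G] [Finite G] {t : G} {f : S4 →* G} {M : Subgroup G}

omit [Finite G] in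
theorem relIndex_mul_card_inf (H K : Subgroup G) :
    H.relIndex K * Nat.card (H ⊓ K : Subgroup G) = Nat.card K := by
  rw [← subgroupOf_map_subtype, card_subtype, relIndex, index_mul_card]

theorem zpowers_eq_of_prime {P : Subgroup G} (hP : (Nat.card P).Prime) {x : G} (hx : x ∈ P) (h1 : x ≠ 1) :
    zpowers x = P := by
  refine eq_of_le_of_card_ge (zpowers_le.mpr hx) (le_of_eq ?_)
  refine ((Nat.dvd_prime hP).mp (card_dvd_of_le (zpowers_le.mpr hx))).resolve_left ?_ |>.symm
  rwa [Nat.card_zpowers, orderOf_eq_one_iff]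

namespace Cfg
variable (h : Cfg t f) (hi : M.index = 2) (ht : t ∉ M) (hf : ∀ σ, f σ ∈ M)
include h hi ht hf

omit [Finite G] ht in
theorem eq_bot (hne : centralizer ({t} : Set G) ≠ ⊤) (K : Subgroup G) [hK : K.Normal]
    (h0 : ∀ x ∈ K, x ∈ M → x = 1) : K = ⊥ := by
  rw [eq_bot_iff]
  intro k hk
  have hc : ∀ g, Commute k g := fun g => by
    rw [← commutatorElement_eq_one_iff_commute]
    refine h0 _ ?_ ?_
    · rw [commutatorElement_def, mul_assoc, mul_assoc, ← mul_assoc g]
      exact mul_mem hk (hK.conj_mem _ (inv_mem hk) g)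
    · simp only [commutatorElement_def, mul_mem_iff_of_index_two hi, inv_mem_iff]
      tauto
  obtain ⟨σ, e | e⟩ := h.cent k (hc t)
  · exact h0 k hk (e ▸ hf σ)
  · have : ∀ τ, σ * τ = τ * σ := fun τ => h.inj (by
      have := (h.comm τ).inv_left.mul_left (hc (f τ))
      rw [e, inv_mul_cancel_left] at this
      rw [map_mul, map_mul, this.eq])
    rw [cen_s4 σ (this _) (this _) (this _), map_one, mul_one] at e
    exact absurd (eq_top_iff.mpr fun g _ => mem_cent_iff_commute.mpr (e ▸ hc g).symm) hne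

omit [Finite G] h ht hf in
theorem card_G : Nat.card G = 2 * Nat.card M := by rw [← M.index_mul_card, hi]

omit [Finite G] in
theorem cent_M : centralizer {(⟨f z0, hf z0⟩ : M)} = (centralizer {z0}).map (f.codRestrict M hf) := by
  ext m
  rw [mem_cent_iff_commute]
  constructor
  · intro hm
    obtain ⟨σ, hσ, e | e⟩ := h.mem_T (g := m) (congrArg Subtype.val hm)
    · exact ⟨σ, mem_cent_iff_commute.mpr hσ, Subtype.ext e.symm⟩
    · have := m.2
      rw [e, mul_mem_iff_of_index_two hi] at this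
      exact absurd (this.mpr (hf σ)) ht
  · rintro ⟨σ, hσ, rfl⟩
    exact Subtype.ext (comm_f (mem_cent_iff_commute.mp hσ))

omit [Finite G] in
theorem cent_M_equiv : Nonempty (centralizer {(⟨f z0, hf z0⟩ : M)} ≃* DihedralGroup 4) := by
  obtain ⟨e⟩ := d0_equiv
  rw [h.cent_M hi ht hf]
  exact ⟨(equivMapOfInjective _ _ fun x y k => h.inj (congrArg Subtype.val k)).symm.trans e⟩

theorem case_odd (hO : centralizer {(⟨f z0, hf z0⟩ : M)} ⊔ Cfsg.oddCore M = ⊤) : False := by
  obtain ⟨e⟩ := h.cent_M_equiv hi ht hf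
  set π := QuotientGroup.mk' (Cfsg.oddCore M)
  have h8 : ∀ x : M ⧸ Cfsg.oddCore M, x ^ 8 = 1 := fun x => by
    have : x ∈ (centralizer {(⟨f z0, hf z0⟩ : M)} ⊔ Cfsg.oddCore M).map π := by
      rw [hO, map_top_of_surjective _ (QuotientGroup.mk'_surjective _)]; exact mem_top x
    rw [Subgroup.map_sup, QuotientGroup.map_mk'_self, sup_bot_eq] at this
    obtain ⟨y, hy, rfl⟩ := this
    have k := pow_card_eq_one' (x := (⟨y, hy⟩ : centralizer {(⟨f z0, hf z0⟩ : M)}))
    rw [Nat.card_congr e.toEquiv, DihedralGroup.nat_card] at k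
    rw [← map_pow, show y ^ 8 = 1 from congrArg Subtype.val k, map_one]
  have h3 : ∀ σ : S4, σ ^ 3 = 1 → f.codRestrict M hf σ ∈ Cfsg.oddCore M := fun σ k => by
    rw [← QuotientGroup.eq_one_iff]
    show π _ = 1
    have k3 : π (f.codRestrict M hf σ) ^ 3 = 1 := by rw [← map_pow, ← map_pow, k, map_one, map_one]
    calc π (f.codRestrict M hf σ) = (π (f.codRestrict M hf σ) ^ 3) ^ 3 * (π (f.codRestrict M hf σ) ^ 8)⁻¹ := by
          group
      _ = 1 := by rw [k3, h8]; group
  have hz := mul_mem (h3 (swap 0 1 * swap 1 2) (by decide +kernel))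
    (h3 ((swap 0 1 * swap 1 2)⁻¹ * z0) (by decide +kernel))
  rw [← map_mul, mul_inv_cancel_left] at hz
  refine odd_card_iff.mp (coprime_two_iff.mp (H1.coprime_card_pPrimeCore (G := M) 2)) _ hz ?_
  rw [orderOf_injective _ (fun x y k => h.inj (congrArg Subtype.val k))]
  exact ord2_iff.mpr (by decide +kernel)

theorem case_s5 (e : M ≃* Perm (Fin 5)) : False := by
  have hM : Nat.card M = 120 := by rw [Nat.card_congr e.toEquiv, Nat.card_perm, Nat.card_fin]; rfl
  have hG : Nat.card G = 240 := by rw [card_G hi, hM]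
  set H := centralizer ({t} : Set G)
  have hH : H.index = 5 := by
    have := H.index_mul_card
    rw [h.card, hG] at this
    omega
  have hne : H ≠ ⊤ := fun k => by rw [k, index_top] at hH; omega
  have k1 : H.normalCore.index ∣ (H.index).factorial := by
    rw [normalCore_eq_ker, index_ker, index_eq_card, ← Nat.card_perm]
    exact card_subgroup_dvd_card (toPermHom G (G ⧸ H)).range
  have k2 : H.normalCore = ⊥ := h.eq_bot hi hf hne _ fun x hx hxM => by
    by_contra hx1
    have hn : ((H.normalCore.subgroupOf M).map e.toMonoidHom).Normal :=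
      Normal.map inferInstance _ e.surjective
    have hle := Perm.alternatingGroup_le_of_normal (α := Fin 5) (by simp)
      (N := (H.normalCore.subgroupOf M).map e.toMonoidHom)
      ((nontrivial_iff_ne_bot _).mpr fun k => hx1 (by
        rw [map_eq_bot_iff_of_injective _ e.injective] at k
        have : (⟨x, hxM⟩ : M) ∈ H.normalCore.subgroupOf M := hx
        rw [k, mem_bot] at this
        exact congrArg Subtype.val this))
    have k3 := card_dvd_of_le hle
    rw [H18.card_a5, card_map_of_injective e.injective, ← card_subtype, subgroupOf_map_subtype] at k3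
    have k4 := k3.trans (card_dvd_of_le (inf_le_left.trans H.normalCore_le))
    rw [h.card] at k4
    norm_num at k4
  rw [k2, index_bot, hG, hH] at k1
  norm_num [Nat.factorial] at k1

theorem case_a6 (e : M ≃* alternatingGroup (Fin 6)) : Nonempty (G ≃* Perm (Fin 6)) := by
  haveI := normal_of_index_eq_two hi
  have hM : Nat.card M = 360 := by rw [Nat.card_congr e.toEquiv, H18.card_a6]
  have hG : Nat.card G = 720 := by rw [card_G hi, hM]
  have hne : centralizer ({t} : Set G) ≠ ⊤ := fun k => by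
    have := h.card
    rw [k, card_top, hG] at this
    omega
  let β : G →* MulAut (alternatingGroup (Fin 6)) :=
    (MulAut.congr e).toMonoidHom.comp (MulAut.conjNormal (H := M))
  let γ : Perm (Fin 6) →* MulAut (alternatingGroup (Fin 6)) := MulAut.conjNormal
  have hβ : ∀ g (m : M), β g (e m) = e (MulAut.conjNormal g m) := fun g m => by simp [β]
  have hγ : Function.Injective γ := (injective_iff_map_eq_one _).mpr fun σ k =>
    H7.eq_one_of_comm_alt (by simp) fun g hg => by
      have := congrArg Subtype.val (MulEquiv.congr_fun k ⟨g, hg⟩)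
      simpa [γ, mul_inv_eq_iff_eq_mul] using this
  have hM' : ∀ m : M, β m = γ (e m) := fun m => by
    ext1 a
    obtain ⟨x, rfl⟩ := e.surjective a
    rw [hβ]
    refine Subtype.ext ?_
    have : MulAut.conjNormal (m : G) x = m * x * m⁻¹ := Subtype.ext rfl
    rw [this]
    simp [γ]
  have ht' : β t ∈ γ.range := by
    obtain ⟨σ, k⟩ := exists_conj_six (β t) (fun x => by
      rw [← MulAut.mul_apply, ← map_mul, h.tt, map_one, MulAut.one_apply])
      (x := e (f.codRestrict M hf (swap 0 1 * swap 1 2)))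
      (by rw [← map_mul, ← map_mul, ← map_mul, ← map_mul, show swap (0 : Fin 4) 1 * swap 1 2 * (swap 0 1 * swap 1 2) *
        (swap 0 1 * swap 1 2) = 1 by decide +kernel, map_one, map_one])
      (fun k => absurd (h.inj ((congrArg Subtype.val (e.injective (k.trans (map_one e).symm))).trans
        (map_one f).symm)) (by decide +kernel))
      (by rw [hβ]; congr 1; exact Subtype.ext (conj_eq_iff_commute.mpr (h.comm _)))
    exact ⟨σ, by ext1 a; exact Subtype.ext (k a).symm⟩
  have hr : ∀ g, β g ∈ γ.range := fun g => by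
    by_cases k : g ∈ M
    · exact ⟨_, (hM' ⟨g, k⟩).symm⟩
    · have k' : t * g ∈ M := by rw [mul_mem_iff_of_index_two hi]; simp [k, ht]
      have : β g = (β t)⁻¹ * β (t * g) := by rw [map_mul, inv_mul_cancel_left]
      rw [this]
      exact mul_mem (inv_mem ht') ⟨_, (hM' ⟨_, k'⟩).symm⟩
  let ψ : G →* Perm (Fin 6) := (MonoidHom.ofInjective hγ).symm.toMonoidHom.comp (β.codRestrict _ hr)
  have hψ : Function.Injective ψ := by
    rw [← MonoidHom.ker_eq_bot_iff]
    refine h.eq_bot hi hf hne _ fun x hx hxM => ?_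
    have k1 : β.codRestrict _ hr x = 1 :=
      (MonoidHom.ofInjective hγ).symm.injective (hx.trans (map_one _).symm)
    have k2 : γ (e ⟨x, hxM⟩) = 1 := (hM' ⟨x, hxM⟩).symm.trans (congrArg Subtype.val k1)
    have k3 : e ⟨x, hxM⟩ = 1 := Subtype.ext (hγ (k2.trans (map_one γ).symm))
    exact congrArg Subtype.val (e.injective (k3.trans (map_one e).symm))
  exact ⟨MulEquiv.ofBijective ψ ((Nat.bijective_iff_injective_and_card _).mpr ⟨hψ, by
    rw [hG, Nat.card_perm, Nat.card_fin]; rfl⟩)⟩

theorem case_168 [IsSimpleGroup M] (hM : Nat.card M = 168) : False := by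
  haveI := normal_of_index_eq_two hi
  haveI : Fact (Nat.Prime 7) := ⟨by norm_num⟩
  have hG : Nat.card G = 336 := by rw [card_G hi, hM]
  have hne : centralizer ({t} : Set G) ≠ ⊤ := fun k => by
    have := h.card
    rw [k, card_top, hG] at this
    omega
  obtain ⟨P⟩ : Nonempty (Sylow 7 G) := inferInstance
  have hc7 : ∀ Q : Sylow 7 G, Nat.card (Q : Subgroup G) = 7 := fun Q => by
    rw [card_sylow_of_eq Q (k := 1) (m := 48) (by rw [hG]; norm_num) (by norm_num), pow_one]
  have hPM : (P : Subgroup G) ≤ M := fun x hx => by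
    have k : x ^ 7 = 1 := by
      have := pow_card_eq_one' (x := (⟨x, hx⟩ : (P : Subgroup G)))
      rw [hc7] at this
      exact congrArg Subtype.val this
    have : x = (x * x)⁻¹ ^ 3 * x ^ 7 := by group
    rw [this, k, mul_one]
    exact pow_mem (inv_mem (by rw [mul_mem_iff_of_index_two hi])) 3
  have hfree : ∀ x ∈ (P : Subgroup G), ∀ Q : Sylow 7 G, Q ≠ P → x • Q = Q → x = 1 := by
    intro x hx Q hQ e
    by_contra h1
    have k1 : zpowers x = P := zpowers_eq_of_prime (by rw [hc7]; norm_num) hx h1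
    have k2 : (P : Subgroup G) ≤ Q := P.2.sylow_mem_fixedPoints_iff.mp (by
      rw [sylow_mem_fixedPoints_iff, ← k1, zpowers_le]
      exact Sylow.smul_eq_iff_mem_normalizer.mp e)
    exact hQ (Sylow.ext (P.3 Q.2 k2))
  have hnt : ¬ Subsingleton (Sylow 7 G) := fun k => by
    have hn := P.normal_of_subsingleton
    have k1 := Nat.card_congr (subgroupOfEquivOfLe hPM).toEquiv
    rw [hc7] at k1
    rcases (hn.subgroupOf M).eq_bot_or_eq_top with e | e <;> rw [e] at k1
    · simp at k1
    · rw [card_top, hM] at k1; omega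
  have h8 : Nat.card (Sylow 7 G) = 8 := by
    have k1 := card_sylow_modEq_one 7 G
    have k2 := P.card_dvd_index
    have k3 := (P : Subgroup G).index_mul_card
    rw [hc7, hG] at k3
    rw [show (P : Subgroup G).index = 48 by omega] at k2
    have k4 : Nat.card (Sylow 7 G) ≠ 1 := fun e => hnt (Nat.card_eq_one_iff_unique.mp e).1
    have k5 := Nat.le_of_dvd (by norm_num) k2
    generalize Nat.card (Sylow 7 G) = n at *
    unfold Nat.ModEq at k1
    interval_cases n <;> omega
  have hK : (toPermHom G (Sylow 7 G)).ker = ⊥ := h.eq_bot hi hf hne _ fun x hx hxM => by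
    rcases (Normal.subgroupOf (inferInstance : (toPermHom G (Sylow 7 G)).ker.Normal) M).eq_bot_or_eq_top with e | e
    · have : (⟨x, hxM⟩ : M) ∈ (toPermHom G (Sylow 7 G)).ker.subgroupOf M := hx
      rw [e, mem_bot] at this
      exact congrArg Subtype.val this
    · exfalso
      haveI := not_subsingleton_iff_nontrivial.mp hnt
      obtain ⟨Q, hQ⟩ := exists_ne P
      have k : (P : Subgroup G) = ⊥ := eq_bot_iff.mpr fun y hy =>
        hfree y hy Q hQ (Equiv.congr_fun (subgroupOf_eq_top.mp e (hPM hy)) Q)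
      have := hc7 P
      rw [k, card_bot] at this
      omega
  set T := centralizer ({f z0} : Set G) with hT
  have hst : Nat.card (stabilizer G P) = 42 := by
    have := (stabilizer G P).index_mul_card
    rw [P.stabilizer_eq_normalizer, ← P.card_eq_index_normalizer, h8, hG] at this
    rw [P.stabilizer_eq_normalizer]
    omega
  have hst2 : Nat.card (stabilizer G P ⊓ T : Subgroup G) ≤ 2 := by
    have k1 := card_dvd_of_le (inf_le_left : stabilizer G P ⊓ T ≤ _)
    have k2 := card_dvd_of_le (inf_le_right : stabilizer G P ⊓ T ≤ _)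
    rw [hst] at k1
    rw [h.cardT] at k2
    exact Nat.le_of_dvd (by norm_num) (by simpa using Nat.dvd_gcd k1 k2)
  have horb : ∀ X : Subgroup G, (sorb X P).ncard * Nat.card (stabilizer G P ⊓ X : Subgroup G) = Nat.card X :=
    fun X => by rw [ncard_sorb, relIndex_mul_card_inf]
  obtain ⟨s, ⟨hsP, hsT⟩, hs1⟩ : ∃ s ∈ stabilizer G P ⊓ T, s ≠ 1 := by
    by_contra k
    push Not at k
    have k1 := horb T
    rw [(eq_bot_iff_forall _).mpr k, card_bot, h.cardT] at k1
    have := Set.ncard_le_card (sorb T P)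
    omega
  have hC : 8 ≤ Nat.card (T ⊓ centralizer {s} : Subgroup G) := by
    have k1 := H15.Bd.iota_mul_card s T
    rw [← H15.Bd.card_conj_class, h.cardT] at k1
    have k2 : Nat.card {y // ∃ b ∈ T, b * s * b⁻¹ = y} ≤ 2 := by
      have : {y | ∃ b ∈ T, b * s * b⁻¹ = y} ⊆ {s, f z0 * s} := by
        rintro _ ⟨b, hb, rfl⟩
        rcases h.comm_T (mem_cent_iff_commute.mp hb) (mem_cent_iff_commute.mp hsT) with k | k
        · exact Or.inl (mul_inv_eq_one.mp k)
        · exact Or.inr (mul_inv_eq_iff_eq_mul.mp k)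
      exact (Set.ncard_le_ncard this).trans ((Set.ncard_insert_le _ _).trans (by simp))
    nlinarith
  have h3 : 2 < (sorb (T ⊓ centralizer {s}) P).ncard := by
    have k1 := horb (T ⊓ centralizer {s})
    have k2 := (card_le_of_le (inf_le_inf_left (stabilizer G P) (inf_le_left : T ⊓ centralizer {s} ≤ T))).trans hst2
    nlinarith
  have hfix : ∀ Q ∈ sorb (T ⊓ centralizer {s}) P, s • Q = Q := by
    rintro _ ⟨c, hc, rfl⟩
    rw [← mul_smul, ← (mem_cent_iff_commute.mp hc.2).eq, mul_smul, show s • P = P from hsP]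
  obtain ⟨Q, R, hQ, hR, hQP, hRP, hQR⟩ : ∃ Q R : Sylow 7 G, s • Q = Q ∧ s • R = R ∧ Q ≠ P ∧ R ≠ P ∧ Q ≠ R := by
    obtain ⟨a, ha, b, hb, c, hc, hab, hac, hbc⟩ := (Set.two_lt_ncard (Set.toFinite _)).mp h3
    by_cases k1 : a = P
    · exact ⟨b, c, hfix b hb, hfix c hc, k1 ▸ hab.symm, k1 ▸ hac.symm, hbc⟩
    by_cases k2 : b = P
    · exact ⟨a, c, hfix a ha, hfix c hc, k1, k2 ▸ hbc.symm, hac⟩
    · exact ⟨a, b, hfix a ha, hfix b hb, k1, k2, hab⟩
  have htr : sorb (P : Subgroup G) Q = {P}ᶜ := by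
    refine Set.eq_of_subset_of_ncard_le ?_ ?_
    · rintro _ ⟨x, hx, rfl⟩ e
      refine hQP (MulAction.injective x ((show x • Q = P from e).trans ?_))
      exact (Sylow.smul_eq_iff_mem_normalizer.mpr (le_normalizer hx)).symm
    · rw [Set.ncard_compl, h8, Set.ncard_singleton, ncard_sorb]
      have k1 := relIndex_mul_card_inf (stabilizer G Q) (P : Subgroup G)
      rw [hc7, (eq_bot_iff_forall (stabilizer G Q ⊓ (P : Subgroup G))).mpr fun x hx => hfree x hx.2 Q hQP hx.1,
        card_bot] at k1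
      omega
  have hsN : s ∈ normalizer ((P : Subgroup G) : Set G) := Sylow.smul_eq_iff_mem_normalizer.mp hsP
  obtain ⟨x, hx, e⟩ : R ∈ sorb (P : Subgroup G) Q := htr ▸ hRP
  have hx1 : x ≠ 1 := fun k => hQR (by rw [← e, k, one_smul])
  have hsx : Commute s x := by
    have k := hfree (x⁻¹ * (s * x * s⁻¹)) (mul_mem (inv_mem hx) ((mem_normalizer_iff.mp hsN x).mp hx)) Q hQP (by
      rw [mul_smul, mul_smul, mul_smul, inv_smul_eq_iff.mpr hQ.symm, e, hR, ← e, inv_smul_smul])
    exact conj_eq_iff_commute.mp (inv_mul_eq_one.mp k).symm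
  have k1 : zpowers x = P := zpowers_eq_of_prime (by rw [hc7]; norm_num) hx hx1
  have : s ∈ (toPermHom G (Sylow 7 G)).ker := by
    rw [MonoidHom.mem_ker]
    ext1 U
    show s • U = U
    by_cases k : U = P
    · rw [k]; exact hsP
    obtain ⟨y, hy, rfl⟩ : U ∈ sorb (P : Subgroup G) Q := htr ▸ k
    rw [← k1] at hy
    obtain ⟨n, rfl⟩ := hy
    rw [← mul_smul, (hsx.zpow_right n).eq, mul_smul, hQ]
  rw [hK, mem_bot] at this
  exact hs1 this

end Cfg

theorem Cfg.main (h : Cfg t f) : centralizer ({t} : Set G) = ⊤ ∨ Nonempty (G ≃* Perm (Fin 6)) := by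
  obtain ⟨f, M, h, hi, ht, hf⟩ := h.exists_M
  have hz : orderOf (⟨f z0, hf z0⟩ : M) = 2 := by
    rw [← orderOf_coe, orderOf_injective f h.inj]
    exact ord2_iff.mpr (by decide +kernel)
  rcases Cfsg.Agent.S3035.result _ hz (h.cent_M_equiv hi ht hf) with k | ⟨⟨e⟩⟩ | ⟨⟨e⟩⟩ | ⟨⟨e⟩⟩ | ⟨⟨e⟩⟩
  · exact (h.case_odd hi ht hf k).elim
  · left
    refine eq_top_of_card_eq _ ?_
    rw [h.card, Cfg.card_G hi, Nat.card_congr e.toEquiv, card_s4]
  · exact (h.case_s5 hi ht hf e).elim
  · obtain ⟨e'⟩ := H18.sl3_psl3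
    haveI := H22.PSL_fin_isSimpleGroup (F := ZMod 2) 3 (by norm_num) (by norm_num)
    haveI : IsSimpleGroup M := (e.trans e').isSimpleGroup
    exact (h.case_168 hi ht hf (by rw [Nat.card_congr e.toEquiv, H18.card_sl3])).elim
  · exact Or.inr (h.case_a6 hi ht hf e)

end H6.ZS4
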