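import Cfsg.Agent.H6.SI5

/-! Failure of factorization for groups with trivial intersection Sylow `2`-subgroups. -/

set_option autoImplicit false
set_option linter.unusedSectionVars false
set_option linter.unusedVariables false

namespace H6.AI

open Subgroup Cfsg H5 H5.Gd H6.SI
open H10 (IsSylowIn)

variable {Γ V : Type*} [Group Γ] [Finite Γ] [CommGroup V] [Finite V] [MulDistribMulAction Γ V]
  [FaithfulSMul Γ V]
variable {P A P' A' P'' A'' : Subgroup Γ} {a b g : Γ} {v w : V}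

/-- fixed points -/
def Fx (V : Type*) [CommGroup V] [MulDistribMulAction Γ V] (A : Subgroup Γ) : Subgroup V where
  carrier := {v | ∀ a ∈ A, a • v = v}
  mul_mem' h1 h2 a ha := by rw [smul_mul', h1 a ha, h2 a ha]
  one_mem' a _ := smul_one a
  inv_mem' h a ha := by rw [smul_inv', h a ha]

theorem mem_fx_cj : v ∈ Fx V (cj g A) ↔ g⁻¹ • v ∈ Fx V A :=
  ⟨fun h a ha => by rw [eq_inv_smul_iff, smul_smul, smul_smul, h _ (conj_mem_cj ha)], fun h a ha => by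
    have := h _ (H5.mem_cj.1 ha)
    rwa [smul_smul, mul_inv_cancel_right, mul_smul, smul_left_cancel_iff] at this⟩

theorem card_fx_cj : Nat.card (Fx V (cj g A)) = Nat.card (Fx V A) :=
  Nat.card_congr ((MulAction.toPerm g⁻¹).subtypeEquiv fun v => mem_fx_cj)

theorem odd_fix (h2 : IsPGroup 2 V) (ho : Odd (orderOf g)) (h : ∀ v : V, v * v = 1 → g • v = v) (v : V) :
    g • v = v := by
  obtain ⟨k, hk⟩ := h2 v
  induction k generalizing v with
  | zero => rw [pow_zero, pow_one] at hk; rw [hk, smul_one]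
  | succ k ih =>
    have k1 := ih (v * v) (by rw [← pow_two, ← pow_mul, ← pow_succ', hk])
    have k2 : g • v / v * (g • v / v) = 1 := by rw [div_mul_div_comm, ← smul_mul', k1, div_self']
    have k3 : ∀ n : ℕ, g ^ n • v = v * (g • v / v) ^ n := fun n => by
      induction n with
      | zero => simp
      | succ n ih => rw [pow_succ', mul_smul, ih, smul_mul', smul_pow', h _ k2, pow_succ', ← mul_assoc,
          mul_div_cancel]
    obtain ⟨m, hm⟩ := ho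
    have := k3 (orderOf g)
    rwa [pow_orderOf_eq_one, one_smul, hm, pow_succ, pow_mul, pow_two, k2, one_pow, one_mul,
      mul_div_cancel, eq_comm] at this

/-- a non-normal Sylow subgroup meeting its conjugates trivially -/
structure TI (P : Subgroup Γ) : Prop where
  syl : IsSylowIn 2 P ⊤
  ti : ∀ g, ∀ u ∈ P, u ≠ 1 → u ∈ cj g P → cj g P = P
  nn : ∃ g, cj g P ≠ P

theorem TI.cnj (h : TI P) (g : Γ) : TI (cj g P) := by
  refine ⟨h.syl.cj_top g, fun x u hu u1 k => ?_, h.nn.elim fun x hx => ⟨g * x * g⁻¹, fun e => hx ?_⟩⟩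
  · have := h.ti (g⁻¹ * x * g) _ (H5.mem_cj.1 hu) (fun e => u1 (by simpa using (conj_eq_one_iff (a := g⁻¹)).1 (by rwa [inv_inv]))) (by
      rw [mul_assoc g⁻¹ x, cj_mul, cj_mul, H5.mem_cj]; simpa only [inv_inv, mul_assoc, mul_inv_cancel_left,
        mul_inv_cancel, mul_one] using k)
    rwa [mul_assoc, cj_mul, cj_mul, ← (cj_injective g).eq_iff, cj_cj_inv] at this
  · rwa [← cj_mul, inv_mul_cancel_right, cj_mul, (cj_injective g).eq_iff] at e

theorem TI.om (h : TI P) (h2 : IsPGroup 2 V) (ha : a ∈ P) (k : ∀ v : V, v * v = 1 → a • v = v) : a = 1 := by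
  let K : Subgroup Γ :=
    { carrier := {a | ∀ v : V, v * v = 1 → a • v = v}
      mul_mem' := fun h1 h2 v hv => by rw [mul_smul, h2 v hv, h1 v hv]
      one_mem' := fun v _ => one_smul _ v
      inv_mem' := fun h v hv => by rw [inv_smul_eq_iff, h v hv] }
  have : K.Normal := ⟨fun x hx g v hv => by
    rw [mul_smul, mul_smul, hx _ (by rw [← smul_mul', hv, smul_one]), smul_inv_smul]⟩
  have hK : IsPGroup 2 K := fun x => (exists_odd_part x.1).imp fun m hm => Subtype.ext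
    (eq_of_smul_eq_smul fun v : V => (odd_fix h2 hm (pow_mem x.2 _) v).trans (one_smul _ v).symm)
  obtain ⟨g, hg⟩ := h.nn
  exact by_contra fun e => hg (h.ti g a ha e ((h.syl.cj_top g).le_of_NN hK le_top le_normalizer_of_normal k))

/-- a quadratic offender -/
structure FF (V : Type*) [CommGroup V] [MulDistribMulAction Γ V] (P A : Subgroup Γ) : Prop extends TI P where
  le : A ≤ P
  ne : A ≠ ⊥
  quad : ∀ a ∈ A, ∀ v : V, a • v / v ∈ Fx V A
  ff : (Fx V A).index ≤ Nat.card A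

theorem index_fx_cj : (Fx V (cj g A)).index = (Fx V A).index :=
  Nat.eq_of_mul_eq_mul_left Nat.card_pos (by
    rw [card_mul_index, card_fx_cj, card_mul_index])

theorem FF.cnj (h : FF V P A) (g : Γ) : FF V (cj g P) (cj g A) :=
  ⟨h.toTI.cnj g, cj_mono h.le, fun e => h.ne (cj_eq_bot_iff.1 e), fun a ha v => mem_fx_cj.2 (by
    simpa [smul_div', mul_smul] using h.quad _ (H5.mem_cj.1 ha) (g⁻¹ • v)), by
    rw [index_fx_cj, card_cj]; exact h.ff⟩

/-- an opposite pair -/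
def Op (V : Type*) [CommGroup V] [MulDistribMulAction Γ V] (P A P' A' : Subgroup Γ) : Prop :=
  FF V P A ∧ P' ≠ P ∧ ∃ g, P' = cj g P ∧ A' = cj g A

theorem FF.op (h : FF V P A) : ∃ P' A', Op V P A P' A' := h.nn.elim fun g hg => ⟨_, _, h, hg, g, rfl, rfl⟩

namespace Op
variable (h : Op V P A P' A')
include h

theorem symm : Op V P' A' P A := by
  obtain ⟨h1, h2, g, rfl, rfl⟩ := h
  exact ⟨h1.cnj g, h2.symm, g⁻¹, (cj_inv_cj _ _).symm, (cj_inv_cj _ _).symm⟩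

theorem card : Nat.card (Fx V A') = Nat.card (Fx V A) ∧ Nat.card A' = Nat.card A := by
  obtain ⟨h1, h2, g, rfl, rfl⟩ := h
  exact ⟨card_fx_cj, card_cj _ _⟩

theorem one (ha : a ∈ P) (hb : a ∈ P') : a = 1 := by
  obtain ⟨h1, h2, g, rfl, rfl⟩ := h
  exact by_contra fun e => h2 (h1.ti g a ha e hb)

theorem one' (hb : b ∈ P') (e : cj b P = P) : b = 1 :=
  h.one (h.1.syl.le_of_le_NN (h.symm.1.syl.isPGroup.to_le (zpowers_le.2 hb)) le_top
    (zpowers_le.2 (cj_eq_self_iff.1 e)) (mem_zpowers b)) hb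

theorem conj (hb : b ∈ P') (b1 : b ≠ 1) : Op V P A (cj b P) (cj b A) :=
  ⟨h.1, fun e => b1 (h.one' hb e), b, rfl, rfl⟩

theorem conj' (ha : a ∈ P) : Op V P A (cj a P') (cj a A') := by
  obtain ⟨h1, h2, g, rfl, rfl⟩ := h
  exact ⟨h1, fun e => h2 (cj_injective a (e.trans (cj_eq_of_mem ha).symm)), a * g, (cj_mul _ _ _).symm,
    (cj_mul _ _ _).symm⟩

theorem not_le : ¬ Fx V A ≤ Fx V A' := fun k => by
  have e := eq_of_le_of_card_ge k h.card.1.le
  obtain ⟨a, ha, a1⟩ := (bot_or_exists_ne_one A).resolve_left h.1.ne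
  obtain ⟨b, hb, b1⟩ := (bot_or_exists_ne_one A').resolve_left h.symm.1.ne
  have k1 : a * b = b * a := eq_of_smul_eq_smul fun v : V => by
    have k1 := k (h.1.quad a ha v) b hb
    have k2 := e.ge (h.symm.1.quad b hb v) a ha
    rw [smul_div', div_eq_iff_eq_mul] at k1 k2
    rw [mul_smul, mul_smul, k1, k2, div_mul_eq_mul_div, div_mul_eq_mul_div, mul_comm]
  have k2 := conj_mem_cj (g := b) (h.1.le ha)
  rw [← k1, mul_inv_cancel_right] at k2
  exact b1 (h.one' (h.symm.1.le hb) (h.1.ti b a (h.1.le ha) a1 k2))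

theorem key' (hm : ∀ P'' A'', Op V P A P'' A'' →
    Nat.card (Fx V A ⊓ Fx V A'' : Subgroup V) ≤ Nat.card (Fx V A ⊓ Fx V A' : Subgroup V))
    (hb : b ∈ A') (b1 : b ≠ 1) (hw : w ∈ Fx V A) (k : b • w ∈ Fx V A) : w ∈ Fx V A' := by
  have e := eq_of_le_of_card_ge (show Fx V A ⊓ Fx V A' ≤ Fx V A ⊓ Fx V (cj b A) from fun x hx =>
    ⟨hx.1, mem_fx_cj.2 (by rw [hx.2 _ (inv_mem hb)]; exact hx.1)⟩) (hm _ _ (h.conj (h.symm.1.le hb) b1))
  have k1 := (e.ge ⟨k, mem_fx_cj.2 (by rwa [inv_smul_smul])⟩).2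
  have := k1 _ (inv_mem hb)
  rw [inv_smul_smul] at this
  rwa [this]

theorem inj (key : ∀ b ∈ A', b ≠ 1 → b • w ∈ Fx V A → w ∈ Fx V A') (hw : w ∈ Fx V A) (h1 : w ∉ Fx V A') :
    Function.Injective fun b : A' => (QuotientGroup.mk ⟨b.1 • w / w, h.symm.1.quad b b.2 w⟩ :
      Fx V A' ⧸ (Fx V A).subgroupOf (Fx V A')) := fun b c e => by
  have k : (b.1 • w / w)⁻¹ * (c.1 • w / w) ∈ Fx V A := mem_subgroupOf.1 (QuotientGroup.eq.1 e)
  refine inv_mul_eq_one.1 (Subtype.ext (by_contra fun k1 => h1 (key _ (b⁻¹ * c).2 k1 ?_)))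
  have k2 := h.symm.1.quad c c.2 w b⁻¹ (inv_mem b.2)
  have k3 := h.symm.1.quad b b.2 w b⁻¹ (inv_mem b.2)
  rw [smul_div', div_eq_iff_eq_mul] at k2
  rw [smul_div', inv_smul_smul, div_eq_iff_eq_mul, ← inv_mul_eq_iff_eq_mul] at k3
  rw [coe_mul, mul_smul, coe_inv, k2, ← k3, mul_left_comm, ← mul_assoc]
  exact mul_mem k hw

theorem idx' (key : ∀ w ∈ Fx V A, ∀ b ∈ A', b ≠ 1 → b • w ∈ Fx V A → w ∈ Fx V A') :
    (Fx V A).relIndex (Fx V A') = Nat.card A ∧ (Fx V A).index = Nat.card A := by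
  obtain ⟨w, hw, h1⟩ := SetLike.not_le_iff_exists.1 h.not_le
  have k1 : Nat.card A' ≤ (Fx V A).relIndex (Fx V A') := Nat.card_le_card_of_injective _ (h.inj (key w hw) hw h1)
  have k2 := Nat.le_of_dvd (Nat.pos_of_ne_zero index_ne_zero_of_finite)
    (relIndex_dvd_index_of_normal (Fx V A) (Fx V A'))
  have := h.1.ff
  have := h.card.2
  omega

theorem key (hw : w ∈ Fx V A) (hb : b ∈ A') (b1 : b ≠ 1) (k : b • w ∈ Fx V A) : w ∈ Fx V A' := by
  obtain ⟨⟨P1, A1⟩, h1, h2⟩ := Set.exists_max_image {x : Subgroup Γ × Subgroup Γ | Op V P A x.1 x.2}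
    (fun x => Nat.card (Fx V A ⊓ Fx V x.2 : Subgroup V)) (Set.toFinite _) ⟨(P', A'), h⟩
  obtain ⟨k1, k2⟩ := idx' h1 fun w hw b hb b1 k => key' h1 (fun P'' A'' k => h2 (P'', A'') k) hb b1 hw k
  refine h.key' (fun P'' A'' k => (h2 (P'', A'') k).trans ?_) hb b1 hw k
  have k3 := H10.card_inf_mul_relIndex (Fx V A) (Fx V A1)
  have k4 := H10.card_inf_mul_relIndex (Fx V A) (Fx V A')
  have k5 := Nat.le_of_dvd (Nat.pos_of_ne_zero index_ne_zero_of_finite)
    (relIndex_dvd_index_of_normal (Fx V A) (Fx V A'))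
  rw [k1, (card h1).1, ← h.card.1, ← k4] at k3
  exact Nat.le_of_mul_le_mul_right (k3.le.trans (Nat.mul_le_mul_left _ (k5.trans k2.le))) Nat.card_pos

theorem idx : (Fx V A).relIndex (Fx V A') = Nat.card A ∧ (Fx V A).index = Nat.card A :=
  h.idx' fun w hw b hb => h.key hw hb

theorem surj (hw : w ∈ Fx V A) (h1 : w ∉ Fx V A') (hv : v ∈ Fx V A') :
    ∃ b ∈ A', (b • w / w)⁻¹ * v ∈ Fx V A := by
  obtain ⟨b, e⟩ := ((h.inj (fun b hb => h.key hw hb) hw h1).bijective_of_nat_card_le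
    (h.idx.1.trans h.card.2.symm).le).2 (QuotientGroup.mk ⟨v, hv⟩)
  exact ⟨b, b.2, mem_subgroupOf.1 (QuotientGroup.eq.1 e)⟩

theorem sup (v : V) : ∃ w ∈ Fx V A, ∃ w' ∈ Fx V A', w * w' = v := by
  have k := relIndex_mul_index (le_sup_left : Fx V A ≤ Fx V A ⊔ Fx V A')
  rw [relIndex_sup_left, h.idx.1, h.idx.2] at k
  exact mem_sup.1 ((index_eq_one.1 (Nat.eq_of_mul_eq_mul_left Nat.card_pos (k.trans (mul_one _).symm))).ge
    trivial)

theorem comm (hb : b ∈ A') (k : b • v / v ∈ Fx V A) : b • v = v := by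
  obtain ⟨w, hw, w', hw', rfl⟩ := h.sup v
  by_cases b1 : b = 1
  · rw [b1, one_smul]
  rw [smul_mul', hw' b hb, mul_div_mul_right_eq_div] at k
  rw [smul_mul', hw' b hb, h.key hw hb b1 (by simpa using mul_mem k hw) b hb]

theorem part (hv : v ∉ Fx V A) : ∃ a ∈ A, v ∈ Fx V (cj a A') := by
  obtain ⟨w, hw, w', hw', rfl⟩ := h.sup v
  obtain ⟨a, ha, k⟩ := h.symm.surj hw' (fun k => hv (mul_mem hw k)) hw
  have k1 := mul_mem (inv_mem (h.1.quad a ha w')) hw a⁻¹ (inv_mem ha)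
  refine ⟨a, ha, mem_fx_cj.2 ?_⟩
  rw [show w * w' = (a • w' / w')⁻¹ * w * a • w' by simp [div_eq_mul_inv, mul_comm, mul_left_comm],
    smul_mul', k1, inv_smul_smul]
  exact mul_mem k hw'

theorem trans (h' : Op V P A P'' A'') : ∃ a ∈ A, P'' = cj a P' := by
  obtain ⟨b, hb, b1⟩ := (bot_or_exists_ne_one A'').resolve_left h'.symm.1.ne
  obtain ⟨v, hv⟩ := not_forall.1 fun k : ∀ v : V, b • v = v =>
    b1 (eq_of_smul_eq_smul fun v : V => (k v).trans (one_smul _ v).symm)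
  obtain ⟨a, ha, k⟩ := h.part fun k => hv (h'.comm hb k)
  refine ⟨a, ha, by_contra fun e => hv (comm ⟨(h.conj' (h.1.le ha)).symm.1, e, ?_⟩ hb k)⟩
  obtain ⟨-, -, g, rfl, rfl⟩ := h
  obtain ⟨-, -, g', rfl, rfl⟩ := h'
  exact ⟨g' * (a * g)⁻¹, by rw [← cj_mul a, ← cj_mul, inv_mul_cancel_right],
    by rw [← cj_mul a, ← cj_mul, inv_mul_cancel_right]⟩

theorem eq : A = P := le_antisymm h.1.le fun s hs => by
  obtain ⟨a, ha, e⟩ := h.trans (h.conj' hs)
  rwa [← inv_mul_eq_one.1 (h.symm.one' (mul_mem (inv_mem (h.1.le ha)) hs) (by rw [cj_mul, e, cj_inv_cj]))]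

theorem fix (ha : a ∈ A) (a1 : a ≠ 1) (k : a • v = v) : v ∈ Fx V A := by
  obtain ⟨w, hw, w', hw', rfl⟩ := h.sup v
  rw [smul_mul', hw a ha, mul_right_inj] at k
  exact mul_mem hw (h.symm.key hw' ha a1 (k.symm ▸ hw'))

omit h in
theorem quad_mul (h : FF V P A) (ha : a ∈ A) (hb : b ∈ A) : (a * b) • v / v = a • v / v * (b • v / v) := by
  have := h.quad b hb v a ha
  rw [smul_div', div_eq_iff_eq_mul] at this
  rw [mul_smul, this, mul_div_assoc, mul_comm]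

theorem sq (ha : a ∈ A) : a * a = 1 := by
  obtain ⟨b, hb, ob⟩ := H10.exists_orderOf_eq_of_ne_bot (h.symm.1.syl.isPGroup.to_le h.symm.1.le) h.symm.1.ne
  obtain ⟨w, hw, h1⟩ := SetLike.not_le_iff_exists.1 h.not_le
  have k1 : b • w / w ∉ Fx V A := fun k => h1 (h.symm.fix hb (ne1 ob) (h.comm hb k))
  have k2 : b • w / w * (b • w / w) = 1 := by rw [← quad_mul h.symm.1 hb hb, sq1 ob, one_smul, div_self']
  refine by_contra fun e => k1 (h.fix (mul_mem ha ha) e (div_eq_one.1 ?_))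
  rw [quad_mul h.1 ha ha, div_mul_div_comm, ← smul_mul', k2, smul_one, div_one]

theorem dec (hv : v ∈ Fx V A) : ∃ a ∈ A, ∃ w, (a • w / w)⁻¹ * v ∈ Fx V A ⊓ Fx V A' := by
  obtain ⟨w, hw, h1⟩ := SetLike.not_le_iff_exists.1 h.symm.not_le
  obtain ⟨a, ha, k⟩ := h.symm.surj hw h1 hv
  exact ⟨a, ha, w, (Fx V A).mul_mem (inv_mem (h.1.quad a ha w)) hv, k⟩

theorem dec' (hv : v ∈ Fx V A) : ∃ d, d * d = 1 ∧ ∃ w ∈ Fx V A ⊓ Fx V A', v = d * w := by
  obtain ⟨a, ha, w, k⟩ := h.dec hv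
  exact ⟨a • w / w, by rw [← quad_mul h.1 ha ha, h.sq ha, one_smul, div_self'], _, k, (mul_inv_cancel_left _ _).symm⟩

theorem le_fx (g : Γ) : Fx V A ⊓ Fx V A' ≤ Fx V (cj g P) := fun v hv => by
  have e1 := h.eq
  have e2 := h.symm.eq
  subst e1 e2
  by_cases e : cj g A = A
  · rw [e]; exact hv.1
  obtain ⟨a, ha, e⟩ := h.trans ⟨h.1, e, g, rfl, rfl⟩
  rw [e, mem_fx_cj, hv.1 _ (inv_mem ha)]
  exact hv.2

end Op

/-- the elements fixed by all conjugates -/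
def ZF (V : Type*) [MulAction Γ V] (P : Subgroup Γ) (v : V) : Prop := ∀ g, ∀ a ∈ cj g P, a • v = v

namespace FF
variable (h : FF V P A)
include h

theorem eq : A = P := h.op.elim fun _ k => k.elim fun _ k => k.eq

theorem fix (ha : a ∈ P) (a1 : a ≠ 1) (k : a • v = v) : v ∈ Fx V P := by
  obtain ⟨_, _, o⟩ := h.op
  obtain rfl := h.eq
  exact o.fix ha a1 k

theorem om (v : V) : ∃ d, d * d = 1 ∧ ∃ w ∈ Fx V P, v = d * w := by
  obtain ⟨_, _, o⟩ := h.op
  obtain rfl := h.eq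
  obtain ⟨w, hw, w', hw', rfl⟩ := o.sup v
  obtain ⟨d, hd, y, hy, rfl⟩ := o.symm.dec' hw'
  exact ⟨d, hd, _, mul_mem hw hy.2, mul_left_comm _ _ _⟩

theorem sq (v : V) : ZF V P (v * v) := fun g => by
  obtain ⟨_, _, o⟩ := h.op
  obtain ⟨w, hw, w', hw', rfl⟩ := o.sup v
  obtain ⟨d, hd, y, hy, rfl⟩ := o.dec' hw
  obtain ⟨d', hd', y', hy', rfl⟩ := o.symm.dec' hw'
  rw [mul_mul_mul_comm (d * y), mul_mul_mul_comm d, mul_mul_mul_comm d', hd, hd', one_mul, one_mul]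
  exact o.le_fx g (mul_mem (mul_mem hy hy) (mul_mem ⟨hy'.2, hy'.1⟩ ⟨hy'.2, hy'.1⟩))

theorem out (e : cj g P ≠ P) (ha : a ∈ P) (k : g • (a • v / v) ∈ Fx V P) : a • v = v := by
  obtain rfl := h.eq
  have := Op.comm ⟨h, e, g, rfl, rfl⟩ (conj_mem_cj ha) (v := g • v) (by simpa [mul_smul, smul_div'] using k)
  simpa [mul_smul] using this

theorem zf (ha : a ∈ P) (k : ZF V P (a • v / v)) : a • v = v := h.nn.elim fun g hg =>
  h.out hg ha fun b hb => by
    have := k g⁻¹ _ (conj_mem_cj hb)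
    rwa [inv_inv, mul_smul, mul_smul, inv_smul_eq_iff] at this

theorem dec (hv : v ∈ Fx V P) : ∃ a ∈ P, ∃ w, ZF V P ((a • w / w)⁻¹ * v) := by
  obtain ⟨_, _, o⟩ := h.op
  obtain rfl := h.eq
  obtain ⟨a, ha, w, k⟩ := o.dec hv
  exact ⟨a, ha, w, fun g => o.le_fx g k⟩

variable (q : ∀ v w : V, v ∉ Fx V P → w ∉ Fx V P → v * w ∈ Fx V P)
include q

theorem two (ha : a ∈ P) (hb : b ∈ P) (a1 : a ≠ 1) (b1 : b ≠ 1) : a = b := by
  obtain ⟨_, _, o⟩ := h.op
  obtain rfl := h.eq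
  obtain ⟨w, hw, h1⟩ := SetLike.not_le_iff_exists.1 o.symm.not_le
  have k : Nat.card A = 2 := o.idx.2.symm.trans (index_eq_two_iff.2 ⟨w, fun v => by
    by_cases k : v ∈ Fx V A
    · exact Or.inr ⟨k, fun e => h1 ((mul_mem_cancel_left k).1 e)⟩
    · exact Or.inl ⟨q v w k h1, k⟩⟩)
  obtain ⟨y, -, hy⟩ := (Nat.card_eq_two_iff' (1 : A)).1 k
  exact congrArg Subtype.val ((hy ⟨a, ha⟩ fun e => a1 (congrArg Subtype.val e)).trans
    (hy ⟨b, hb⟩ fun e => b1 (congrArg Subtype.val e)).symm)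

theorem uniq (ha : a ∈ P) (hb : b ∈ P) (k1 : a • v ≠ v) (k2 : b • w ≠ w) : a • v / v = b • w / w := by
  obtain rfl := h.two q ha hb (fun e => k1 (by rw [e, one_smul])) fun e => k2 (by rw [e, one_smul])
  have := q v w⁻¹ (fun k => k1 (k a ha)) (fun k => k2 (inv_mem_iff.1 k a ha)) a ha
  rw [smul_mul', smul_inv', ← div_eq_mul_inv, ← div_eq_mul_inv] at this
  rwa [div_eq_div_iff_div_eq_div]

theorem fixz (e : cj g P = P) (ha : a ∈ P) (k : a • v ≠ v) : g • (a • v / v) = a • v / v := by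
  have := h.uniq q (e.le (conj_mem_cj ha)) ha (v := g • v) (by simpa [mul_smul] using k) k
  simpa [mul_smul, smul_div'] using this

theorem alt (ha : a ∈ P) (k : a • v ≠ v) (g : Γ) : g • (a • v / v) = a • v / v ∨ g • (a • v / v) ∉ Fx V P :=
  (em _).imp (fun e => h.fixz q e ha k) fun e k1 => k (h.out e ha k1)

theorem tr {g' : Γ} (ha : a ∈ P) (k : a • v ≠ v) (k1 : g • (a • v / v) ∉ Fx V P)
    (k2 : g' • (a • v / v) ∉ Fx V P) : ∃ b ∈ P, g' • (a • v / v) = b • g • (a • v / v) := by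
  have k3 : ∀ g, g • (a • v / v) ∉ Fx V P → Op V P A (cj g P) (cj g A) := fun g k1 =>
    ⟨h, fun e => k1 (by rw [h.fixz q e ha k, ← h.eq]; exact h.quad a (h.eq.ge ha) v), g, rfl, rfl⟩
  obtain ⟨b, hb, e⟩ := (k3 g k1).trans (k3 g' k2)
  refine ⟨b, h.le hb, ?_⟩
  rw [← mul_smul, ← inv_smul_eq_iff, ← mul_smul, h.fixz q (by rw [cj_mul, e, ← cj_mul b, cj_inv_cj]) ha k]

end FF

end H6.AI
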