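import Cfsg.Agent.H6.AI1
import Cfsg.Agent.H12.Alperin

/-! Abelian Sylow `2`-intersections: essential subgroups. -/

set_option autoImplicit false
set_option linter.unusedSectionVars false
set_option linter.unusedVariables false

namespace H6.AI

open Subgroup Cfsg H5 H5.Gd H6.SI
open scoped commutatorElement
open H10 (IsSylowIn)

variable {G : Type*} [Group G] [Finite G] {S D A P : Subgroup G} {a b c d e g h n s t u v w x y z : G}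

theorem ti_map {Γ : Type*} [Group Γ] [Finite Γ] {f : G →* Γ} (hf : Function.Surjective f)
    (hP : IsSylowIn 2 P ⊤) (hI : ∀ g, cj g P ≠ P → P ⊓ cj g P ≤ f.ker)
    (nn : ∃ g, g ∉ 𝒩((P ⊔ f.ker : Subgroup G))) : TI (P.map f) := by
  refine ⟨hP.map_top hf, ?_, nn.elim fun g hg => ⟨f g, fun e => hg (cj_eq_self_iff.1 ?_)⟩⟩
  · rintro g _ ⟨x, hx, rfl⟩ u1 k
    obtain ⟨h, rfl⟩ := hf g
    rw [← map_cj] at k
    obtain ⟨y, hy, e⟩ := k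
    obtain ⟨c, hc, k⟩ := ((H10.isSylowIn_self (hP.isPGroup.to_le (zpowers_le.2 hx))).sup
      (hP.inf_normal (N := f.ker) le_top le_normalizer_of_normal) le_normalizer_of_normal
      (le_normalizer_inf ((zpowers_le.2 hx).trans le_normalizer) le_normalizer_of_normal)).exists_cj_le
      ((hP.cj_top h).isPGroup.to_le (zpowers_le.2 hy)) (zpowers_le.2 (by
        simpa using mul_mem_sup (mem_zpowers x) (show x⁻¹ * y ∈ f.ker by simp [e])))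
    have k1 : cj (c * h) P = P := by_contra fun k1 => u1 (by
      have := hI _ k1 ⟨sup_le (zpowers_le.2 hx) inf_le_left (k (conj_mem_cj (mem_zpowers y))),
        (cj_mul c h P).ge (conj_mem_cj hy)⟩
      simpa [e] using this)
    have k2 : f c ∈ P.map f := map_le_iff_le_comap.1 (map_le_map_iff.2 (sup_le
      ((zpowers_le.2 hx).trans le_sup_left) le_sup_right)) hc
    rw [← (cj_injective (f c)).eq_iff, ← cj_mul, ← map_mul, ← map_cj, k1, cj_eq_of_mem k2]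
  · rw [← comap_map_eq, ← comap_map_eq_self (f := f) (H := cj g _)
      ((cj_eq_of_normal g f.ker).ge.trans (cj_mono (ker_le_comap f _))), map_cj,
      map_comap_eq_self_of_surjective hf, e]

/-- Sylow intersections are abelian -/
def Ab (G : Type*) [Group G] : Prop :=
  ∀ S : Subgroup G, IsSylowIn 2 S ⊤ → ∀ g, cj g S ≠ S → S ⊓ cj g S ≤ 𝒞((S ⊓ cj g S : Subgroup G))

/-- essential subgroups -/
structure Es (S D : Subgroup G) : Prop where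
  le : D ≤ S
  syl : IsSylowIn 2 (S ⊓ 𝒩(D)) 𝒩(D)
  cen : S ⊓ 𝒞(D) ≤ D
  nn : ∃ g ∈ 𝒩(D), g ∉ 𝒩(((S ⊓ 𝒩(D)) ⊔ 𝒞(D) : Subgroup G))

theorem Es.cnj (E : Es S D) (hn : n ∈ 𝒩(S)) : Es S (cj n D) := by
  have e := cj_eq_self_iff.2 hn
  refine ⟨(cj_mono E.le).trans e.le, ?_, ?_, E.nn.elim fun g hg => ⟨n * g * n⁻¹, ?_, fun k => hg.2 ?_⟩⟩
  · have := E.syl.cj n
    change IsSylowIn 2 (cj n _) (cj n _) at this
    rwa [cj_inf, e, cj_normalizer] at this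
  · have := cj_mono (g := n) E.cen
    rwa [cj_inf, e, cj_centralizer] at this
  · exact (cj_normalizer n D).le (conj_mem_cj hg.1)
  · rw [← cj_normalizer, ← cj_centralizer, ← e, ← cj_inf, ← cj_sup, ← cj_normalizer, H5.mem_cj] at k
    simpa [mul_assoc] using k

theorem Es.inter (E : Es S D) (hA : Ab G) (hS : IsSylowIn 2 S ⊤) (hg : g ∈ 𝒩(D))
    (k : g ∉ 𝒩((S ⊓ 𝒩(D) : Subgroup G))) : S ⊓ cj g S ≤ 𝒞(D) :=
  (hA S hS g fun e => k (zpowers_le.1 (le_normalizer_inf (zpowers_le.2 (cj_eq_self_iff.1 e))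
    ((zpowers_le.2 hg).trans le_normalizer)))).trans
    (centralizer_anti (le_inf E.le ((cj_eq_self_iff.2 hg).ge.trans (cj_mono E.le))))

theorem Es.comm (E : Es S D) (hA : Ab G) (hS : IsSylowIn 2 S ⊤) : D ≤ 𝒞(D) := by
  obtain ⟨g, hg, k⟩ := E.nn
  refine le_trans (le_inf E.le ((cj_eq_self_iff.2 hg).ge.trans (cj_mono E.le))) (E.inter hA hS hg fun e => k ?_)
  rw [← cj_eq_self_iff, cj_sup, cj_eq_self_iff.2 e, cj_centralizer, cj_eq_self_iff.2 hg]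

theorem fus {α : Type*} (hS : IsSylowIn 2 S ⊤) (f : G → α) (h1 : ∀ s ∈ S, ∀ a ∈ S, f (s * a * s⁻¹) = f a)
    (h2 : ∀ n ∈ 𝒩(S), Odd (orderOf n) → ∀ a ∈ S, f (n * a * n⁻¹) = f a)
    (h3 : ∀ D, Es S D → ∀ h ∈ 𝒩(D), ∀ u ∈ cj h (S ⊓ 𝒩(D)), ∀ a ∈ D, f (u * a * u⁻¹) = f a)
    (ha : a ∈ S) (hg : g * a * g⁻¹ ∈ S) : f (g * a * g⁻¹) = f a := by
  have hS' : H12.SylIn 2 S ⊤ := ⟨le_top, hS.isPGroup, hS.not_dvd_relIndex⟩
  have hF : H12.FusPredC S fun B g => ∀ a ∈ B, f (g * a * g⁻¹) = f a :=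
    ⟨⟨fun _ _ _ k1 k2 a ha => by
      rw [← k1 a ha, ← k2 _ (conj_mem_cj ha), mul_inv_rev]; simp only [mul_assoc],
      fun e _ _ k a ha => k a (e ha), fun _ _ k a ha => by
        rw [inv_inv, ← k _ (H5.mem_cj.1 ha)]; simp only [mul_assoc, mul_inv_cancel_left, mul_inv_cancel, mul_one]⟩,
      fun _ k a ha => by rw [← k a ha, mul_inv_cancel_right]⟩
  refine H12.alperin_ind_extremal hS' hF.toFusPred (fun U hU hs IH g _ hg => ?_) (zpowers a) (zpowers_le.2 ha) g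
    trivial (by rw [MonoidHom.map_zpowers]; exact zpowers_le.2 hg) a (mem_zpowers a)
  by_cases hc : S ⊓ 𝒞(U) ≤ U
  swap
  · exact H12.step_of_not_centric hF hU hs IH hc g trivial hg
  rw [top_inf_eq] at hs
  have hs := H10.isSylowIn_of_not_dvd hs.1 hs.2.1 hs.2.2
  let K : Subgroup G :=
    { carrier := {g | g ∈ 𝒩(U) ∧ ∀ a ∈ U, f (g * a * g⁻¹) = f a}
      mul_mem' := fun {x y} h1 h2 => ⟨mul_mem h1.1 h2.1, fun a ha => by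
        rw [← h2.2 a ha, ← h1.2 _ ((mem_normalizer_iff.1 h2.1 a).1 ha), mul_inv_rev]; simp only [mul_assoc]⟩
      one_mem' := ⟨one_mem _, by simp⟩
      inv_mem' := fun {x} h => ⟨inv_mem h.1, fun a ha => by
        rw [← h.2 _ ((mem_normalizer_iff.1 (inv_mem h.1) a).1 ha)]; simp [mul_assoc]⟩ }
  have k1 : S ⊓ 𝒩(U) ≤ K := fun s hs => ⟨hs.2, fun a ha => h1 s hs.1 a (hU ha)⟩
  have k2 : 𝒩(U) ⊓ 𝒩((S ⊓ 𝒩(U) : Subgroup G)) ≤ K := fun n hn => by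
    rcases hU.eq_or_lt with rfl | k
    · obtain ⟨m, j, hm, hj⟩ := exists_odd_pow_two_elt n
      obtain ⟨i, hi⟩ := exists_odd_part n
      have k3 : n ^ m ∈ K := k1 ⟨hS.le_of_le_NN (H10.isPGroup_zpowers hj) le_top
        (zpowers_le.2 (pow_mem hn.1 m)) (mem_zpowers _), pow_mem hn.1 m⟩
      have k4 : n ^ 2 ^ i ∈ K := ⟨pow_mem hn.1 _, h2 _ (pow_mem hn.1 _) hi⟩
      have := mul_mem (zpow_mem k3 (Nat.gcdA m (2 ^ i))) (zpow_mem k4 (Nat.gcdB m (2 ^ i)))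
      rwa [← zpow_natCast, ← zpow_natCast, ← zpow_mul, ← zpow_mul, ← zpow_add, ← Nat.gcd_eq_gcd_ab,
        (Nat.coprime_two_right.2 hm).pow_right i, Nat.cast_one, zpow_one] at this
    · obtain ⟨x, hx, x1, x2⟩ := exists_mem_normalizer_of_lt hS.isPGroup k
      exact ⟨hn.1, fun a ha => IH (S ⊓ 𝒩(U)) inf_le_left (H10.card_lt_of_lt (SetLike.lt_iff_le_and_exists.2
        ⟨le_inf hU le_normalizer, x, mem_inf.2 ⟨hx, x2⟩, x1⟩)) n trivial ((cj_eq_self_iff.2 hn.2).le.trans inf_le_left) a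
        ⟨hU ha, le_normalizer ha⟩⟩
  by_cases k : ∃ g ∈ 𝒩(U), g ∉ 𝒩(((S ⊓ 𝒩(U)) ⊔ 𝒞(U) : Subgroup G))
  · obtain ⟨x, hx, y, hy, rfl⟩ := (hs.of_le (H10.le_ncl _ _) (H10.ncl_le_of_le hs.le)).frattini'
      (H10.ncl_le_of_le hs.le) (H10.le_NN_ncl _ _) hg
    exact (K.mul_mem ((H10.ncl_le_iff (X := K)).2 (fun h hh u hu => ⟨cj_le_of_le hs.le (le_normalizer hh) hu,
      h3 U ⟨hU, hs, hc, k⟩ h hh u hu⟩) hx) (k2 hy)).2
  push Not at k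
  have k3 := sup_le hs.le (centralizer_le_normalizer _)
  obtain ⟨x, hx, y, hy, rfl⟩ := (hs.of_le le_sup_left k3).frattini' k3 k hg
  exact (K.mul_mem (sup_le k1 (fun c hc => ⟨centralizer_le_normalizer _ hc, hF.cent hU hc⟩) hx) (k2 hy)).2

/-- centralized by all conjugates of the Sylow subgroup of the normalizer -/
def ZG (S D : Subgroup G) (v : G) : Prop := ∀ h ∈ 𝒩(D), ∀ u ∈ cj h (S ⊓ 𝒩(D)), u * v = v * u

/-- `D ⊓ A` has index at most two in `D` -/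
def Q2 (D A : Subgroup G) : Prop := ∀ v ∈ D, ∀ w ∈ D, v ∉ A → w ∉ A → v * w ∈ A

/-- the commutator in the case of index two -/
structure ZD (S D A : Subgroup G) (z : G) : Prop where
  ne : z ≠ 1
  ex : ∃ u ∈ S ⊓ 𝒩(D), ∃ v ∈ D, ⁅u, v⁆ = z
  un : ∀ u ∈ S ⊓ 𝒩(D), ∀ v ∈ D, ⁅u, v⁆ = 1 ∨ ⁅u, v⁆ = z
  alt : ∀ h ∈ 𝒩(D), h * z * h⁻¹ = z ∨ h * z * h⁻¹ ∉ A
  out : ∃ h ∈ 𝒩(D), h * z * h⁻¹ ∉ A
  tr : ∀ h ∈ 𝒩(D), ∀ g ∈ 𝒩(D), h * z * h⁻¹ ∉ A → g * z * g⁻¹ ∉ A →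
    ∃ u ∈ S ⊓ 𝒩(D), g * z * g⁻¹ = u * (h * z * h⁻¹) * u⁻¹

/-- the consequences of failure of factorization -/
structure FG (S D A : Subgroup G) : Prop where
  dec : ∀ u ∈ S ⊓ 𝒩(D), ∃ d ∈ D, ∃ a ∈ A, u = d * a
  fix : ∀ u ∈ S ⊓ 𝒩(D), u ∉ D → ∀ v ∈ D, u * v = v * u → v ∈ A
  sq : ∀ v ∈ D, ZG S D (v * v)
  zf : ∀ u ∈ S ⊓ 𝒩(D), ∀ v ∈ D, ZG S D ⁅u, v⁆ → u * v = v * u
  om : ∀ v ∈ D, ∃ d ∈ D, d * d = 1 ∧ ∃ w ∈ D ⊓ A, v = d * w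
  dz : ∀ w ∈ D ⊓ A, ∃ u ∈ S ⊓ 𝒩(D), ∃ v ∈ D, ZG S D (⁅u, v⁆⁻¹ * w)
  two : Q2 D A → ∀ u ∈ S ⊓ 𝒩(D), ∀ v ∈ S ⊓ 𝒩(D), u ∉ D → v ∉ D → u⁻¹ * v ∈ D
  zd : Q2 D A → ∃ z, ZD S D A z

namespace Es
variable (E : Es S D) (hA : Ab G) (hS : IsSylowIn 2 S ⊤)
include E hA hS

theorem ti : TI (((S ⊓ 𝒩(D)).subgroupOf 𝒩(D)).map D.normalizerMonoidHom.rangeRestrict) := by
  have hk : D.normalizerMonoidHom.rangeRestrict.ker = (𝒞(D)).subgroupOf _ := by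
    rw [MonoidHom.ker_rangeRestrict, normalizerMonoidHom_ker]
  have hc : ∀ g : 𝒩(D), ∀ X : Subgroup G, cj g (X.subgroupOf 𝒩(D)) = (cj g.1 X).subgroupOf _ := fun g X => by
    ext x; rw [H5.mem_cj, mem_subgroupOf, mem_subgroupOf, H5.mem_cj]; rfl
  refine ti_map (MonoidHom.rangeRestrict_surjective _) (H10.isSylowIn_subgroupOf_top E.syl)
    (fun g k x hx => hk.ge (E.inter hA hS g.2 (fun e => k ?_) ⟨hx.1.1, cj_mono inf_le_left ((hc g _).le hx.2)⟩))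
    (E.nn.elim fun g hg => ⟨⟨g, hg.1⟩, fun k => hg.2 ?_⟩)
  · rw [hc, cj_eq_self_iff.2 e]
  · rw [hk, ← subgroupOf_sup E.syl.le (centralizer_le_normalizer _), ← cj_eq_self_iff, hc] at k
    have k3 := sup_le E.syl.le (centralizer_le_normalizer (D : Set G))
    have := congrArg (map (Subgroup.subtype _)) k
    rwa [subgroupOf_map_subtype, subgroupOf_map_subtype, inf_eq_left.2 k3,
      inf_eq_left.2 (cj_le_of_le k3 (le_normalizer hg.1)), cj_eq_self_iff] at this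

theorem om (hu : u ∈ S ⊓ 𝒩(D)) (k : ∀ v ∈ D, v * v = 1 → u * v = v * u) : u ∈ D := by
  letI : CommGroup D := { (inferInstance : Group D) with mul_comm := fun a b => Subtype.ext (E.comm hA hS b.2 a a.2) }
  have := (E.ti hA hS).om (V := D) (hS.isPGroup.to_le E.le) (mem_map_of_mem _ (show ⟨u, hu.2⟩ ∈ _ from hu))
    fun v hv => Subtype.ext (mul_inv_eq_iff_eq_mul.2 (k v v.2 (congrArg Subtype.val hv)))
  exact E.cen ⟨hu.1, (normalizerMonoidHom_ker D).le (congrArg Subtype.val this)⟩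

theorem fg (h1 : A ≤ S ⊓ 𝒩(D)) (h2 : A ≤ 𝒞(A)) (h3 : D ≤ 𝒩(A)) (h4 : ¬ A ≤ D)
    (h5 : Nat.card D ≤ Nat.card A) (h6 : S ⊓ 𝒞(A) ≤ A) : FG S D A := by
  have hD := E.comm hA hS
  letI : CommGroup D := { (inferInstance : Group D) with mul_comm := fun a b => Subtype.ext (hD b.2 a a.2) }
  have T := E.ti hA hS
  have hs := D.normalizerMonoidHom.rangeRestrict_surjective
  set ψ := D.normalizerMonoidHom.rangeRestrict
  have hk : ∀ x, ψ x = 1 ↔ x.1 ∈ 𝒞(D) := fun x => by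
    rw [← MonoidHom.mem_ker, MonoidHom.ker_rangeRestrict, normalizerMonoidHom_ker, mem_subgroupOf]
  have hv : ∀ (x : 𝒩(D)) (v : D), (ψ x • v).1 = x * v * x⁻¹ := fun _ _ => rfl
  have hw : ∀ (x : 𝒩(D)) (v : D), ψ x • v = v ↔ x.1 * v = v * x := fun x v => by
    rw [Subtype.ext_iff, hv, coe_inv, mul_inv_eq_iff_eq_mul]
  have hu : ∀ (x : 𝒩(D)) (v : D), (ψ x • v / v).1 = ⁅x.1, v.1⁆ := fun x v => by
    rw [div_eq_mul_inv]; rfl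
  have F : FF D (((S ⊓ 𝒩(D)).subgroupOf 𝒩(D)).map ψ) ((A.subgroupOf 𝒩(D)).map ψ) := by
    refine ⟨T, map_mono (comap_mono h1), fun e => h4 fun a ha => E.cen ⟨(h1 ha).1, (hk ⟨a, (h1 ha).2⟩).1
      (mem_bot.1 (e.le (mem_map_of_mem ψ ha)))⟩, ?_, ?_⟩
    · rintro _ ⟨a, ha, rfl⟩ v _ ⟨b, hb, rfl⟩
      rw [hw, hu]
      refine h2 ?_ b hb
      simpa [commutatorElement_def, mul_assoc] using
        A.mul_mem ha ((mem_normalizer_iff.1 (h3 v.2) _).1 (A.inv_mem ha))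
    · have k1 : (Fx D ((A.subgroupOf 𝒩(D)).map ψ)).index ≤ A.relIndex D :=
        Nat.le_of_dvd (Nat.pos_of_ne_zero index_ne_zero_of_finite) (index_dvd_of_le (by
          rintro v hv _ ⟨b, hb, rfl⟩
          exact (hw _ _).2 (h2 hv b hb)))
      have k2 : D.relIndex A ≤ Nat.card ((A.subgroupOf 𝒩(D)).map ψ) := by
        rw [← relIndex_ker, ← relIndex_subgroupOf (h1.trans inf_le_right), ← inf_relIndex_right ψ.ker]
        exact Nat.le_of_dvd (Nat.pos_of_ne_zero index_ne_zero_of_finite) (relIndex_dvd_of_le_left _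
          fun x hx => E.cen ⟨(h1 hx.2).1, (hk x).1 hx.1⟩)
      have k3 := H10.card_inf_mul_relIndex A D
      have k4 := H10.card_inf_mul_relIndex D A
      rw [← k3, ← k4, inf_comm] at h5
      exact k1.trans ((Nat.le_of_mul_le_mul_left h5 Nat.card_pos).trans k2)
  have e := F.eq
  have m : ∀ u (hu : u ∈ S ⊓ 𝒩(D)), ψ ⟨u, hu.2⟩ ∈ ((S ⊓ 𝒩(D)).subgroupOf 𝒩(D)).map ψ :=
    fun u hu => mem_map_of_mem ψ hu
  have hx : ∀ v : D, v ∈ Fx D (((S ⊓ 𝒩(D)).subgroupOf 𝒩(D)).map ψ) ↔ v.1 ∈ A := fun v => by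
    rw [← e]
    refine ⟨fun k => h6 ⟨E.le v.2, fun a ha => (hw ⟨a, (h1 ha).2⟩ v).1 (k _ (mem_map_of_mem ψ ha))⟩, ?_⟩
    rintro hv _ ⟨b, hb, rfl⟩
    exact (hw _ _).2 (h2 hv b hb)
  have hz : ∀ v : D, ZF D (((S ⊓ 𝒩(D)).subgroupOf 𝒩(D)).map ψ) v ↔ ZG S D v.1 := fun v => by
    refine ⟨fun k h hh u hu => (hw ⟨u, cj_le_of_le inf_le_right (le_normalizer hh) hu⟩ v).1 (k (ψ ⟨h, hh⟩) _ ?_),
      fun k g a ha => ?_⟩
    · rw [← map_cj]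
      exact mem_map_of_mem ψ (H5.mem_cj.2 (mem_subgroupOf.2 (H5.mem_cj.1 hu)))
    · obtain ⟨g, rfl⟩ := hs g
      rw [← map_cj] at ha
      obtain ⟨a, ha, rfl⟩ := ha
      exact (hw _ _).2 (k g g.2 a (H5.mem_cj.2 (mem_subgroupOf.1 (H5.mem_cj.1 ha))))
  have o : ∀ u (hu : u ∈ S ⊓ 𝒩(D)), u ∉ D → ψ ⟨u, hu.2⟩ ≠ 1 := fun u hu k e => k (E.cen ⟨hu.1, (hk _).1 e⟩)
  have q : Q2 D A → ∀ v w : D, v ∉ Fx D (((S ⊓ 𝒩(D)).subgroupOf 𝒩(D)).map ψ) →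
      w ∉ Fx D (((S ⊓ 𝒩(D)).subgroupOf 𝒩(D)).map ψ) → v * w ∈ Fx D (((S ⊓ 𝒩(D)).subgroupOf 𝒩(D)).map ψ) :=
    fun k v w k1 k2 => (hx _).2 (k v v.2 w w.2 (mt (hx v).2 k1) (mt (hx w).2 k2))
  refine ⟨fun u hu => ?_, fun u hu k v hv k1 => (hx ⟨v, hv⟩).1 (F.fix (m u hu) (o u hu k) ((hw _ _).2 k1)),
    fun v hv => (hz _).1 (F.sq ⟨v, hv⟩), fun u h v h' k => (hw ⟨u, h.2⟩ ⟨v, h'⟩).1
      (F.zf (m u h) ((hz _).2 (by rwa [hu]))), fun v hv => ?_, fun w hw => ?_,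
    fun k u hu v hv k1 k2 => E.cen ⟨S.mul_mem (S.inv_mem hu.1) hv.1, (hk (⟨u, hu.2⟩⁻¹ * ⟨v, hv.2⟩)).1 (by
      rw [map_mul, map_inv, F.two (q k) (m u hu) (m v hv) (o u hu k1) (o v hv k2), inv_mul_cancel])⟩,
    fun k => ?_⟩
  · obtain ⟨a, ha, k⟩ := e.ge (m u hu)
    exact ⟨u * a.1⁻¹, E.cen ⟨S.mul_mem hu.1 (S.inv_mem (h1 ha).1), (hk (⟨u, hu.2⟩ * a⁻¹)).1 (by simp [k])⟩,
      a, ha, by simp⟩
  · obtain ⟨d, k1, w, k2, k3⟩ := F.om ⟨v, hv⟩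
    exact ⟨d, d.2, congrArg Subtype.val k1, w, ⟨w.2, (hx w).1 k2⟩, congrArg Subtype.val k3⟩
  · obtain ⟨_, ⟨a, ha, rfl⟩, v, k⟩ := F.dec ((hx ⟨w, hw.1⟩).2 hw.2)
    exact ⟨a, ha, v, v.2, hu a v ▸ (hz _).1 k⟩
  obtain ⟨_, ⟨a, ha, rfl⟩, a1⟩ := (bot_or_exists_ne_one _).resolve_left (e ▸ F.ne)
  obtain ⟨v, v1⟩ := not_forall.1 fun k : ∀ v : D, ψ a • v = v =>
    a1 (eq_of_smul_eq_smul fun v : D => (k v).trans (one_smul _ v).symm)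
  have ma := mem_map_of_mem ψ ha
  have hy : ∀ g : 𝒩(D), (ψ g • (ψ a • v / v)).1 = g * ⁅a.1, v.1⁆ * g.1⁻¹ := fun g => by rw [hv, hu]; rfl
  refine ⟨⁅a.1, v.1⁆, fun e => v1 ((hw _ _).2 (commutatorElement_eq_one_iff_mul_comm.1 e)),
    ⟨a, ha, v, v.2, rfl⟩, fun u h w h' => (em _).imp_right fun k1 => ?_,
    fun h hh => (F.alt (q k) ma v1 (ψ ⟨h, hh⟩)).imp (fun e => by rw [← hy ⟨h, hh⟩, e, hu])
      fun e k => e ((hx _).2 (by rwa [hy])), ?_, fun h hh g hg k1 k2 => ?_⟩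
  · exact (hu ⟨u, h.2⟩ ⟨w, h'⟩).symm.trans ((congrArg Subtype.val (F.uniq (q k) (m u h) ma
      (fun e => k1 (commutatorElement_eq_one_iff_mul_comm.2 ((hw _ _).1 e))) v1)).trans (hu a v))
  · obtain ⟨g, hg⟩ := T.nn
    obtain ⟨g, rfl⟩ := hs g
    exact ⟨g, g.2, fun k => v1 (F.out hg ma ((hx _).2 (by rwa [hy])))⟩
  · obtain ⟨_, ⟨u, hu, rfl⟩, e⟩ := F.tr (q k) (g := ψ ⟨h, hh⟩) (g' := ψ ⟨g, hg⟩) ma v1
      (fun e => k1 (by rw [← hy ⟨h, hh⟩]; exact (hx _).1 e)) fun e => k2 (by rw [← hy ⟨g, hg⟩]; exact (hx _).1 e)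
    exact ⟨u, hu, by rw [← hy ⟨g, hg⟩, e, hv, hy]; rfl⟩

end Es

end H6.AI
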