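import Cfsg.Agent.H6.AI2
import Cfsg.Agent.H6.Fus

/-! Abelian Sylow `2`-intersections: pairs of essential subgroups. -/

set_option autoImplicit false
set_option linter.unusedSectionVars false
set_option linter.unusedVariables false

namespace H6.AI

open Subgroup Cfsg H5 H5.Gd H6.SI
open scoped commutatorElement
open H10 (IsSylowIn)

variable {G : Type*} [Group G] [Finite G] {S D A D' A' B P Z : Subgroup G}
  {a b c d e g h k n s t u v w x y z : G}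

theorem comm_mem (h1 : A ≤ 𝒩(D)) (h2 : A ≤ 𝒞(A)) (hd : d ∈ D) (he : e ∈ D) (ha : a ∈ A) (hb : b ∈ A) :
    ⁅d * a, e * b⁆ ∈ D := by
  have : ⁅d * a, e * b⁆ = d * (a * e * a⁻¹) * (b * d⁻¹ * b⁻¹) * e⁻¹ := by
    calc _ = d * (a * e * a⁻¹) * (a * b) * a⁻¹ * d⁻¹ * b⁻¹ * e⁻¹ := by group
      _ = _ := by rw [h2 hb a ha]; group
  rw [this]
  exact mul_mem (mul_mem (mul_mem hd ((mem_normalizer_iff.1 (h1 ha) e).1 he))
    ((mem_normalizer_iff.1 (h1 hb) _).1 (inv_mem hd))) (inv_mem he)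

theorem FG.der (F : FG S D A) (h1 : A ≤ 𝒩(D)) (h2 : D ≤ 𝒩(A)) (h3 : A ≤ 𝒞(A)) (h4 : D ≤ 𝒞(D))
    (hu : u ∈ S ⊓ 𝒩(D)) (hv : v ∈ S ⊓ 𝒩(D)) : ⁅u, v⁆ ∈ D ⊓ A := by
  obtain ⟨d, hd, a, ha, rfl⟩ := F.dec u hu
  obtain ⟨e, he, b, hb, rfl⟩ := F.dec v hv
  refine ⟨comm_mem h1 h3 hd he ha hb, ?_⟩
  have := comm_mem h2 h4 ((mem_normalizer_iff.1 (h2 hd) a).1 ha) ((mem_normalizer_iff.1 (h2 he) b).1 hb) hd he
  rwa [inv_mul_cancel_right, inv_mul_cancel_right] at this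

theorem FG.cen (F : FG S D A) (h3 : A ≤ 𝒞(A)) (h4 : D ≤ 𝒞(D)) (hu : u ∈ S ⊓ 𝒩(D)) (hw : w ∈ D ⊓ A) :
    u * w = w * u := by
  obtain ⟨d, hd, a, ha, rfl⟩ := F.dec u hu
  rw [mul_assoc, h3 hw.2 a ha, ← mul_assoc, h4 hw.1 d hd, mul_assoc]

theorem ZG.cnj (hv : ZG S D v) (hn : n ∈ 𝒩(S)) : ZG S (cj n D) (n * v * n⁻¹) := fun h hh u hu => by
  rw [← cj_normalizer, H5.mem_cj] at hh
  have := hv _ hh (n⁻¹ * u * n) (by
    rw [← cj_normalizer, ← cj_eq_self_iff.2 hn, ← cj_inf, H5.mem_cj, H5.mem_cj] at hu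
    rw [H5.mem_cj]; simpa [mul_assoc] using hu)
  calc _ = n * (n⁻¹ * u * n * v) * n⁻¹ := by group
    _ = _ := by rw [this]; group

/-- the standing hypotheses -/
structure Hy (S : Subgroup G) : Prop where
  ab : Ab G
  syl : IsSylowIn 2 S ⊤
  sc : ∀ B ≤ S, B ≤ 𝒞(B) → (∀ x ∈ B, ∀ g, g * x * g⁻¹ ∈ S → g * x * g⁻¹ ∈ B) → B = ⊥
  pf : commutator G = ⊤
  c2 : ¬ ⁅S, S⁆ ≤ 𝒞(S)

/-- a pair of essential subgroups with the same normalizer -/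
structure PE (S D A : Subgroup G) : Prop where
  e1 : Es S D
  e2 : Es S A
  ne : A ≠ D
  eq : S ⊓ 𝒩(A) = S ⊓ 𝒩(D)
  card : Nat.card A = Nat.card D
  nn : ¬ S ≤ 𝒩(D)

theorem PE.symm (N : PE S D A) : PE S A D :=
  ⟨N.e2, N.e1, N.ne.symm, N.eq.symm, N.card.symm, fun k => N.nn fun s hs => (N.eq.le ⟨hs, k hs⟩).2⟩

theorem PE.cnj (N : PE S D A) (hn : n ∈ 𝒩(S)) : PE S (cj n D) (cj n A) := by
  have e := cj_eq_self_iff.2 hn
  refine ⟨N.e1.cnj hn, N.e2.cnj hn, fun k => N.ne (cj_injective n k), ?_, by rw [card_cj, card_cj, N.card],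
    fun k => N.nn ?_⟩
  · rw [← cj_normalizer, ← cj_normalizer, ← e, ← cj_inf, ← cj_inf, N.eq]
  · rw [← cj_normalizer, ← e] at k
    simpa only [cj_inv_cj] using cj_mono (g := n⁻¹) k

theorem PE.le (N : PE S D A) : D ≤ S ⊓ 𝒩(D) := le_inf N.e1.le le_normalizer

theorem PE.le' (N : PE S D A) : A ≤ S ⊓ 𝒩(D) := N.symm.le.trans N.eq.le

theorem PE.nle (N : PE S D A) : ¬ A ≤ D := fun k => N.ne (eq_of_le_of_card_ge k N.card.ge)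

theorem Es.pe (E : Es S D) (h2 : IsPGroup 2 S) (nn : ¬ S ≤ 𝒩(D)) : ∃ A, PE S D A := by
  obtain ⟨x, hx, x1, x2⟩ := exists_mem_normalizer_of_lt h2
    (lt_of_le_of_ne inf_le_left fun e : S ⊓ 𝒩(D) = S => nn (inf_eq_left.1 e))
  exact ⟨cj x D, E, E.cnj (le_normalizer hx), fun e => x1 ⟨hx, cj_eq_self_iff.1 e⟩, by
    rw [← cj_normalizer, ← cj_eq_of_mem hx, ← cj_inf, cj_eq_self_iff.2 x2, cj_eq_of_mem hx], card_cj _ _, nn⟩

namespace Hy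
variable (H : Hy S)
include H

theorem comm (E : Es S D) : D ≤ 𝒞(D) := E.comm H.ab H.syl

theorem scl (h3 : ∀ n ∈ 𝒩(S), ∀ a ∈ B, n * a * n⁻¹ ∈ B)
    (h4 : ∀ D, Es S D → ∀ h ∈ 𝒩(D), ∀ u ∈ cj h (S ⊓ 𝒩(D)), ∀ a ∈ D, a ∈ B → u * a * u⁻¹ ∈ B)
    (hx : x ∈ S) (hg : g * x * g⁻¹ ∈ S) : (g * x * g⁻¹ ∈ B) = (x ∈ B) := by
  have k : ∀ n ∈ 𝒩(S), ∀ a ∈ S, (n * a * n⁻¹ ∈ B) = (a ∈ B) := fun n hn a _ =>
    propext ⟨fun k => by simpa [mul_assoc] using h3 _ (inv_mem hn) _ k, h3 n hn a⟩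
  refine fus H.syl (· ∈ B) (fun s hs => k s (le_normalizer hs)) (fun n hn _ => k n hn)
    (fun D E h hh u hu a ha => propext ⟨fun k => ?_, h4 D E h hh u hu a ha⟩) hx hg
  simpa [mul_assoc] using h4 D E h hh _ (inv_mem hu) _
    ((mem_normalizer_iff.1 (cj_le_of_le inf_le_right (le_normalizer hh) hu) a).1 ha) k

theorem bot (h1 : B ≤ S) (h2 : B ≤ 𝒞(B)) (h3 : ∀ n ∈ 𝒩(S), ∀ a ∈ B, n * a * n⁻¹ ∈ B)
    (h4 : ∀ D, Es S D → ∀ h ∈ 𝒩(D), ∀ u ∈ cj h (S ⊓ 𝒩(D)), ∀ a ∈ D, a ∈ B → u * a * u⁻¹ ∈ B) : B = ⊥ :=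
  H.sc B h1 h2 fun x hx g hg => (H.scl h3 h4 (h1 hx) hg).mpr hx

theorem foc (h : ∀ a ∈ S, ∀ g, g * a * g⁻¹ ∈ S → a⁻¹ * (g * a * g⁻¹) ∈ B) : S ≤ B :=
  le_trans (le_inf le_rfl (le_top.trans H.pf.ge)) (H12.SylIn.inf_commutator_le (p := 2) (H := ⊤)
    ⟨le_top, H.syl.isPGroup, H.syl.not_dvd_relIndex⟩ fun a ha g _ => h a ha g)

theorem zg (h1 : Z ≤ S) (h2 : Z ≤ 𝒞(Z)) (h3 : 𝒩(S) ≤ 𝒩(Z)) (hb : b ∈ Z) (h4 : ∀ D, Es S D → ZG S D b) :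
    b = 1 := by
  let B : Subgroup G :=
    { carrier := {b | b ∈ Z ∧ ∀ D, Es S D → ZG S D b}
      mul_mem' := fun k1 k2 => ⟨mul_mem k1.1 k2.1, fun D E h hh u hu =>
        Commute.mul_right (k1.2 D E h hh u hu) (k2.2 D E h hh u hu)⟩
      one_mem' := ⟨one_mem _, fun _ _ _ _ _ _ => Commute.one_right _⟩
      inv_mem' := fun k => ⟨inv_mem k.1, fun D E h hh u hu => Commute.inv_right (k.2 D E h hh u hu)⟩ }
  exact mem_bot.1 ((H.bot (B := B) (fun x hx => h1 hx.1) (fun x hx y hy => h2 hx.1 y hy.1)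
    (fun n hn a ha => ⟨(mem_normalizer_iff.1 (h3 hn) a).1 ha.1, fun D E => by
      simpa only [cj_cj_inv] using (ha.2 _ (E.cnj (inv_mem hn))).cnj hn⟩)
    fun D E h hh u hu a _ ha => by rwa [ha.2 D E h hh u hu, mul_inv_cancel_right]).le ⟨hb, h4⟩)

theorem ne_bot : S ≠ ⊥ := fun e => H.c2 (by simp [e])

theorem ex_es : ∃ D, Es S D := by
  by_contra k
  have := (nontrivial_iff_ne_bot _).2 H.ne_bot
  have := H.syl.isPGroup.center_nontrivial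
  obtain ⟨z, z1⟩ := exists_ne (1 : center S)
  exact z1 (Subtype.ext (Subtype.ext (H.zg (Z := S ⊓ 𝒞(S)) inf_le_left (fun x hx y hy => hx.2 y hy.1)
    (le_normalizer_inf le_rfl (normalizer_le_normalizer_centralizer _))
    ⟨z.1.2, fun y hy => congrArg Subtype.val (mem_center_iff.1 z.2 ⟨y, hy⟩)⟩ fun D E => (k ⟨D, E⟩).elim)))

theorem ex_pe : ∃ D A, PE S D A := by
  by_contra k
  have k1 : ∀ D, Es S D → S ≤ 𝒩(D) := fun D E => by_contra fun e => k ⟨D, E.pe H.syl.isPGroup e⟩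
  have k2 : ∀ D A, Es S D → Es S A → Nat.card D ≤ Nat.card A → A = D := fun D A E E' hc => by_contra fun e => by
    have F := E.fg H.ab H.syl (le_inf E'.le (E'.le.trans (k1 D E))) (H.comm E') (E.le.trans (k1 A E'))
      (fun k => e (eq_of_le_of_card_ge k hc)) hc E'.cen
    exact H.c2 (commutator_le.2 fun u hu v hv s hs => F.cen (H.comm E') (H.comm E) ⟨hs, k1 D E hs⟩
      (F.der (E'.le.trans (k1 D E)) (E.le.trans (k1 A E')) (H.comm E') (H.comm E) ⟨hu, k1 D E hu⟩ ⟨hv, k1 D E hv⟩))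
  have k3 : ∀ D A, Es S D → Es S A → A = D := fun D A E E' =>
    (le_total _ _).elim (k2 D A E E') fun e => (k2 A D E' E e).symm
  obtain ⟨D, E⟩ := H.ex_es
  have := H.bot E.le (H.comm E) (fun n hn a ha => (k3 _ _ E (E.cnj hn)).le (conj_mem_cj ha))
    fun D' E' h hh u hu a ha _ => (k3 _ _ E E').le
      ((mem_normalizer_iff.1 (cj_le_of_le inf_le_right (le_normalizer hh) hu) a).1 ha)
  subst this
  exact H.ne_bot (eq_bot_iff.2 fun s hs => E.cen ⟨hs, fun x hx => by rw [mem_bot.1 hx, one_mul, mul_one]⟩)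

variable (N : PE S D A)
include N

theorem fg : FG S D A :=
  N.e1.fg H.ab H.syl N.le' (H.comm N.e2) (N.symm.le'.trans inf_le_right) N.nle N.card.ge N.e2.cen

theorem der (hu : u ∈ S ⊓ 𝒩(D)) (hv : v ∈ S ⊓ 𝒩(D)) : ⁅u, v⁆ ∈ D ⊓ A :=
  (H.fg N).der (N.le'.trans inf_le_right) (N.symm.le'.trans inf_le_right) (H.comm N.e2) (H.comm N.e1) hu hv

theorem cen (hu : u ∈ S ⊓ 𝒩(D)) (hw : w ∈ D ⊓ A) : u * w = w * u :=
  (H.fg N).cen (H.comm N.e2) (H.comm N.e1) hu hw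

theorem h1 (hd : d ∈ D) (h1 : d ∉ A) : S ⊓ 𝒞₁(d) = D := by
  refine (eq_of_le_of_not_lt (le_inf N.e1.le fun x hx => mem_C1.2 (H.comm N.e1 hd x hx)) fun k => ?_).symm
  obtain ⟨x, hx, x1, x2⟩ := exists_mem_normalizer_of_lt (H.syl.isPGroup.to_le inf_le_left) k
  exact h1 ((H.fg N).fix x ⟨hx.1, x2⟩ x1 d hd (mem_C1.1 hx.2))

theorem mem (hd : d ∈ D) (h1 : d ∉ A) (hs : s ∈ S) (k : s * d = d * s) : s ∈ D :=
  (H.h1 N hd h1).le ⟨hs, mem_C1.2 k⟩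

theorem eq (hd : d ∈ D) (h1 : d ∉ A) (E : Es S D') (k : d ∈ D') : D' = D := by
  have := fun x hx => H.mem N hd h1 (E.le hx) (H.comm E k x hx)
  exact le_antisymm this fun x hx => E.cen ⟨N.e1.le hx, fun y hy => H.comm N.e1 hx y (this y hy)⟩

theorem nrm (hd : d ∈ D) (h1 : d ∉ A) (hn : n ∈ 𝒩(S)) (k1 : n * d * n⁻¹ ∈ D) (k2 : n * d * n⁻¹ ∉ A) :
    n ∈ 𝒩(D) := cj_eq_self_iff.1 (H.eq N k1 k2 (N.e1.cnj hn) (conj_mem_cj hd))

theorem h2 (hu : u ∈ S ⊓ 𝒩(D)) (u2 : u * u = 1) : u ∈ D ∨ u ∈ A := by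
  obtain ⟨d, hd, a, ha, rfl⟩ := (H.fg N).dec u hu
  obtain ⟨b, hb, b2, w, hw, rfl⟩ := (H.fg N.symm).om a ha
  rw [H.comm N.e2 hw.1 b hb, ← mul_assoc d] at u2 ⊢
  have he := mul_mem hd hw.2
  generalize d * w = e at *
  by_cases k : b ∈ D
  · exact Or.inl (mul_mem he k)
  refine Or.inr (mul_mem ((H.fg N).fix b (N.le' hb) k e he ((H.fg N).zf b (N.le' hb) e he ?_)) hb)
  rw [show ⁅b, e⁆ = e⁻¹ * e⁻¹ by
    rw [commutatorElement_def, inv_eq_of_mul_eq_one_right b2, mul_left_inj, eq_inv_iff_mul_eq_one,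
      mul_eq_one_comm, ← u2]; simp only [mul_assoc]]
  exact (H.fg N).sq _ (inv_mem he)

theorem inv : ∃ d ∈ D, d ∉ A ∧ d * d = 1 := by
  obtain ⟨v, hv, h1⟩ := SetLike.not_le_iff_exists.1 N.symm.nle
  obtain ⟨d, hd, d2, w, hw, rfl⟩ := (H.fg N).om v hv
  exact ⟨d, hd, fun k => h1 (mul_mem k hw.2), d2⟩

theorem nab : ¬ S ⊓ 𝒩(D) ≤ D := fun k => N.nle (N.le'.trans k)

theorem h3 (E : Es S D') : ∃ A', PE S D' A' := by
  refine E.pe H.syl.isPGroup fun k => ?_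
  have k1 : ∀ {D A d}, PE S D A → d ∈ D → d ∉ A → d ∉ D' := fun N h1 h2 h3 => N.nn (H.eq N h1 h2 E h3 ▸ k)
  obtain ⟨d, hd, h1, d2⟩ := H.inv N
  have hS := N.e1.le hd
  refine k1 N hd h1 (E.om H.ab H.syl ⟨hS, k hS⟩ fun v hv v2 => H.comm N.e1 ?_ d hd)
  have k2 := (mem_normalizer_iff.1 (k hS) v).1 hv
  have k3 := mul_mem k2 hv
  have k4 : d * v * d⁻¹ * v ∈ D := H.mem N hd h1 (E.le k3) (calc
    _ = v * d * v := by rw [H.comm E hv _ k2]; group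
    _ = d * d * v * d * v := by rw [d2, one_mul]
    _ = _ := by rw [inv_eq_of_mul_eq_one_right d2]; simp only [mul_assoc])
  have k5 : v * d * v⁻¹ = d * (d * v * d⁻¹ * v) := by
    rw [inv_eq_of_mul_eq_one_right d2, inv_eq_of_mul_eq_one_right v2, ← mul_assoc, ← mul_assoc, ← mul_assoc, d2,
      one_mul]
  have k6 := H.nrm N hd h1 (le_normalizer (E.le hv)) (k5 ▸ mul_mem hd k4) fun e => k1 N k4
    (fun e1 => h1 ((mul_mem_cancel_right e1).1 (k5 ▸ e))) k3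
  exact (H.h2 N ⟨E.le hv, k6⟩ v2).elim id fun e => by_contra fun e1 => k1 N.symm e e1 hv

theorem h4 (N' : PE S D' A') (hd : d ∈ D') (h1 : d ∉ A') (d2 : d * d = 1) (k : d ∈ S ⊓ 𝒩(D)) :
    D' = D ∨ D' = A :=
  (H.h2 N k d2).imp (fun e => (H.eq N' hd h1 N.e1 e).symm) fun e => (H.eq N' hd h1 N.e2 e).symm

end Hy

end H6.AI
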