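import Cfsg.Agent.H6.AI3

/-! Abelian Sylow `2`-intersections: essential subgroups have index two in their normalizers. -/

set_option autoImplicit false
set_option linter.unusedSectionVars false
set_option linter.unusedVariables false

namespace H6.AI

open Subgroup Cfsg H5 H5.Gd H6.SI
open scoped commutatorElement
open H10 (IsSylowIn)

variable {G : Type*} [Group G] [Finite G] {S D A D' A' B P Z : Subgroup G}
  {a b c d e g h k n s t u v w x y z : G}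

namespace Hy
variable (H : Hy S) (N : PE S D A)
include H N

theorem sw (hy : y ∈ 𝒩(S)) (k : y ∈ 𝒩((S ⊓ 𝒩(D) : Subgroup G))) : cj y D = D ∨ cj y D = A := by
  obtain ⟨d, hd, h1, d2⟩ := H.inv N
  exact H.h4 N (N.cnj hy) (conj_mem_cj hd) (fun e => h1 (by simpa [H5.mem_cj, mul_assoc] using e))
    (by rw [conj_mul, d2, mul_one, mul_inv_cancel]) ((mem_normalizer_iff.1 k d).1 (N.le hd))

theorem swap (hy : y ∈ S) (k : y ∈ 𝒩((S ⊓ 𝒩(D) : Subgroup G))) (h : y ∉ S ⊓ 𝒩(D)) :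
    cj y D = A ∧ cj y A = D :=
  ⟨(H.sw N (le_normalizer hy) k).resolve_left fun e => h ⟨hy, cj_eq_self_iff.1 e⟩,
    (H.sw N.symm (le_normalizer hy) (N.eq ▸ k)).resolve_left fun e => h (N.eq.le ⟨hy, cj_eq_self_iff.1 e⟩)⟩

theorem swap2 (hx : x ∈ S) (hy : y ∈ S) (k1 : x ∈ 𝒩((S ⊓ 𝒩(D) : Subgroup G)))
    (k2 : y ∈ 𝒩((S ⊓ 𝒩(D) : Subgroup G))) (h1 : x ∉ S ⊓ 𝒩(D)) (h2 : y ∉ S ⊓ 𝒩(D)) : x * y ∈ S ⊓ 𝒩(D) :=
  ⟨S.mul_mem hx hy, cj_eq_self_iff.1 (by rw [cj_mul, (H.swap N hy k2 h2).1, (H.swap N hx k1 h1).2])⟩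

theorem csq (hu : u ∈ S ⊓ 𝒩(D)) (hv : v ∈ S ⊓ 𝒩(D)) (u2 : u * u = 1) : ⁅u, v⁆ * ⁅u, v⁆ = 1 := by
  have := H.cen N hu (H.der N hu hv)
  rw [← mul_inv_eq_iff_eq_mul] at this
  nth_rw 1 [← this]
  simp only [commutatorElement_def, inv_eq_of_mul_eq_one_right u2, ← mul_assoc, u2, one_mul]
  simp [mul_assoc, u2]

theorem om2 (hv : v ∈ D) (hw : w ∈ D) (h1 : v ∉ A) (h2 : w ∉ A) :
    ∃ d ∈ D, ∃ e ∈ D, d ∉ A ∧ e ∉ A ∧ d * d = 1 ∧ e * e = 1 ∧ d * e * (d * e) = 1 ∧ (d * e ∈ A ↔ v * w ∈ A) := by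
  obtain ⟨d, hd, d2, x, hx, rfl⟩ := (H.fg N).om v hv
  obtain ⟨e, he, e2, y, hy, rfl⟩ := (H.fg N).om w hw
  refine ⟨d, hd, e, he, fun k => h1 (mul_mem k hx.2), fun k => h2 (mul_mem k hy.2), d2, e2, ?_, ?_⟩
  · rw [Commute.mul_mul_mul_comm (H.comm N.e1 hd e he), d2, e2, mul_one]
  · rw [Commute.mul_mul_mul_comm (H.comm N.e1 he x hx.1), mul_mem_cancel_right (A.mul_mem hx.2 hy.2)]

theorem ana (q : ¬ Q2 D A) (N' : PE S D' A') (k : D' ≤ 𝒩((S ⊓ 𝒩(D) : Subgroup G))) : D' ≤ S ⊓ 𝒩(D) := by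
  by_contra k0
  have k1 : ∀ b ∈ D', b * b = 1 → b ∈ S ⊓ 𝒩(D) → b ∈ A' := fun b hb b2 e => by_contra fun e1 =>
    k0 ((H.h4 N N' hb e1 b2 e).elim (fun e => e ▸ N.le) fun e => e ▸ N.le')
  have k2 : Q2 D' A' := fun v hv w hw v1 w1 => by
    obtain ⟨d, hd, e, he, d1, e1, d2, e2, h2, h3⟩ := H.om2 N' hv hw v1 w1
    exact h3.1 (k1 _ (mul_mem hd he) h2 (H.swap2 N (N'.e1.le hd) (N'.e1.le he) (k hd) (k he)
      (mt (k1 d hd d2) d1) (mt (k1 e he e2) e1)))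
  obtain ⟨b, hb, b1, b2⟩ := H.inv N'
  have bS := N'.e1.le hb
  obtain ⟨s1, s2⟩ := H.swap N bS (k hb) (mt (k1 b hb b2) b1)
  have k3 : ∀ d ∈ D, b * d * b⁻¹ ∈ A := fun d hd => s1.le (conj_mem_cj hd)
  have k4 : ∀ d ∈ D, d ∉ A → b * d * b⁻¹ * d ≠ d * (b * d * b⁻¹) := fun d hd d1 e => d1 (by
    simpa [H5.mem_cj, mul_assoc] using s2.ge (H.mem N hd d1 (N.e2.le (k3 d hd)) e))
  have k5 : ∀ d ∈ D, d ∉ A → d * d = 1 →
      d * (b * d * b⁻¹) ∈ S ⊓ 𝒩(D') ∧ d * (b * d * b⁻¹) ∉ D' := fun d hd d1 d2 => by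
    have bi := inv_eq_of_mul_eq_one_right b2
    have di := inv_eq_of_mul_eq_one_right d2
    have h1 := mul_mem (N.le hd) (N.le' (k3 d hd))
    have h2 := H.csq N (N.le hd) (N.le' (k3 d hd)) d2
    have h3 := k4 d hd d1
    have h4 : b * (d * (b * d * b⁻¹)) * b⁻¹ = (d * (b * d * b⁻¹))⁻¹ := by
      simp only [mul_inv_rev, inv_inv, bi, di, mul_assoc, b2, mul_one]
    have h5 : b * d * b⁻¹ * d = (d * (b * d * b⁻¹))⁻¹ := by simp only [mul_inv_rev, inv_inv, bi, di, mul_assoc]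
    rw [show ⁅d, b * d * b⁻¹⁆ = d * (b * d * b⁻¹) * (d * (b * d * b⁻¹)) by
      simp only [commutatorElement_def, mul_inv_rev, inv_inv, bi, di, mul_assoc]] at h2
    rw [h5] at h3
    generalize d * (b * d * b⁻¹) = u at *
    have h6 : u * b * u⁻¹ = u * u * b := by
      rw [← h4, bi]; simp only [mul_assoc]; rw [← mul_assoc b b, b2, one_mul]
    have h7 : u * u ∈ D' := H.mem N' hb b1 (mul_mem h1 h1).1 (by
      rw [eq_comm, ← mul_inv_eq_iff_eq_mul, ← conj_mul, h4, ← mul_inv_rev, inv_eq_of_mul_eq_one_right h2])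
    refine ⟨⟨h1.1, H.nrm N' hb b1 (le_normalizer h1.1) (h6 ▸ mul_mem h7 hb) fun e => b1
      ((mul_mem_cancel_left (k1 _ h7 h2 (mul_mem h1 h1))).1 (h6 ▸ e))⟩, fun e => h3 ?_⟩
    rw [← h4, H.comm N'.e1 e b hb, mul_inv_cancel_right]
  simp only [Q2, not_forall] at q
  obtain ⟨v, hv, w, hw, v1, w1, q⟩ := q
  obtain ⟨d, hd, e, he, d1, e1, d2, e2, h2, h3⟩ := H.om2 N hv hw v1 w1
  obtain ⟨u1, u2⟩ := k5 d hd d1 d2
  obtain ⟨u3, u4⟩ := k5 e he e1 e2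
  obtain ⟨u5, u6⟩ := k5 _ (mul_mem hd he) (mt h3.1 q) h2
  have h4 := (H.fg N').two k2 _ (inv_mem u1) _ u3 (mt inv_mem_iff.1 u2) u4
  have h5 := H.der N (N.le he) (N.le' (k3 d hd))
  have h6 : (d * (b * d * b⁻¹))⁻¹⁻¹ * (e * (b * e * b⁻¹)) * (d * e * (b * (d * e) * b⁻¹))⁻¹ =
      ⁅e, b * d * b⁻¹⁆⁻¹ := by
    rw [← mul_inv_eq_iff_eq_mul.2 (H.cen N (N.le hd) (inv_mem h5)), commutatorElement_def]; group
  have h7 : ⁅e, b * d * b⁻¹⁆ ∉ D' := fun k =>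
    u6 (inv_mem_iff.1 ((mul_mem_cancel_left h4).1 (h6 ▸ inv_mem k)))
  have h8 := (H.h2 N' (inv_mem_iff.1 (h6 ▸ mul_mem (mul_mem (inv_mem (inv_mem u1)) u3) (inv_mem u5)))
    (H.csq N (N.le he) (N.le' (k3 d hd)) e2)).resolve_left h7
  have h9 := fun s hs => H.mem N'.symm h8 h7 (inf_le_left (b := 𝒩(D)) hs) (H.cen N (u := s) hs h5)
  exact k4 d hd d1 (H.comm N'.e2 (h9 d (N.le hd)) _ (h9 _ (N.le' (k3 d hd))))

theorem q2 : Q2 D A := by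
  by_contra q
  have k1 : ∀ n ∈ 𝒩(S), cj n (S ⊓ 𝒩(D)) ≤ 𝒩((S ⊓ 𝒩(D) : Subgroup G)) → n ∈ 𝒩((S ⊓ 𝒩(D) : Subgroup G)) :=
    fun n hn k => H10.mem_NN_of_conj_mem fun u hu => by
      obtain ⟨d, hd, a, ha, rfl⟩ := (H.fg N).dec u hu
      rw [← conj_mul]
      exact mul_mem (H.ana N q (N.cnj hn) ((cj_mono N.le).trans k) (conj_mem_cj hd))
        (H.ana N q (N.cnj hn).symm ((cj_mono N.le').trans k) (conj_mem_cj ha))
  have k2 : S ≤ 𝒩((S ⊓ 𝒩(D) : Subgroup G)) := by_contra fun k => by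
    obtain ⟨y, hy, y1, y2⟩ := exists_mem_normalizer_of_lt H.syl.isPGroup
      (lt_of_le_of_ne inf_le_left fun e : S ⊓ 𝒩((S ⊓ 𝒩(D) : Subgroup G)) = S => k (inf_eq_left.1 e))
    exact y1 ⟨hy, k1 y (le_normalizer hy) ((cj_le_of_le (le_inf inf_le_left le_normalizer) y2).trans inf_le_right)⟩
  refine N.nn ((H.foc (B := S ⊓ 𝒩(D)) fun a ha g hg => ?_).trans inf_le_right)
  have := H.scl (B := S ⊓ 𝒩(D)) (fun n hn a => (mem_normalizer_iff.1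
    (k1 n hn ((cj_le_of_le inf_le_left hn).trans k2)) a).1) (fun D' E h hh u hu a ha _ => (H.h3 N E).elim fun A' N' =>
    H.ana N q N' (E.le.trans k2) ((mem_normalizer_iff.1 (cj_le_of_le inf_le_right (le_normalizer hh) hu) a).1 ha))
    ha hg
  by_cases k : a ∈ S ⊓ 𝒩(D)
  · exact mul_mem (inv_mem k) (this.mpr k)
  · exact H.swap2 N (inv_mem ha) hg (k2 (inv_mem ha)) (k2 hg) (mt inv_mem_iff.1 k) (mt this.mp k)

end Hy

end H6.AI
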