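import Cfsg.Agent.H6.AI4
import Cfsg.Agent.H6.Dihedral
import Cfsg.Agent.H13.Foc

/-! Abelian Sylow `2`-intersections: the dihedral case. -/

set_option autoImplicit false
set_option linter.unusedSectionVars false
set_option linter.unusedVariables false

namespace H6.AI

open Subgroup Cfsg H5 H5.Gd H6.SI
open scoped commutatorElement
open H10 (IsSylowIn)

variable {G : Type*} [Group G] [Finite G] {S D A D' A' B P R Z : Subgroup G} {C : Set G}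
  {a b c d e g h k n s t u v w x y z : G}

/-- a set of involutions generating a dihedral group -/
structure DS (C : Set G) : Prop where
  sq : ∀ c ∈ C, c * c = 1
  cj : ∀ c ∈ C, ∀ d ∈ C, c * d * c ∈ C
  pg : ∀ c ∈ C, ∀ d ∈ C, ∃ k, orderOf (c * d) = 2 ^ k
  p1 : ∀ c ∈ C, ∀ d ∈ C, ∀ e ∈ C, orderOf (c * d) = 2 → orderOf (c * e) = 2 → d = e
  p2 : ∀ c ∈ C, ∀ d ∈ C, ∀ e ∈ C, orderOf (c * d) = 4 → orderOf (c * e) = 4 → d * e = e * d

theorem ord_pow {i j : ℕ} (h : orderOf u = 2 ^ (i + j)) : orderOf (u ^ 2 ^ i) = 2 ^ j := by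
  rw [orderOf_pow_of_dvd (by positivity) (h ▸ pow_dvd_pow 2 (Nat.le_add_right i j)), h, pow_add,
    Nat.mul_div_cancel_left _ (by positivity)]

namespace DS
variable (X : DS C) (hc : c ∈ C) (hu : c * u ∈ C)
include X hc

theorem cc (x : G) : c * (c * x) = x := by rw [← mul_assoc, X.sq c hc, one_mul]

include hu

theorem inv : c * u * c⁻¹ = u⁻¹ := by
  rw [inv_eq_of_mul_eq_one_right (X.sq c hc), eq_inv_iff_mul_eq_one, mul_assoc, X.sq _ hu]

theorem pow (n : ℕ) : c * u ^ n ∈ C := by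
  induction n using Nat.twoStepInduction with
  | zero => simpa
  | one => simpa
  | more n h _ =>
    have := X.cj _ hu _ (X.cj _ hc _ h)
    rwa [X.cc hc, mul_assoc, mul_assoc, mul_assoc, X.cc hc, ← pow_succ, ← pow_succ'] at this

theorem one (hw : c * w ∈ C) (h1 : orderOf u = 2) (h2 : orderOf w = 2) : u = w :=
  mul_left_cancel (X.p1 c hc _ hu _ hw (by rwa [X.cc hc]) (by rwa [X.cc hc]))

theorem four (hw : c * w ∈ C) (h1 : orderOf u = 4) (h2 : orderOf w = 4) : w ∈ zpowers u := by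
  have k := X.p2 c hc _ hu _ hw (by rwa [X.cc hc]) (by rwa [X.cc hc])
  by_cases e : c * u * (c * w) = 1
  · rw [← mul_left_cancel (mul_left_cancel (e.trans (X.sq _ hu).symm)).symm]
    exact mem_zpowers u
  have := X.p1 _ hu _ hw _ (X.pow hc hu 3) (ord2 (by
    rw [Commute.mul_mul_mul_comm k.symm, X.sq _ hu, X.sq _ hw, one_mul]) e) (by
    rw [← mul_assoc, ← inv_eq_of_mul_eq_one_right (X.sq c hc), inv_eq_of_mul_eq_one_right (X.sq c hc),
      show c * u * c = u⁻¹ by rw [← X.inv hc hu, inv_eq_of_mul_eq_one_right (X.sq c hc)],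
      show u⁻¹ * u ^ 3 = u ^ 2 ^ 1 by group]
    exact ord_pow (j := 1) h1)
  rw [mul_left_cancel this]
  exact pow_mem (mem_zpowers u) 3

omit hc hu in
theorem cyc (k : ℕ) : ∀ c u w : G, c ∈ C → c * u ∈ C → c * w ∈ C → orderOf u = 2 ^ k → orderOf w = 2 ^ k →
    w ∈ zpowers u := by
  induction k with
  | zero => exact fun c u w _ _ _ _ h => orderOf_eq_one_iff.1 h ▸ one_mem _
  | succ k ih =>
    intro c u w hc hu hw h1 h2
    rcases k with _ | _ | k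
    · exact X.one hc hu hw h1 h2 ▸ mem_zpowers u
    · exact X.four hc hu hw h1 h2
    obtain ⟨a, ha⟩ := (Submonoid.mem_powers_iff _ _).1 (mem_powers_iff_mem_zpowers.2 (ih c (u ^ 2 ^ 1) (w ^ 2 ^ 1) hc
      (X.pow hc hu _) (X.pow hc hw _) (ord_pow (by rw [h1, add_comm])) (ord_pow (by rw [h2, add_comm]))))
    have hd := X.pow hc hu a
    have k1 : c * u ^ a * ((u ^ a)⁻¹ * w) ∈ C := by rwa [mul_assoc, mul_inv_cancel_left]
    have k2 : ∀ i, c * u ^ a * u ^ i ∈ C := fun i => by rw [mul_assoc, ← pow_add]; exact X.pow hc hu _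
    have k3 : c * ((u ^ a)⁻¹ * w) * c⁻¹ = (u ^ a)⁻¹ * w := by
      rw [← conj_mul, ← conj_inv, X.inv hc hd, X.inv hc hw, inv_inv, mul_inv_eq_iff_eq_mul, mul_assoc,
        eq_inv_mul_iff_mul_eq, ← pow_two, ← pow_two, ← pow_mul, mul_comm, pow_mul]
      exact ha
    obtain ⟨j, hj⟩ := X.pg _ hd _ k1
    rw [X.cc hd] at hj
    refine (mul_mem_cancel_left (inv_mem (pow_mem (mem_zpowers u) a))).1 ?_
    generalize (u ^ a)⁻¹ * w = t at *
    rcases j with _ | _ | j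
    · exact orderOf_eq_one_iff.1 hj ▸ one_mem _
    · exact X.one hd (k2 _) k1 (ord_pow (j := 1) h1) hj ▸ pow_mem (mem_zpowers u) _
    have k4 := ord_pow (j := 2) hj
    obtain ⟨i, hi⟩ := zpowers_le.2 (pow_mem (mem_zpowers u) _)
      (X.four hd (k2 _) (X.pow hd k1 _) (ord_pow (j := 2) h1) k4)
    have k5 := conj_zpow_inv (X.inv hc hu) i
    rw [show u ^ i = _ from hi, ← conj_pow, k3, eq_inv_iff_mul_eq_one, ← pow_two, ← orderOf_dvd_iff_pow_eq_one,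
      k4] at k5
    omega

omit hu in
theorem ex : ∃ r, c * r ∈ C ∧ ∀ d ∈ C, c * d ∈ zpowers r := by
  obtain ⟨r, h1, h2⟩ := Set.exists_max_image {r | c * r ∈ C} orderOf (Set.toFinite _) ⟨1, by simpa⟩
  refine ⟨r, h1, fun d hd => ?_⟩
  have k : c * (c * d) ∈ C := by rwa [X.cc hc]
  obtain ⟨i, hi⟩ := X.pg _ hc _ h1
  obtain ⟨j, hj⟩ := X.pg _ hc _ hd
  have := h2 _ k
  rw [X.cc hc] at hi
  rw [hi, hj, Nat.pow_le_pow_iff_right one_lt_two] at this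
  obtain ⟨i, rfl⟩ := Nat.exists_eq_add_of_le' this
  exact zpowers_le.2 (pow_mem (mem_zpowers r) _) (X.cyc j c _ _ hc (X.pow hc h1 _) k (ord_pow hi) hj)

end DS

/-- the special involutions -/
def Cl (S D A : Subgroup G) (c : G) : Prop :=
  c ∉ A ∧ ∃ h ∈ 𝒩(D), ∃ u ∈ S ⊓ 𝒩(D), ∃ v ∈ D, c = h * ⁅u, v⁆ * h⁻¹

/-- all special involutions -/
def CC (S : Subgroup G) : Set G := {c | ∃ D A, PE S D A ∧ Cl S D A c}

theorem CC.cnj (hc : c ∈ CC S) (hn : n ∈ 𝒩(S)) : n * c * n⁻¹ ∈ CC S := by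
  obtain ⟨D, A, N, h1, h, hh, u, hu, v, hv, rfl⟩ := hc
  refine ⟨_, _, N.cnj hn, fun e => h1 (by simpa [mul_assoc] using H5.mem_cj.1 e), _,
    (cj_normalizer n D).le (conj_mem_cj hh), n * u * n⁻¹, ⟨(mem_normalizer_iff.1 hn u).1 hu.1,
      (cj_normalizer n D).le (conj_mem_cj hu.2)⟩, _, conj_mem_cj hv, ?_⟩
  simp only [commutatorElement_def]; group

theorem ZD.cl (Z : ZD S D A z) (hc : Cl S D A c) : ∃ h ∈ 𝒩(D), c = h * z * h⁻¹ := by
  obtain ⟨h1, h, hh, u, hu, v, hv, rfl⟩ := hc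
  exact ⟨h, hh, by rw [(Z.un u hu v hv).resolve_left fun e => h1 (by simp [e])]⟩

theorem Cl.mem (hc : Cl S D A c) : c ∈ D := by
  obtain ⟨h1, h, hh, u, hu, v, hv, rfl⟩ := hc
  exact (mem_normalizer_iff.1 hh _).1 (mul_mem ((mem_normalizer_iff.1 hu.2 _).1 hv) (inv_mem hv))

theorem CC.mem (hc : c ∈ CC S) : c ∈ S := hc.elim fun _ h => h.elim fun _ h => h.1.e1.le h.2.mem

namespace Hy
variable (H : Hy S)
include H

theorem zd (N : PE S D A) : ∃ z, ZD S D A z := (H.fg N).zd (H.q2 N)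

theorem cl (N : PE S D A) : ∃ c, Cl S D A c := by
  obtain ⟨z, Z⟩ := H.zd N
  obtain ⟨h, hh, k⟩ := Z.out
  obtain ⟨u, hu, v, hv, rfl⟩ := Z.ex
  exact ⟨_, k, h, hh, u, hu, v, hv, rfl⟩

theorem cl_sq (hc : c ∈ CC S) : c * c = 1 := by
  obtain ⟨D, A, N, h1, h, hh, u, hu, v, hv, rfl⟩ := hc
  have k := (H.fg N).sq v hv 1 (one_mem _) u (by rwa [cj_one])
  rw [conj_mul, commutatorElement_def, Commute.mul_mul_mul_comm
    (H.comm N.e1 ((mem_normalizer_iff.1 hu.2 _).1 hv) _ (inv_mem hv)), conj_mul, k]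
  group

theorem cl_of (N : PE S D A) (hc : Cl S D A c) (hd : d ∈ CC S) (k : d * c = c * d) : Cl S D A d := by
  obtain ⟨D', A', N', hd⟩ := hd
  obtain rfl := H.eq N' hd.mem hd.1 N.e1 (H.mem N hc.mem hc.1 (N'.e1.le hd.mem) k)
  obtain ⟨a, ha, a1, a2⟩ := H.inv N'.symm
  rwa [← (H.h4 N N'.symm ha a1 a2 (N'.le' ha)).resolve_left N'.ne]

theorem ds : DS (CC S) := by
  have k0 : ∀ c ∈ CC S, c⁻¹ = c := fun c hc => inv_eq_of_mul_eq_one_right (H.cl_sq hc)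
  have k1 : ∀ c ∈ CC S, ∀ d ∈ CC S, c * d * c ∈ CC S := fun c hc d hd => by
    simpa only [k0 c hc] using CC.cnj hd (le_normalizer (CC.mem hc))
  refine ⟨fun c => H.cl_sq, k1, fun c hc d hd => ?_, fun c hc d hd e he h1 h2 => ?_, fun c hc d hd e he h1 h2 => ?_⟩
  · obtain ⟨k, hk⟩ := IsPGroup.iff_orderOf.1 H.syl.isPGroup ⟨_, mul_mem (CC.mem hc) (CC.mem hd)⟩
    exact ⟨k, (orderOf_coe _).trans hk⟩
  · obtain ⟨D, A, N, hc'⟩ := id hc
    obtain ⟨z, Z⟩ := H.zd N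
    have k : ∀ d ∈ CC S, orderOf (c * d) = 2 → d = z * c := fun d hd h => by
      have k2 := H.cl_of N hc' hd (by rw [← inv_eq_of_mul_eq_one_right (sq1 h), mul_inv_rev, k0 c hc, k0 d hd])
      obtain ⟨g, hg, e1⟩ := Z.cl hc'
      obtain ⟨g', hg', e2⟩ := Z.cl k2
      obtain ⟨u, hu, e⟩ := Z.tr g hg g' hg' (e1 ▸ hc'.1) (e2 ▸ k2.1)
      rw [← e1, ← e2] at e
      rw [← (Z.un u hu c hc'.mem).resolve_left fun e3 => ne1 h (by
        rw [e, commutatorElement_eq_one_iff_mul_comm.1 e3, mul_inv_cancel_right, H.cl_sq hc]), e,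
        commutatorElement_def, inv_mul_cancel_right]
    rw [k d hd h1, k e he h2]
  · obtain ⟨D, A, N, hc'⟩ := id hc
    have k : ∀ d ∈ CC S, orderOf (c * d) = 4 → d ∈ A := fun d hd h => by
      have k3 : orderOf ((c * d) ^ 2 ^ 1) = 2 ^ 1 := ord_pow h
      simp only [pow_one, pow_two] at k3
      have k2 := H.cl_of N hc' (k1 d hd c hc) (by
        rw [← mul_assoc, ← mul_assoc, mul_assoc (c * d), ← inv_eq_of_mul_eq_one_right (sq1 k3)]
        simp only [mul_inv_rev, k0 c hc, k0 d hd, mul_assoc])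
      nth_rw 2 [← k0 d hd] at k2
      refine (H.h2 N ⟨CC.mem hd, H.nrm N hc'.mem hc'.1 (le_normalizer (CC.mem hd)) k2.mem k2.1⟩
        (H.cl_sq hd)).resolve_left fun e => ne1 k3 ?_
      rw [Commute.mul_mul_mul_comm (H.comm N.e1 hc'.mem d e), H.cl_sq hc, H.cl_sq hd, one_mul]
    exact H.comm N.e2 (k e he h2) d (k d hd h1)

theorem gen (N : PE S D A) (h1 : R ≤ S) (h2 : CC S ⊆ R)
    (h3 : ∀ k ∈ 𝒩(S), Odd (orderOf k) → ∀ a ∈ S, ⁅k, a⁆ ∈ R) : R = S := by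
  have k : ∀ u a : G, ⁅u, a⁻¹⁆ ∈ R ⊔ ⁅S, S⁆ →
      (QuotientGroup.mk (u * a * u⁻¹) : G ⧸ (R ⊔ ⁅S, S⁆)) = QuotientGroup.mk a := fun u a h =>
    QuotientGroup.eq.2 (by simpa [commutatorElement_def, mul_assoc] using h)
  refine H13.eq_of_sup_commutator H.syl.isPGroup h1 (H.foc fun a ha g hg => QuotientGroup.eq.1 (fus H.syl
    QuotientGroup.mk (fun s hs a ha => k _ _ (mem_sup_right (commutator_mem_commutator hs (inv_mem ha))))
    (fun n hn ho a ha => k _ _ (mem_sup_left (h3 n hn ho _ (inv_mem ha)))) (fun D E h hh u hu a ha => k _ _ ?_)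
    ha hg).symm)
  obtain ⟨A, N⟩ := H.h3 N E
  obtain ⟨z, Z⟩ := H.zd N
  have k1 := (mem_normalizer_iff.1 (inv_mem hh) _).1 (inv_mem ha)
  have k2 : ⁅u, a⁻¹⁆ = h * ⁅h⁻¹ * u * h, h⁻¹ * a⁻¹ * h⁻¹⁻¹⁆ * h⁻¹ := by simp only [commutatorElement_def]; group
  by_cases k3 : ⁅u, a⁻¹⁆ ∈ A
  · rcases Z.un _ (H5.mem_cj.1 hu) _ k1 with e | e
    · rw [k2, e, mul_one, mul_inv_cancel]; exact one_mem _
    · rw [k2, e] at k3 ⊢
      rw [(Z.alt h hh).resolve_right (not_not.2 k3), ← e]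
      exact mem_sup_right (commutator_mem_commutator (H5.mem_cj.1 hu).1 (E.le k1))
  · exact mem_sup_left (h2 ⟨D, A, N, k3, h, hh, _, H5.mem_cj.1 hu, _, k1, k2⟩)

theorem dih : ∃ m : ℕ, 2 ≤ m ∧ Nonempty (S ≃* DihedralGroup m) := by
  obtain ⟨D, A, N⟩ := H.ex_pe
  obtain ⟨c, hc'⟩ := H.cl N
  have hc : c ∈ CC S := ⟨D, A, N, hc'⟩
  have X := H.ds
  obtain ⟨r, h1, h2⟩ := X.ex hc
  have h3 := X.inv hc h1
  have h4 := fun d => mem_closure_inverts' (d := d) (X.sq c hc ▸ one_mem _) h3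
  have hr : zpowers r ≤ closure {r, c} := zpowers_le.2 (subset_closure (Or.inl rfl))
  have h5 : CC S ⊆ closure {r, c} := fun d hd =>
    X.cc hc d ▸ mul_mem (subset_closure (Or.inr rfl)) (hr (h2 d hd))
  have h6 : ∀ n ∈ 𝒩(S), n * r * n⁻¹ ∈ zpowers r := fun n hn => by
    have := mul_mem (inv_mem (h2 _ (CC.cnj hc hn))) (h2 _ (CC.cnj h1 hn))
    rwa [show (c * (n * c * n⁻¹))⁻¹ * (c * (n * (c * r) * n⁻¹)) = n * r * n⁻¹ by group] at this
  have h7 : 𝒩(S) ≤ 𝒩(closure {r, c}) := fun n hn => H10.mem_NN_of_cj_le (map_le_iff_le_comap.2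
    ((closure_le _).2 (Set.pair_subset (hr (h6 n hn)) (h5 (CC.cnj hc hn)))))
  have h8 : closure {r, c} ≤ S := (closure_le _).2 (Set.pair_subset
    (X.cc hc r ▸ mul_mem (CC.mem hc) (CC.mem h1)) (CC.mem hc))
  have h9 : ∀ k ∈ 𝒩(S), Odd (orderOf k) → k ∈ 𝒞(closure {r, c}) := fun k hk ho => by
    obtain ⟨i, hi⟩ := H.syl.isPGroup ⟨r, h8 (hr (mem_zpowers r))⟩
    refine centralizes_of_cyclic_index (congrArg Subtype.val hi) (fun a ha b hb a1 b1 => ?_) ho (h7 hk) (h6 k hk)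
    obtain ⟨i, rfl⟩ | ⟨i, rfl⟩ := exists_or.1 ((h4 a).1 ha)
    · exact (a1 (zpow_mem (mem_zpowers r) i)).elim
    obtain ⟨j, rfl⟩ | ⟨j, rfl⟩ := exists_or.1 ((h4 b).1 hb)
    · exact (b1 (zpow_mem (mem_zpowers r) j)).elim
    have := conj_zpow_inv h3 (j - i)
    rw [show (r ^ i * c)⁻¹ * (r ^ j * c) = c⁻¹ * r ^ (j - i) * c⁻¹⁻¹ by group, inv_eq_of_mul_eq_one_right (X.sq c hc),
      this]
    exact inv_mem (zpow_mem (mem_zpowers r) _)
  generalize hT : closure {r, c} = T at *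
  have k0 : 𝒩(S) ≤ 𝒩((S ⊓ 𝒞(T) : Subgroup G)) :=
    le_normalizer_inf le_rfl (h7.trans (normalizer_le_normalizer_centralizer _))
  have k1 : ∀ k ∈ 𝒩(S), Odd (orderOf k) → ∀ a ∈ S, ⁅k, a⁆ ∈ S ⊓ 𝒞(T) := fun k hk ho a ha =>
    mem_inf.2 ⟨mul_mem ((mem_normalizer_iff.1 hk a).1 ha) (inv_mem ha), by
      simpa only [commutatorElement_def, mul_assoc] using mul_mem (h9 k hk ho) ((mem_normalizer_iff.1
        (normalizer_le_normalizer_centralizer _ (h7 (le_normalizer ha))) _).1 (inv_mem (h9 k hk ho)))⟩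
  have k2 := H.gen N (sup_le h8 inf_le_left) (fun d hd => mem_sup_left (h5 hd))
    fun k hk ho a ha => mem_sup_right (k1 k hk ho a ha)
  have k3 : ∀ D A, PE S D A → S ⊓ 𝒞(T) ≤ D := fun D A N b hb => (H.cl N).elim fun d hd =>
    H.mem N hd.mem hd.1 hb.1 (hb.2 d (h5 ⟨D, A, N, hd⟩)).symm
  have k4 := H.gen N h8 h5 fun k hk ho a ha => by
    suffices T ⊔ S ⊓ 𝒞(T) ≤ 𝒞₁(k) by
      rw [commutatorElement_eq_one_iff_mul_comm.2 (mem_C1.1 (this (k2.ge ha))).symm]; exact one_mem _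
    refine sup_le (fun t ht => mem_C1.2 (h9 k hk ho t ht)) fun b hb => mem_C1.2
      (commutatorElement_eq_one_iff_mul_comm.1 (H.zg inf_le_left (fun x hx y hy => H.comm N.e1 (k3 D A N hx) y
        (k3 D A N hy)) k0 (k1 k hk ho b hb.1) fun D E => ?_)).symm
    obtain ⟨A, N⟩ := H.h3 N E
    obtain ⟨z, Z⟩ := H.zd N
    obtain ⟨d, hd⟩ := H.cl N
    have e := mul_inv_eq_iff_eq_mul.2 (h9 k hk ho d (h5 ⟨D, A, N, hd⟩)).symm
    have k5 := H.nrm N hd.mem hd.1 hk (e.symm ▸ hd.mem) (e.symm ▸ hd.1)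
    obtain ⟨u, hu, v, hv, k6⟩ := (H.fg N).dz b ⟨k3 D A N hb, k3 A D N.symm hb⟩
    have k7 : k * ⁅u, v⁆ * k⁻¹ = ⁅u, v⁆ := (Z.un u hu v hv).elim (fun e => by simp [e]) fun e => by
      have := Z.un _ (mem_inf.2 ⟨(mem_normalizer_iff.1 hk u).1 hu.1, mul_mem (mul_mem k5 hu.2) (inv_mem k5)⟩) _
        ((mem_normalizer_iff.1 k5 v).1 hv)
      rw [← conjugate_commutatorElement, e, conj_eq_one_iff] at this
      exact e ▸ this.resolve_left Z.ne
    have k8 := k6.cnj hk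
    rw [cj_eq_self_iff.2 k5, ← conj_mul, ← conj_inv, k7] at k8
    have k9 : ⁅k, b⁆ = ⁅u, v⁆⁻¹ * (k * b * k⁻¹) * (⁅u, v⁆⁻¹ * b)⁻¹ := by
      rw [mul_inv_rev, inv_inv, ← mul_assoc, mul_assoc _ _ b⁻¹, mul_assoc, ← commutatorElement_def,
        H.comm E (H.der N hu (N.le hv)).1 _ (k3 D A N (k1 k hk ho b hb.1)), inv_mul_cancel_left]
    exact k9 ▸ fun h hh x hx => Commute.mul_right (k8 h hh x hx) (Commute.inv_right (k6 h hh x hx))
  have k5 : ¬ Commute r c := fun e => H.c2 ((le_normalizer_iff_commutator_le_left.1 le_normalizer).trans ?_)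
  · refine ⟨orderOf r, ?_, subgroup_equiv_dihedral rfl (X.sq c hc) h3 (fun ⟨i, e⟩ => k5 ?_) (k4.symm.trans hT.symm)⟩
    · exact (Nat.two_le_iff _).2 ⟨(orderOf_pos r).ne', fun e => k5 (orderOf_eq_one_iff.1 e ▸ Commute.one_left c)⟩
    · exact e ▸ Commute.zpow_right rfl i
  rw [← k4, ← hT, centralizer_closure, closure_le]
  rintro x (rfl | rfl) y (rfl | rfl)
  exacts [rfl, e.symm, e, rfl]

end Hy

end H6.AI
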