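import Cfsg.Agent.H6.CT2
import Cfsg.Agent.H3.Misc

/-! The perfect core of the centralizer of a strongly closed `2`-subgroup. -/

set_option autoImplicit false
set_option linter.unusedSectionVars false
set_option linter.unusedVariables false

namespace H6.CS

open Subgroup Cfsg H5 H5.Gd
open scoped commutatorElement
open H10 (IsSylowIn)

universe u

variable {G : Type u} [Group G] [Finite G]
variable {Ω Ω₁ Ω₂ : Set G} {A B D H J K L M N P Q R S T U Z : Subgroup G} {a b c d e g t x y : G}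

theorem le_sup_O (hZ : IsPGroup 2 Z) (h1 : Z ≤ D) (h2 : Z ≤ 𝒞(D)) (h3 : (Z.relIndex D).Coprime 2) :
    D ≤ Z ⊔ 𝒪(D) := by
  obtain ⟨k, hk⟩ := hZ.exists_card_eq
  obtain ⟨E, e1, -, e2, e3⟩ := H1.schurZassenhaus_exists h1 (le_normalizer_of_le_zOf h2)
    (hk ▸ (h3.pow_right k).symm)
  refine e2.ge.trans (sup_le_sup_left (le_oppOf e1 (e2.ge.trans (sup_le ?_ le_normalizer)) (e3 ▸ h3)) _)
  exact le_normalizer_of_le_centralizer (h2.trans (centralizer_anti e1))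

theorem perf_three (hK : ⁅K, K⁆ = K) (h1 : K ≤ 𝒩(M)) (h2 : N ≤ 𝒩(M)) (h : ⁅⁅K, N⁆, K⁆ ≤ M) :
    ⁅K, N⁆ ≤ M :=
  (commutator_mono hK.ge le_rfl).trans (three_subgroups_mod h1 h1 h2 h (commutator_comm K N ▸ h))

theorem mod_comm [Q.Normal] [J.Normal] (h : Cl Ω) (hQ : IsPGroup 2 Q) (h1 : ∀ x ∈ Q, x ∈ Ω)
    (h2 : ∀ x ∈ Ω, x ∈ J → x ∈ Q) (hJ : J ≤ 𝒞(Q)) (hK : K ≤ J) (hp : ⁅K, K⁆ = K) :
    ⁅K, gen Ω ⊤⁆ ≤ 𝒪(J) := by
  have hf := QuotientGroup.mk'_surjective Q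
  set f := QuotientGroup.mk' Q with hf'
  have hc := cl_tw_in J
  have hd : Dj (f '' Ω) (f '' (Tw G ∩ J)) := by
    refine ⟨⟨h.map hf, hc.map hf, ?_⟩, ?_⟩
    · rintro P hP _ hx _ hy ⟨x, a, rfl⟩ ⟨y, b, rfl⟩
      have hP' : IsPGroup 2 (P.comap f) := hP.comap_of_ker_isPGroup f (by rwa [QuotientGroup.ker_mk'])
      rw [← commutatorElement_eq_one_iff_mul_comm, ← map_commutatorElement]
      refine (QuotientGroup.eq_one_iff _).2 (h2 _ ?_ ?_)
      · have := h.mul _ hP' x hx _ (mul_mem (mul_mem hy (inv_mem hx)) (inv_mem hy) :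
          y * x⁻¹ * y⁻¹ ∈ P.comap f) a (h.conj y _ (h.inv a))
        simpa [commutatorElement_def, mul_assoc] using this
      · exact mul_mem (Normal.conj_mem ‹_› y b.2 x) (inv_mem b.2)
    · rintro _ ⟨x, a, rfl⟩ ⟨y, b, e⟩
      have e1 : y⁻¹ * x ∈ Q := QuotientGroup.eq.1 e
      have hP := two_sup_N (h.two x a) hQ (le_normalizer_of_normal' ⊤ Q trivial)
      have e2 : y ∈ Ω := by
        simpa using h.mul _ hP x (mem_sup_left (mem_zpowers x)) _ (mem_sup_right (inv_mem e1)) a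
          (h1 _ (inv_mem e1))
      rw [← e]
      exact (QuotientGroup.eq_one_iff _).2 (h2 y e2 b.2)
  have h3 := hd.top'
  rw [← map_gen_top hf, ← map_gen_top hf, ← map_commutator] at h3
  have := h.normal ⊤
  have := hc.normal ⊤
  have k1 : gen (Tw G ∩ J) ⊤ ≤ J := gen_le_iff.2 fun x _ hx => hx.2
  have k2 : K ≤ gen (Tw G ∩ J) ⊤ := (perf_le hp).trans (gen_le_iff.2 fun x hx a =>
    mem_gen trivial ⟨a, hK hx⟩)
  obtain ⟨D, hD⟩ : ∃ D, D = ⁅gen Ω ⊤, gen (Tw G ∩ J) ⊤⁆ := ⟨_, rfl⟩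
  have : D.Normal := hD ▸ inferInstance
  have k3 : D ≤ J := hD ▸ (commutator_le_right _ _).trans k1
  have k4 : D ≤ (D ⊓ Q) ⊔ 𝒪(D) := le_sup_O hQ.to_inf_right inf_le_left
    (inf_le_right.trans (le_centralizer_iff.1 (k3.trans hJ))) (by
      rw [inf_relIndex_left, ← QuotientGroup.ker_mk' Q, relIndex_ker]
      exact coprime_of_le (cop_O _) (hD ▸ h3))
  have k5 : 𝒪(D) ≤ 𝒪(J) := (SN.of_normal k3 (le_normalizer_of_normal' _ _)).oppOf_le 2
  have n1 : ∀ X : Subgroup G, X ≤ 𝒩(𝒪(J)) := fun X =>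
    le_normalizer_oppOf 2 (le_normalizer_of_normal' _ _)
  refine perf_three hp (n1 _) (n1 _) ((commutator_mono ((commutator_comm _ _).le.trans
    ((commutator_mono le_rfl k2).trans (hD.ge.trans (k4.trans (sup_le_sup inf_le_right k5))))) hK).trans
      (commutator_sup_left_le (n1 _) (n1 _) ?_ (commutator_le_left_of_le_normalizer (n1 _))))
  rw [commutator_eq_bot_iff'.2 hJ]; exact bot_le

theorem cen_step (h : Cl Ω) (hP : IsPGroup 2 P) (h0 : Q ≤ P) (hn : P ≤ 𝒩(Q)) (h1 : ∀ x ∈ P, x ∈ Ω)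
    (h2 : ∀ x ∈ Ω, x ∈ 𝒞(Q) → x ∈ Q) : pc 𝒞(Q) ≤ 𝒪(𝒞(Q)) ⊔ pc 𝒞(P) := by
  obtain ⟨J, hJ⟩ : ∃ J, J = 𝒞(Q) := ⟨_, rfl⟩
  have j1 : P ≤ 𝒩(J) := hJ ▸ le_normalizer_centralizer hn
  have j2 : J ⊔ P ≤ 𝒩(Q) := sup_le (hJ ▸ centralizer_le_normalizer _) hn
  have j3 : 𝒞(P) ≤ J := hJ ▸ centralizer_anti h0
  rw [← hJ] at h2 ⊢
  have hi := (J ⊔ P).subtype_injective
  have := (normal_subgroupOf_iff_le_normalizer (h0.trans (le_sup_right (a := J)))).2 j2
  have := (normal_subgroupOf_iff_le_normalizer (le_sup_left (b := P))).2 (sup_le le_normalizer j1)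
  have h3 := map_mono (f := (J ⊔ P).subtype) (mod_comm (Q := Q.subgroupOf (J ⊔ P))
    (J := J.subgroupOf (J ⊔ P)) (K := (pc J).subgroupOf (J ⊔ P)) (h.comap hi)
    ((hP.to_le h0).comap_subtype) (fun x hx => h1 x (h0 hx)) (fun x a b => h2 x a b)
    (fun x hx y hy => Subtype.ext ((hJ ▸ hx : (x : G) ∈ 𝒞(Q)) y hy)) (comap_mono pc_le) (by
      apply map_injective hi
      rw [map_commutator, map_subgroupOf_eq_of_le (pc_le.trans le_sup_left), pc_perf]))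
  rw [map_commutator, map_subgroupOf_eq_of_le (pc_le.trans le_sup_left), map_gen_sub,
    map_oppOf_of_injective hi, map_subgroupOf_eq_of_le le_sup_left] at h3
  have n1 : P ≤ 𝒩(𝒪(J)) := le_normalizer_oppOf 2 j1
  have h4 := H1.sup_inf_centralizer_eq_of_commutator_le (K := pc J ⊔ 𝒪(J)) le_sup_right n1
    (cop_two_card hP (cop_O J)) (Or.inl (isSolvable_of_isPGroup hP)) (commutator_sup_left_le
      (pc_le.trans (self_le_normalizer_oppOf 2 J)) le_normalizer ((commutator_mono le_rfl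
        fun x hx => mem_gen (mem_sup_right hx) (h1 x hx)).trans h3)
      (commutator_le_left_of_le_normalizer n1))
  exact perf_le_sup (pc_perf J) _ (j3.trans (self_le_normalizer_oppOf 2 J))
    ((le_sup_left.trans h4.ge).trans (sup_le_sup_left inf_le_right _))

theorem syl_sup_odd (h : IsSylowIn 2 R K) (hN : (Nat.card N).Coprime 2) (hn : K ≤ 𝒩(N)) :
    IsSylowIn 2 R (N ⊔ K) := by
  have := h.sup (H10.isSylowIn_of_not_dvd bot_le IsPGroup.of_bot (by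
    rw [relIndex_bot_left]
    exact (Nat.Prime.coprime_iff_not_dvd Nat.prime_two).1 hN.symm)) hn (le_normalizer_of_normal' _ _)
  rwa [sup_bot_eq, sup_comm] at this

theorem syl_pc (h : Cl Ω) (hT : IsPGroup 2 T) (h1 : ∀ x ∈ T, x ∈ Ω) (hR : IsSylowIn 2 R (pc 𝒞(T)))
    (Q : Subgroup G) : Q ≤ T → (∀ x ∈ Ω, x ∈ 𝒞(Q) → x ∈ Q) → IsSylowIn 2 R (pc 𝒞(Q)) := by
  induction Q using subgroup_gt_induction with
  | h Q ih =>
  intro h2 h3
  rcases h2.eq_or_lt with rfl | h4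
  · exact hR
  have h5 := H3.lt_inf_normalizer_of_isPGroup hT h4
  have h6 := ih _ h5 inf_le_left fun x a b => h5.le (h3 x a (centralizer_anti h5.le b))
  have h7 : pc 𝒞((T ⊓ 𝒩(Q) : Subgroup G)) ≤ pc 𝒞(Q) := pc_mono (centralizer_anti h5.le)
  exact (syl_sup_odd h6 (cop_O _) (h7.trans (pc_le.trans (self_le_normalizer_oppOf 2 _)))).of_le
    (h6.le.trans h7) (cen_step h hT.to_inf_left h5.le inf_le_right (fun x hx => h1 x hx.1) h3)

theorem Cl.centric (h : Cl Ω) (hU : IsPGroup 2 U) (h1 : ∀ y ∈ Tw G,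
    y ∈ 𝒩(U) ⊓ 𝒞(gen Ω U) ⊓ centMod U (gen Ω U) → y ∈ U) (hx : x ∈ Ω) (h2 : x ∈ 𝒞(gen Ω U)) :
    x ∈ gen Ω U := by
  obtain ⟨J, hJ⟩ : ∃ J, J = 𝒞(gen Ω U) := ⟨_, rfl⟩
  have j1 : U ≤ 𝒩(J) := hJ ▸ le_normalizer_centralizer (h.le_N U)
  have j2 : J ⊔ U ≤ 𝒩(gen Ω U) := sup_le (hJ ▸ centralizer_le_normalizer _) (h.le_N U)
  rw [← hJ] at h1 h2
  obtain ⟨S, hS, h3⟩ := H10.exists_isSylowIn_ge hU (le_sup_right (a := J))
  obtain ⟨g, hg, h4⟩ := hS.exists_cj_le (h.two x hx) (zpowers_le.2 (mem_sup_left h2))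
  have p2 : IsPGroup 2 (S ⊓ J : Subgroup G) := hS.isPGroup.to_inf_left
  have h5 : g * x * g⁻¹ ∈ gen Ω (S ⊓ J) := mem_gen ⟨h4 (conj_mem_cj (mem_zpowers x)),
    H10.conj_mem_of_mem_NN (sup_le le_normalizer j1 hg) h2⟩ (h.conj g x hx)
  have h6 : U ≤ 𝒩(gen Ω (S ⊓ J)) :=
    (le_normalizer_inf (le_normalizer_of_le h3) j1).trans (h.N_gen _)
  have h7 : gen Ω (S ⊓ J) ≤ U := by
    by_contra h7
    obtain ⟨w, ⟨w1, w2⟩, w3⟩ := SetLike.exists_of_lt (H3.lt_inf_normalizer_of_isPGroup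
      (hS.isPGroup.to_le (sup_le h3 (gen_le.trans inf_le_left))) (left_lt_sup.2 h7))
    obtain ⟨u, hu, y, hy, rfl⟩ := (mem_sup_of_le_normalizer h6).1 w1
    have y1 : y ∈ 𝒩(U) := by simpa using mul_mem (inv_mem (le_normalizer hu)) w2
    refine w3 (mul_mem hu (h1 y (mem_tw p2 (gen_le hy)) ⟨⟨y1, (gen_le hy).2⟩, h.N_gen U y1,
      fun z hz => mem_gen (mul_mem (H10.conj_mem_of_mem_NN y1 hz) (inv_mem hz)) (h.of_gen p2 ?_)⟩))
    simpa [commutatorElement_def, mul_assoc] using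
      mul_mem hy (H10.conj_mem_of_mem_NN (h6 hz) (inv_mem hy))
  simpa [mul_assoc] using H10.conj_mem_of_mem_NN' (j2 hg) (mem_gen (h7 h5) (h.conj g x hx))

theorem Cl.syl_pc (h : Cl Ω) (hS : IsSylowIn 2 S ⊤) :
    IsSylowIn 2 (S ⊓ pc 𝒞(gen Ω S)) (pc 𝒞(gen Ω S)) := by
  have n1 : S ≤ 𝒩(pc 𝒞(gen Ω S)) := (le_normalizer_centralizer (h.le_N S)).trans (N_pc _)
  exact (hS.of_le n1 le_top).inf_normal le_normalizer le_rfl

/-- the Sylow `2`-subgroup of the perfect core is strongly closed -/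
theorem Cl.sc_pc (h : Cl Ω) (hS : IsSylowIn 2 S ⊤) : IsStronglyClosed (S ⊓ pc 𝒞(gen Ω S)) S := by
  have hR := h.syl_pc hS
  have r1 : S ⊓ pc 𝒞(gen Ω S) ≤ S := inf_le_left
  generalize S ⊓ pc 𝒞(gen Ω S) = R at *
  have hF : H12.FusPredC S fun A g => ∀ a ∈ A, a ∈ R ↔ g * a * g⁻¹ ∈ R :=
    { mul := fun {T g k} _ _ _ h1 h2 a ha => (h1 a ha).trans (by
        rw [h2 _ (conj_mem_cj ha)]; simp [mul_assoc])
      mono := fun hAB _ _ h a ha => h a (hAB ha)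
      inv := by
        rintro T g - - h _ ⟨a, ha, rfl⟩
        simpa [mul_assoc] using (h a ha).symm
      cent := fun _ hg a ha => by rw [← hg a ha, mul_inv_cancel_right] }
  refine ⟨r1, fun x hx g hg => (H12.alperin_ind_extremal ⟨le_top, hS.isPGroup, hS.not_dvd_relIndex⟩
    hF.toFusPred (fun U hU hext ih g _ hg => ?_) (zpowers x) (zpowers_le.2 (r1 hx)) g trivial
      (by rw [MonoidHom.map_zpowers]; exact zpowers_le.2 hg) x (mem_zpowers x)).1 hx⟩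
  rw [top_inf_eq] at hext
  have p2 := hS.isPGroup.to_le hU
  obtain ⟨L, hL⟩ : ∃ L, L = 𝒩(U) ⊓ 𝒞(gen Ω U) ⊓ centMod U (gen Ω U) := ⟨_, rfl⟩
  have l1 : L ≤ 𝒩(U) := hL ▸ inf_le_left.trans inf_le_left
  have l2 : 𝒩(U) ≤ 𝒩(L) := hL ▸ le_normalizer_inf (le_normalizer_inf le_normalizer
    (le_normalizer_centralizer (h.N_gen U))) ((le_inf le_rfl (h.N_gen U)).trans (N_le_N_centMod _ _))
  by_cases hC : S ⊓ L ≤ U
  swap
  · refine H3.alperin_step_of_subgroup hF hU hext (fun B h1 h2 g => ih B h1 h2 g trivial) l1 l2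
      (fun y hy ho => zpowers_le.1 (H1.le_centralizer_of_commutator_le (N := gen Ω U) ?_ ?_ ?_)) hC g hg
    · rw [commutator_comm]
      exact (le_centMod.1 (zpowers_le.2 (hL.le hy).2)).2
    · exact le_centralizer_iff.1 (zpowers_le.2 (hL.le hy).1.2)
    · exact (cop_two_card (p2.to_le gen_le) (by rwa [Nat.card_zpowers])).symm
  have s1 := (H10.isSylowIn_of_not_dvd hext.le hext.pgrp hext.not_dvd).inf_normal l1 l2
  have s2 := CS.syl_pc h (hS.isPGroup.to_le gen_le) (fun x => h.of_gen hS.isPGroup) hR _ (gen_mono hU)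
    fun x => h.centric p2 fun y h1 h2 => by
      obtain ⟨l, hl, e⟩ := s1.exists_cj_le h1 (zpowers_le.2 (hL.ge h2))
      have := e (conj_mem_cj (mem_zpowers y))
      simpa [mul_assoc] using H10.conj_mem_of_mem_NN' (l1 hl) (hC ⟨this.1.1, this.2⟩)
  have key : ∀ g ∈ 𝒩(U), ∀ a ∈ U, a ∈ R → g * a * g⁻¹ ∈ R := fun g hg a ha h1 =>
    (s2.eq_of_le (hS.isPGroup.to_inf_left (K := pc 𝒞(gen Ω U))) (le_inf r1 s2.le) inf_le_right).le
      ⟨hU (H10.conj_mem_of_mem_NN hg ha), H10.conj_mem_of_mem_NN (N_pc _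
        (le_normalizer_centralizer (h.N_gen U) hg)) (s2.le h1)⟩
  refine fun a ha => ⟨key g hg a ha, fun h1 => ?_⟩
  simpa [mul_assoc] using key _ (inv_mem hg) _ (H10.conj_mem_of_mem_NN hg ha) h1

/-- the theorem for groups of order less than `n` -/
def B1 (n : ℕ) : Prop :=
  ∀ (X : Type u) [Group X] [Finite X], Nat.card X < n → ∀ Ω : Set X, Cl Ω → ∀ S K : Subgroup X,
    IsSylowIn 2 S ⊤ → ⁅K, K⁆ = K → K ≤ 𝒞(gen Ω S) → ⁅K, gen Ω ⊤⁆ ≤ 𝒪((⊤ : Subgroup X))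

theorem B1.quot (ih : B1.{u} (Nat.card G)) (h : Cl Ω) (hS : IsSylowIn 2 S ⊤) (hp : ⁅K, K⁆ = K)
    (hK : K ≤ 𝒞(gen Ω S)) [M.Normal] (h0 : M ≠ ⊥) :
    ⁅K, gen Ω ⊤⁆ ≤ (𝒪((⊤ : Subgroup (G ⧸ M)))).comap (QuotientGroup.mk' M) := by
  have hf := QuotientGroup.mk'_surjective M
  rw [← map_le_iff_le_comap, map_commutator, map_gen_top hf]
  refine ih _ (card_quot_lt h0) _ (h.map hf) _ _ (hS.map_top hf) (by rw [← map_commutator, hp])
    ((map_mono hK).trans ((map_centralizer_le _ _).trans (centralizer_anti (gen_le_iff.2 ?_))))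
  rintro _ hx ⟨x, a, rfl⟩
  obtain ⟨y, h1, h2, e⟩ := h.lift hf (hS.isPGroup.map _) (hS.of_le (le_comap_map _ _) le_top) a hx
  exact e ▸ mem_map_of_mem _ (mem_gen h1 h2)

theorem B1.sub (ih : B1.{u} (Nat.card G)) (h : Cl Ω) (hS : IsSylowIn 2 S ⊤) (hp : ⁅K, K⁆ = K)
    (hK : K ≤ 𝒞(gen Ω S)) [H.Normal] (h0 : H ≠ ⊤) (h1 : K ≤ H) : ⁅K, gen Ω H⁆ ≤ 𝒪(H) := by
  have hi := H.subtype_injective
  have s1 := hS.inf_normal (N := H) le_top (le_normalizer_of_normal' _ _)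
  have := map_mono (f := H.subtype) (ih H (card_lt_of_ne h0) _ (h.comap hi) _ (K.subgroupOf H)
    (H10.isSylowIn_top s1.toSylow) (by
      apply map_injective hi
      rw [map_commutator, map_subgroupOf_eq_of_le h1, hp]) fun x hx y hy => Subtype.ext (hK hx y
        (gen_mono inf_le_left (s1.map_toSylow ▸ map_gen_comap _ _ hi ▸ mem_map_of_mem _ hy))))
  rwa [map_commutator, map_subgroupOf_eq_of_le h1, map_gen_sub, map_oppOf_of_injective hi,
    map_subtype_top] at this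

theorem B1.step (ih : B1.{u} (Nat.card G)) (h : Cl Ω) (hS : IsSylowIn 2 S ⊤) (hp : ⁅K, K⁆ = K)
    (hK : K ≤ 𝒞(gen Ω S)) : ⁅K, gen Ω ⊤⁆ ≤ 𝒪((⊤ : Subgroup G)) := by
  by_cases hO : 𝒪((⊤ : Subgroup G)) = ⊥
  swap
  · rw [oppOf_top] at hO ⊢
    have := ih.quot h hS hp hK hO
    rwa [oppOf_map_mk', MonoidHom.comap_bot, QuotientGroup.ker_mk'] at this
  have h2S := hS.isPGroup
  have sc := h.sc_pc hS
  have hR := h.syl_pc hS
  have r1 : S ⊓ pc 𝒞(gen Ω S) ≤ 𝒞(gen Ω S) := inf_le_right.trans pc_le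
  generalize S ⊓ pc 𝒞(gen Ω S) = R at *
  have hm : Cm Ω (om R) := ⟨h, cl_om hS sc, fun P hP x hx y hy a b => by
    obtain ⟨g, hg⟩ := exists_conj_in hS hP
    simpa [← mul_assoc] using (show x * (y * g⁻¹) = y * (x * g⁻¹) by
      simpa [mul_assoc] using r1 (sc_om sc b (hg y hy)) _ (mem_gen (hg x hx) (h.conj g x a)))⟩
  have k1 : pc 𝒞(gen Ω S) ≤ gen (om R) ⊤ := (perf_le (pc_perf _)).trans (gen_le_iff.2 fun y hy a => by
    obtain ⟨l, -, e⟩ := hR.exists_cj_le a (zpowers_le.2 hy)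
    exact mem_gen trivial (hm.c2.of_conj (mem_om_of (e (conj_mem_cj (mem_zpowers y))))))
  have k2 : K ≤ gen (om R) ⊤ := (le_pc hK hp).trans k1
  have := h.normal ⊤
  have := hm.c2.normal ⊤
  have hc := h.inter hm.c2
  by_cases ht : gen Ω ⊤ ⊔ gen (om R) ⊤ = ⊤
  swap
  · have h1 := ih.sub h hS hp hK ht (k2.trans le_sup_right)
    rw [O_normal hO] at h1
    exact (commutator_mono le_rfl (gen_le_iff.2 fun x hx a =>
      mem_gen (mem_sup_left (mem_gen hx a)) a)).trans (h1.trans bot_le)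
  by_cases h0 : gen (Ω ∩ om R) ⊤ = ⊥
  · rw [commutator_comm]
    exact (commutator_mono le_rfl k2).trans
      (Dj.top' ⟨hm, fun x a b => gen_eq_bot.1 h0 x trivial ⟨a, b⟩⟩)
  by_cases hZ : gen (Ω ∩ om R) (pCore 2 G) = ⊥
  · obtain ⟨L, _, hs, hn, h1, -⟩ := hm.exists_simple hO ht hS h0 hZ
    have h2 := loc_perf (hm.sa hS) hs hn h1 (pc_perf _) (pc_le.trans (centralizer_anti
      (inf_le_left.trans ((hm.gen_inter h2S).ge.trans inf_le_left))))
    refine absurd (le_bot_iff.1 (H10.simple_center hs hn ▸ le_inf inf_le_right (inf_le_left.trans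
      (((hm.gen_inter h2S).ge.trans inf_le_right).trans ?_)))) h1
    rw [gen_om hS sc]
    exact hR.le.trans h2
  have := hc.normal (pCore 2 G)
  have p2 : IsPGroup 2 (pCore 2 G) := opOf_top (G := G) 2 ▸ isPGroup_opOf 2 ⊤
  have h3 : ∀ x ∈ gen (Ω ∩ om R) (pCore 2 G), x ∈ Ω ∩ om R := fun x => hc.of_gen p2
  have hz : IsPGroup 2 (gen (Ω ∩ om R) (pCore 2 G)) := p2.to_le gen_le
  generalize gen (Ω ∩ om R) (pCore 2 G) = Z at *
  have h1 : ⊤ ≤ 𝒞(Z) := ht.ge.trans (sup_le (hm.cent hz fun x hx => (h3 x hx).2)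
    (hm.symm.cent hz fun x hx => (h3 x hx).1))
  have : (𝒪((⊤ : Subgroup (G ⧸ Z)))).Normal := oppOf_top (G := G ⧸ Z) 2 ▸ inferInstance
  have h4 := two_of_cent hO (K := (𝒪((⊤ : Subgroup (G ⧸ Z)))).comap (QuotientGroup.mk' Z))
    (QuotientGroup.mk' Z) (coprime_of_le (cop_O _) (map_comap_le _ _)) (by
      rw [QuotientGroup.ker_mk']
      exact inf_le_right.trans (le_centralizer_iff.1 (le_top.trans h1)))
  rw [QuotientGroup.ker_mk'] at h4
  rw [hO]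
  refine perf_three hp (le_normalizer_of_normal' _ _) (le_normalizer_of_normal' _ _)
    ((commutator_mono ((ih.quot h hS hp hK hZ).trans h4) le_top).trans ?_)
  rw [commutator_eq_bot_iff'.2 h1]

theorem b1 (n : ℕ) : B1.{u} n := by
  induction n with
  | zero => intro X _ _ h; omega
  | succ n ih =>
    intro X _ _ h Ω hc S K hS hp hK
    exact B1.step (fun Y _ _ hY => ih Y (by omega)) hc hS hp hK

/-- Goldschmidt's theorem on the centralizer of a strongly closed subgroup -/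
theorem Cl.perf (h : Cl Ω) (hS : IsSylowIn 2 S ⊤) (hp : ⁅K, K⁆ = K) (hK : K ≤ 𝒞(gen Ω S)) :
    ⁅K, gen Ω ⊤⁆ ≤ 𝒪((⊤ : Subgroup G)) :=
  b1 _ G (Nat.lt_succ_self _) _ h _ _ hS hp hK

theorem pc_eq (H : Subgroup G) : (⨅ n : ℕ, derivedSeries H n).map H.subtype = pc H := by
  obtain ⟨n, hn⟩ := WellFoundedLT.antitone_chain_condition (derivedSeries_antitone H)
  refine le_antisymm ((map_mono (iInf_le _ n)).trans (le_pc (map_subtype_le _) ?_)) ?_
  · rw [← map_commutator, ← derivedSeries_succ, ← hn (n + 1) (by omega)]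
  have key : ∀ m, pc H ≤ (derivedSeries H m).map H.subtype := fun m => by
    induction m with
    | zero => rw [derivedSeries_zero, map_subtype_top]; exact pc_le
    | succ m ih =>
      rw [derivedSeries_succ, map_commutator]
      exact (pc_perf H).ge.trans (commutator_mono ih ih)
  refine (key n).trans (map_mono (le_iInf fun m => ?_))
  rcases le_total n m with e | e
  exacts [(hn m e).le, derivedSeries_antitone H e]

theorem pc_normal (hO : 𝒪((⊤ : Subgroup G)) = ⊥) (hS : IsSylowIn 2 S ⊤) (hT : IsStronglyClosed T S) :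
    (pc 𝒞(T)).Normal := by
  have h1 := (cl_om hS hT).perf hS (pc_perf 𝒞(T)) (by rw [gen_om hS hT]; exact pc_le)
  rw [hO, le_bot_iff, commutator_eq_bot_iff_le_centralizer, gen_om_top] at h1
  rw [le_antisymm (le_pc h1 (pc_perf _)) (pc_mono (centralizer_anti le_normalClosure))]
  exact normal_iff_top_le_normalizer.2 ((le_normalizer_of_normal' _ _).trans (N_pc _))

end H6.CS
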