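import Cfsg.Agent.H6.DH
import Cfsg.Agent.H5.Two

/-!
Commuting graph on four-subgroups.
-/

set_option autoImplicit false
set_option linter.unusedSectionVars false

namespace H6

open Subgroup Cfsg

variable {G : Type*} [Group G]

/-- adjacency of four-subgroups -/
def FA (A B : Subgroup G) : Prop :=
  IsKleinFour A ∧ IsKleinFour B ∧ ∀ a ∈ A, ∀ b ∈ B, a * b = b * a

theorem FA.symm {A B : Subgroup G} (h : FA A B) : FA B A :=
  ⟨h.2.1, h.1, fun b hb a ha => (h.2.2 a ha b hb).symm⟩

theorem fa_conn_symm {A B : Subgroup G} (h : Relation.ReflTransGen FA A B) :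
    Relation.ReflTransGen FA B A := by
  induction h with
  | refl => exact .refl
  | tail _ h ih => exact .head h.symm ih

variable [Finite G]

theorem FA.map {H : Type*} [Group H] {f : G →* H} (hf : Function.Injective f) {A B : Subgroup G}
    (h : FA A B) : FA (A.map f) (B.map f) := by
  refine ⟨(H5.kleinFour_map_iff hf).2 h.1, (H5.kleinFour_map_iff hf).2 h.2.1, ?_⟩
  rintro _ ⟨a, ha, rfl⟩ _ ⟨b, hb, rfl⟩
  rw [← map_mul, ← map_mul, h.2.2 a ha b hb]

theorem fa_conn_map {H : Type*} [Group H] {f : G →* H} (hf : Function.Injective f)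
    {A B : Subgroup G} (h : Relation.ReflTransGen FA A B) :
    Relation.ReflTransGen FA (A.map f) (B.map f) := by
  induction h with
  | refl => exact .refl
  | tail _ h ih => exact .tail ih (h.map hf)

theorem fa_conn_of_le {S : Subgroup G} (hS : IsFourConnected S) {U V : Subgroup G}
    (hU : IsKleinFour U) (hV : IsKleinFour V) (hUS : U ≤ S) (hVS : V ≤ S) :
    Relation.ReflTransGen FA U V := by
  have e : ∀ W : Subgroup G, W ≤ S → (W.subgroupOf S).map S.subtype = W := fun W h =>
    map_subgroupOf_eq_of_le h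
  have k : ∀ W : Subgroup G, IsKleinFour W → W ≤ S → IsKleinFour (W.subgroupOf S) :=
    fun W h1 h2 => (H5.kleinFour_map_iff S.subtype_injective).1 (by rwa [e W h2])
  have := fa_conn_map S.subtype_injective (hS _ _ (k U hU hUS) (k V hV hVS))
  rwa [e U hUS, e V hVS] at this

theorem not_prank_one_iff {Q : Subgroup G} :
    ¬ PRankLE 2 1 Q ↔ ∃ V : Subgroup G, V ≤ Q ∧ IsKleinFour V := by
  haveI : Fact (Nat.Prime 2) := ⟨Nat.prime_two⟩
  rw [H5.not_pRankLE_iff]
  constructor
  · rintro ⟨A, h1, h2, h3⟩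
    obtain ⟨U, h4, h5⟩ := H5.exists_kleinFour_le h2 h3
    exact ⟨U, h4.trans h1, h5⟩
  · rintro ⟨V, h1, h2⟩
    exact ⟨V, h1, H5.elemAb_of_kleinFour h2⟩

/-- Any four-subgroup normalizing an elementary abelian group `E` of order at least 8 is connected
to the four-subgroups of `E`. -/
theorem fa_conn_of_normalizes {E U V : Subgroup G} (hE : IsElementaryAbelian 2 E)
    (h8 : 2 ^ 3 ≤ Nat.card E) (hV : IsKleinFour V) (hVE : V ≤ normalizer (E : Set G))
    (hU : IsKleinFour U) (hUE : U ≤ E) : Relation.ReflTransGen FA V U := by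
  haveI : Fact (Nat.Prime 2) := ⟨Nat.prime_two⟩
  have hA1 : E ≠ ⊥ := H5.ne_bot_of_pow_two (H5.pow_two_le_of_pow_three h8)
  obtain ⟨z, hzA, hzS, hz⟩ := H5.exists_central_of_isPGroup (kleinFour_isPGroup hV)
    (H5.isPGroup_of_elemAb hE) hVE hA1
  obtain ⟨v, hvV, hvz⟩ := H5.exists_not_mem_zpowers (H5.elemAb_of_kleinFour hV).2 hz
  have v1 : v ≠ 1 := by rintro rfl; exact hvz (one_mem _)
  have hv2 := kleinFour_mul_self hV hvV
  have hv := ord2_of hv2 v1
  have hvz' : Commute v z := mem_centralizer_iff.1 hzS v hvV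
  have hne : v ≠ z := by rintro rfl; exact hvz (mem_zpowers _)
  have h4 := H5.four_le_inf_centralizer hE h8 hv2 (hVE hvV)
  obtain ⟨W, hWE, hW⟩ := H5.exists_kleinFour_le (H5.elemAb_of_le hE inf_le_left) h4
  have hc := H1.isMulCommutative_iff'.1 hE.1
  have hX := isKleinFour_closure hv hz hne hvz'
  have mX := fun x => mem_closure_commute (x := x) hv2 (ord2_mul_self hz) hvz'
  refine .head (b := closure {v, z}) ⟨hV, hX, fun a ha b hb => ?_⟩
    (.head (b := W) ⟨hX, hW, fun a ha b hb => ?_⟩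
      (.single ⟨hW, hU, fun a ha b hb => hc a (hWE ha).1 b (hUE hb)⟩))
  · have h1 : Commute a v := kleinFour_commute hV ha hvV
    have h2 : Commute a z := mem_centralizer_iff.1 hzS a ha
    rcases (mX b).1 hb with rfl | rfl | rfl | rfl
    exacts [Commute.one_right a, h1, h2, h1.mul_right h2]
  · have h1 : Commute v b := (mem_cent_iff_commute.1 (hWE hb).2).symm
    have h2 : Commute z b := hc z hzA b (hWE hb).1
    rcases (mX a).1 ha with rfl | rfl | rfl | rfl
    exacts [Commute.one_left b, h1, h2, h1.mul_left h2]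

end H6
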