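import Cfsg.Agent.H6.ZS
import Cfsg.Agent.H3.Misc
import Cfsg.Agent.H3.ZJ
import Cfsg.Agent.H8.Idx

/-! Nilpotent maximal subgroups with central Sylow 2-subgroup. -/

set_option autoImplicit false
set_option linter.unusedSectionVars false

namespace H6

open Subgroup Cfsg

theorem isNilpotent_of_coprime_central {G : Type*} [Group G] [Finite G] {p : ℕ} [Fact p.Prime]
    (h : ∀ g : G, (orderOf g).Coprime p → g ∈ center G) : Group.IsNilpotent G :=
  Group.of_quotient_center_nilpotent
    (H3.isPGroup_quotient_of_pResidual_le (H3.pResidual_le_iff.2 h)).isNilpotent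

/-- A group with a nilpotent maximal subgroup whose 2-elements are central is solvable. -/
theorem isSolvable_of_nilpotent_coatom_central.{u} {G : Type u} [Group G] [Finite G] {M : Subgroup G}
    (hM : IsCoatom M) (hnil : Group.IsNilpotent M)
    (h : ∀ x : M, (∃ k, orderOf x = 2 ^ k) → x ∈ center M) : Group.IsSolvable G := by
  refine H3.isSolvable_of_nilpotent_coatom
    (fun M _ => ∀ x : M, (∃ k, orderOf x = 2 ^ k) → x ∈ center M) ?_ ?_ G M hM hnil h
  · rintro A B _ _ _ f hf - h y ⟨k, hk⟩
    obtain ⟨x, rfl, hx⟩ := H8.exists_lift_pElt f hf hk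
    rw [mem_center_iff]
    intro b
    obtain ⟨b, rfl⟩ := hf b
    rw [← map_mul, ← map_mul, mem_center_iff.1 (h x hx) b]
  · intro G _ _ M hnil h hX q _ P hP hN
    have hPM : (P : Subgroup G) ≤ M := hN ▸ le_normalizer
    by_cases hq : q = 2
    · subst hq
      refine H3.hasNormalPComplement_of_normalizer_le_centralizer P fun g hg => ?_
      have hg' : g ∈ M := hN ▸ hg
      refine mem_centralizer_iff_commute.2 fun x hx => ?_
      obtain ⟨k, hk⟩ := IsPGroup.iff_orderOf.1 P.isPGroup' ⟨x, hx⟩
      have := mem_center_iff.1 (h ⟨x, hPM hx⟩ ⟨k, by rw [← hk, ← orderOf_coe, ← orderOf_coe]⟩) ⟨g, hg'⟩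
      exact congrArg Subtype.val this
    · refine H3.glauberman_thompson hq (Or.inr rfl) P ?_
      rw [hX _ ((H4.centerThompsonOf_le _).trans hPM) (H4.centerThompsonOf_ne_bot P.isPGroup' hP)
        (hN ▸ H4.normalizer_le_normalizer_centerThompsonOf _)]
      exact H3.hasNormalPComplement_of_isNilpotent _

end H6
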