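import Cfsg.Agent.H7.Jh

/-! Involution classes in a group with the involution centralizer of `PSp4(3)`. -/

set_option autoImplicit false
set_option linter.unusedSectionVars false
set_option maxRecDepth 100000

namespace H6.Invs
open Subgroup Equiv H7J

theorem q4 : ∀ a b : S, a ^ 4 = 1 → b ^ 4 = 1 → (a * b) ^ 4 = 1 := by decide +kernel

/-- A Sylow 2-subgroup of `P`. -/
def T0 : Subgroup P where
  carrier := {p | p.a ^ 4 = 1 ∧ p.b ^ 4 = 1}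
  one_mem' := ⟨one_pow _, one_pow _⟩
  mul_mem' := by
    rintro ⟨a, b, _ | _⟩ ⟨c, d, s⟩ ⟨h1, h2⟩ ⟨h3, h4⟩
    · exact ⟨q4 _ _ h1 h3, q4 _ _ h2 h4⟩
    · exact ⟨q4 _ _ h1 h4, q4 _ _ h2 h3⟩
  inv_mem' := by
    rintro ⟨a, b, _ | _⟩ ⟨h1, h2⟩
    · exact ⟨show a⁻¹ ^ 4 = 1 by rw [inv_pow, h1, inv_one], show b⁻¹ ^ 4 = 1 by rw [inv_pow, h2, inv_one]⟩
    · exact ⟨show b⁻¹ ^ 4 = 1 by rw [inv_pow, h2, inv_one], show a⁻¹ ^ 4 = 1 by rw [inv_pow, h1, inv_one]⟩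

theorem t8 : ∀ p : P, p.a ^ 4 = 1 → p.b ^ 4 = 1 → p ^ 8 = 1 := by decide +kernel
theorem pT : IsPGroup 2 T0 := fun p => ⟨3, Subtype.ext (t8 p.1 p.2.1 p.2.2)⟩

def cm (p g : P) : Prop := p * g * p⁻¹ * g⁻¹ = 1 ∨ p * g * p⁻¹ * g⁻¹ = k0
instance (p g : P) : Decidable (cm p g) := by unfold cm; infer_instance

theorem cen : ∀ p : P, cm p ⟨qi, 1, false⟩ → cm p ⟨qj, 1, false⟩ → cm p ⟨1, qi, false⟩ → cm p ⟨1, qj, false⟩ →
    cm p (pt 1) → p = 1 ∨ p = k0 ∨ p = z0 ∨ p = z0 * k0 := by decide +kernel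

theorem c1 : ∀ q : S, q * q = -1 → (∃ x, x * q * x⁻¹ = qi⁻¹) ∧ ∃ x, x * q * x⁻¹ = qi := by decide +kernel

theorem c2 : ∀ p : P, p * p = 1 ∨ p * p = k0 → p = 1 ∨ p = k0 ∨ p = z0 ∨ p = z0 * k0 ∨
    (p.s = false ∧ p.a * p.a = -1 ∧ p.b * p.b = -1) ∨
    (⟨p.a⁻¹, 1, false⟩ * p * (⟨p.a⁻¹, 1, false⟩ : P)⁻¹ = pt 1 ∨ ⟨p.a⁻¹, 1, false⟩ * p * (⟨p.a⁻¹, 1, false⟩ : P)⁻¹ = pt 1 * z0 * k0) := by
  decide +kernel

variable {G : Type*} [Group G] [Finite G] {ψ : P →* G}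

theorem hk (h : Hy ψ) : ψ k0 = 1 := (h.ker _).2 (Or.inr rfl)

/-- Every Sylow 2-subgroup containing `ψ T0` lies in the range of `ψ`. -/
theorem syl_le (h : Hy ψ) (S : Sylow 2 G) (hS : T0.map ψ ≤ S) : (S : Subgroup G) ≤ ψ.range := by
  have : Fact (Nat.Prime 2) := ⟨by norm_num⟩
  have mz : ψ z0 ∈ (S : Subgroup G) := hS ⟨z0, ⟨by decide, by decide⟩, rfl⟩
  have z1 : ψ z0 ≠ 1 := fun e => by
    have := (h.ker _).1 e
    revert this; decide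
  have : Nontrivial S := ⟨⟨⟨_, mz⟩, 1, fun e => z1 (congrArg Subtype.val e)⟩⟩
  obtain ⟨⟨⟨c, cS⟩, cc⟩, c1⟩ := S.isPGroup'.center_nontrivial |> fun h => @exists_ne _ h 1
  have hc : ∀ g ∈ (S : Subgroup G), g * c = c * g := fun g hg => congrArg Subtype.val (mem_center_iff.1 cc ⟨g, hg⟩)
  obtain ⟨p, rfl⟩ := (h.cz c).1 (hc _ mz).symm
  have k : ∀ g ∈ T0, cm p g := fun g hg => (h.ker _).1 (by
    rw [map_mul, map_mul, map_mul, map_inv, map_inv, ← hc _ (hS ⟨g, hg, rfl⟩)]; group)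
  have e : ψ p = ψ z0 := by
    rcases cen p (k _ ⟨by decide, by decide⟩) (k _ ⟨by decide, by decide⟩) (k _ ⟨by decide, by decide⟩)
      (k _ ⟨by decide, by decide⟩) (k _ ⟨by decide, by decide⟩) with e | e | e | e
    · exact absurd (Subtype.ext (Subtype.ext (show ψ p = 1 by rw [e, map_one]))) c1
    · exact absurd (Subtype.ext (Subtype.ext (show ψ p = 1 by rw [e, hk h]))) c1
    · rw [e]
    · rw [e, map_mul, hk h, mul_one]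
  exact fun g hg => (h.cz g).1 (e ▸ hc g hg)

theorem exS (h : Hy ψ) : ∃ S : Sylow 2 G, T0.map ψ ≤ S ∧ (S : Subgroup G) ≤ ψ.range := by
  have : Fact (Nat.Prime 2) := ⟨by norm_num⟩
  obtain ⟨S, hS⟩ := (pT.map ψ).exists_le_sylow
  exact ⟨S, hS, syl_le h S hS⟩

/-- Involution classes of the range. -/
theorem clsH (h : Hy ψ) (p : P) (x2 : ψ p * ψ p = 1) (x1 : ψ p ≠ 1) : ψ p = ψ z0 ∨ IsConj (ψ p) (ψ a0) ∨
    IsConj (ψ p) (ψ (pt 1)) ∨ IsConj (ψ p) (ψ (pt 1 * z0)) := by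
  rcases c2 p ((h.ker _).1 (by rw [map_mul, x2])) with e | e | e | e | ⟨e, ea, eb⟩ | e | e
  · exact absurd (by rw [e, map_one]) x1
  · exact absurd (by rw [e, hk h]) x1
  · exact Or.inl (by rw [e])
  · exact Or.inl (by rw [e, map_mul, hk h, mul_one])
  · obtain ⟨a, b, s⟩ := p
    obtain rfl : s = false := e
    obtain ⟨x, hx⟩ := (c1 a ea).1
    obtain ⟨y, hy⟩ := (c1 b eb).2
    refine Or.inr (Or.inl (ψ.map_isConj (isConj_iff.2 ⟨⟨x, y, false⟩, ?_⟩)))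
    exact P.ext (hx.trans (by decide)) (hy.trans (by decide)) rfl
  · exact Or.inr (Or.inr (Or.inl (ψ.map_isConj (isConj_iff.2 ⟨_, e⟩))))
  · refine Or.inr (Or.inr (Or.inr ?_))
    have := ψ.map_isConj (isConj_iff.2 ⟨_, e⟩)
    rwa [map_mul ψ _ k0, hk h, mul_one] at this

theorem invs (h : Hy ψ) (x : G) (x2 : x * x = 1) (x1 : x ≠ 1) : IsConj x (ψ z0) ∨ IsConj x (ψ a0) ∨ IsConj x (ψ (pt 1)) ∨ IsConj x (ψ (pt 1 * z0)) := by
  have : Fact (Nat.Prime 2) := ⟨by norm_num⟩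
  obtain ⟨S, -, hS⟩ := exS h
  have hp : IsPGroup 2 (zpowers x) := IsPGroup.of_card (n := 1) (by
    rw [Nat.card_zpowers, orderOf_eq_prime (by rw [pow_two, x2]) x1]; rfl)
  obtain ⟨Q, hQ⟩ := hp.exists_le_sylow
  obtain ⟨g, rfl⟩ := MulAction.exists_smul_eq G Q S
  have m : g * x * g⁻¹ ∈ ((g • Q : Sylow 2 G) : Subgroup G) := ⟨x, hQ (mem_zpowers x), rfl⟩
  obtain ⟨p, e⟩ := hS m
  have c : IsConj x (ψ p) := isConj_iff.2 ⟨g, e.symm⟩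
  rcases clsH h p (by rw [e, conj_mul, x2]; simp) (by rw [e]; simpa using x1) with k | k | k | k
  · exact Or.inl (k ▸ c)
  · exact Or.inr (Or.inl (c.trans k))
  · exact Or.inr (Or.inr (Or.inl (c.trans k)))
  · exact Or.inr (Or.inr (Or.inr (c.trans k)))

end H6.Invs
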