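import Cfsg.Agent.H7.J4p
import Cfsg.Agent.H29.M24Out

/-! Two lemmas on a subgroup `2^11 : M24` of a finite group. -/

set_option autoImplicit false
set_option linter.unusedSectionVars false
set_option linter.unusedVariables false

namespace H6.J4a
open Cfsg Cfsg.Spor H29.J4m Subgroup H27
open scoped Pointwise

section
variable {G : Type} [Group G] [Finite G] {π : MM →* G} {E : Subgroup G}

omit [Finite G] in
theorem nE (hKE : π.range ≤ normalizer (E : Set G)) (k : MM) {e : G} (he : e ∈ E) : π k * e * (π k)⁻¹ ∈ E :=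
  (mem_normalizer_iff.1 (hKE ⟨k, rfl⟩) e).1 he

theorem ks {M : Subgroup MM} (h : ∀ k, ∀ m ∈ M, k * m * k⁻¹ ∈ M) {x : MM} (x1 : x ≠ 1) (xM : x ∈ M) : M = ⊤ :=
  (simple_MM.eq_bot_or_eq_top_of_normal M ⟨fun m hm k => h k m hm⟩).resolve_left fun c => x1 (mem_bot.1 (c ▸ xM))

theorem ke (hπ : Function.Injective π) (hE : Nat.card E = 2 ^ 11) (hKE : π.range ≤ normalizer (E : Set G)) {k : MM}
    (hk : π k ∈ E) : k = 1 := by
  by_contra c
  have h := ks (M := E.comap π) (fun l m hm => by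
    rw [mem_comap, map_mul, map_mul, map_inv]; exact nE hKE l hm) c hk
  have h2 : π.range ≤ E := by
    rintro _ ⟨l, rfl⟩
    exact (h.ge (mem_top l) : l ∈ E.comap π)
  have := card_dvd_of_le h2
  rw [hE, ← Nat.card_congr (MonoidHom.ofInjective hπ).toEquiv, card_MM] at this
  norm_num at this

theorem uniq (hπ : Function.Injective π) (hE : Nat.card E = 2 ^ 11) (hKE : π.range ≤ normalizer (E : Set G)) {k l : MM} {v w : G}
    (hv : v ∈ E) (hw : w ∈ E) (h : v * π k = w * π l) : k = l := by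
  have : π (k * l⁻¹) ∈ E := by
    rw [map_mul, map_inv, show π k * (π l)⁻¹ = v⁻¹ * w by
      rw [show π k = v⁻¹ * (w * π l) by rw [← h]; group]; group]
    exact mul_mem (inv_mem hv) hw
  exact mul_inv_eq_one.1 (ke hπ hE hKE this)

omit [Finite G] in
theorem dec (hKE : π.range ≤ normalizer (E : Set G)) {g : G} (hg : g ∈ E ⊔ π.range) : ∃ v ∈ E, ∃ k, g = v * π k := by
  obtain ⟨e, he, _, ⟨k, rfl⟩, rfl⟩ := (Set.ext_iff.1 (coe_mul_of_right_le_normalizer_left E π.range hKE) g).1 hg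
  exact ⟨e, he, k, rfl⟩

theorem cs (hE : Nat.card E = 2 ^ 11) (hKE : π.range ≤ normalizer (E : Set G))
    (hnt : ¬ π.range ≤ centralizer (E : Set G)) {s : MM} (hs : orderOf s = 23) {e : G} (he : e ∈ E) (hc : Commute e (π s)) :
    e = 1 := by
  have s1 : s ≠ 1 := fun c => by simp [c] at hs
  have s23 : π s ^ 23 = 1 := by rw [← map_pow, ← hs, pow_orderOf_eq_one, map_one]
  have two : ∀ j ≤ 11, 2 ^ j % 23 = 1 → j = 0 ∨ j = 11 := by decide
  have f := H1.Crit.fixm (H := E) (by norm_num) (fun u hu => nE hKE s hu) s23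
  obtain ⟨j, hj, ej⟩ := (Nat.dvd_prime_pow Nat.prime_two).1 (hE ▸ card_dvd_of_le (inf_le_left : E ⊓ centralizer {π s} ≤ E))
  rw [hE, ej] at f
  rcases two j hj (Eq.trans f.symm rfl) with rfl | rfl
  · have := card_eq_one.1 (ej.trans rfl)
    exact mem_bot.1 (this ▸ (⟨he, mem_centralizer_singleton_iff.2 hc.eq⟩ : e ∈ E ⊓ centralizer {π s}))
  · exfalso
    have e1 := eq_of_le_of_card_ge (inf_le_left : E ⊓ centralizer {π s} ≤ E) (by rw [ej, hE])
    have h := ks (M := (centralizer (E : Set G)).comap π) (fun k m hm => by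
      rw [mem_comap, map_mul, map_mul, map_inv]
      intro e he
      have := (hm : π m ∈ centralizer (E : Set G)) _ (nE hKE k⁻¹ he)
      rw [map_inv] at this
      calc e * (π k * π m * (π k)⁻¹) = π k * ((π k)⁻¹ * e * (π k)⁻¹⁻¹ * π m) * (π k)⁻¹ := by group
        _ = _ := by rw [this]; group) s1 (fun e he => mem_centralizer_singleton_iff.1 (e1.ge he).2)
    refine hnt ?_
    rintro _ ⟨l, rfl⟩
    exact (h.ge (mem_top l) : l ∈ (centralizer (E : Set G)).comap π)

theorem inner (f : MulAut MM) : ∃ m : MM, ∀ k, f k = m * k * m⁻¹ := by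
  have h : (Inn MM).index = 1 := H29.m24_out
  obtain ⟨m, hm⟩ := (index_eq_one.1 h).ge (mem_top f)
  exact ⟨m, fun k => by rw [← hm]; rfl⟩
end

theorem abs3 {G : Type} [Group G] [Finite G] (π : MM →* G) (hπ : Function.Injective π) (E : Subgroup G) (hE : Nat.card E = 2 ^ 11) (h2 : ∀ g ∈ E, g * g = 1) (hKE : π.range ≤ normalizer (E : Set G)) (hnt : ¬ π.range ≤ centralizer (E : Set G)) {s : MM} (hs : orderOf s = 23) (σ : MulAut G) (h1 : E.map σ.toMonoidHom = E) (h3 : (E ⊔ π.range).map σ.toMonoidHom = E ⊔ π.range) : ∃ h : G, h * σ (π s) * h⁻¹ = π s ∧ ∀ k : MM, ∃ v ∈ E, h * σ (π k) * h⁻¹ = v * π k := by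
  have hx : ∀ k, ∃ v ∈ E, ∃ l, σ (π k) = v * π l := fun k =>
    dec hKE (h3.le ⟨π k, mem_sup_right ⟨k, rfl⟩, rfl⟩)
  choose v hv f hf using hx
  have fm : ∀ k l, f (k * l) = f k * f l := fun k l =>
    uniq hπ hE hKE (hv (k * l)) (mul_mem (hv k) (nE hKE (f k) (hv l))) (by
      rw [← hf, map_mul, map_mul, hf k, hf l, map_mul]; group)
  let F : MM →* MM := MonoidHom.mk' f fm
  have Fi : Function.Injective F := (injective_iff_map_eq_one F).2 fun k hk => by
    have e : σ (π k) ∈ E := by rw [hf k, show f k = 1 from hk, map_one, mul_one]; exact hv k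
    obtain ⟨y, hy, e2⟩ := h1.ge e
    exact ke hπ hE hKE (σ.injective e2 ▸ hy)
  obtain ⟨m, hm⟩ := inner (MulEquiv.ofBijective F (Finite.injective_iff_bijective.1 Fi))
  have hm' : ∀ k, f k = m * k * m⁻¹ := hm
  have h0 : ∀ k, ∃ u ∈ E, (π m)⁻¹ * σ (π k) * π m = u * π k := fun k =>
    ⟨_, nE hKE m⁻¹ (hv k), by rw [hf k, hm' k, map_mul, map_mul, map_inv]; group⟩
  let φ : E → E := fun w => ⟨w.1⁻¹ * (π s * w * (π s)⁻¹), mul_mem (inv_mem w.2) (nE hKE s w.2)⟩
  have φi : Function.Injective φ := fun w u h => by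
    have h : w.1⁻¹ * (π s * w * (π s)⁻¹) = u.1⁻¹ * (π s * u * (π s)⁻¹) := congrArg Subtype.val h
    have := cs hE hKE hnt hs (mul_mem u.2 (inv_mem w.2)) (by
      change u.1 * w.1⁻¹ * π s = π s * (u.1 * w.1⁻¹)
      calc u.1 * w.1⁻¹ * π s = u.1 * (w.1⁻¹ * (π s * w * (π s)⁻¹)) * π s * w.1⁻¹ := by group
        _ = _ := by rw [h]; group)
    exact Subtype.ext (mul_inv_eq_one.1 this).symm
  obtain ⟨u, hu, eu⟩ := h0 s
  obtain ⟨w, hw⟩ := Finite.injective_iff_surjective.1 φi ⟨u, hu⟩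
  have hw : w.1⁻¹ * (π s * w * (π s)⁻¹) = u := congrArg Subtype.val hw
  refine ⟨w * (π m)⁻¹, ?_, fun k => ?_⟩
  · calc _ = w.1 * ((π m)⁻¹ * σ (π s) * π m) * w.1⁻¹ := by group
      _ = _ := by rw [eu, ← hw]; group
  · obtain ⟨t, ht, et⟩ := h0 k
    refine ⟨w * t * (π k * w.1⁻¹ * (π k)⁻¹), mul_mem (mul_mem w.2 ht) (nE hKE k (inv_mem w.2)), ?_⟩
    calc _ = w.1 * ((π m)⁻¹ * σ (π k) * π m) * w.1⁻¹ := by group
      _ = _ := by rw [et]; group

theorem abs4 {G : Type} [Group G] [Finite G] (π : MM →* G) (hπ : Function.Injective π) (E : Subgroup G) (hE : Nat.card E = 2 ^ 11) (hKE : π.range ≤ normalizer (E : Set G)) (hnt : ¬ π.range ≤ centralizer (E : Set G)) {U : Subgroup MM} (hU : IsCoatom U) (hc : Nat.card U = 64512) (hC : centralizer (U : Set MM) = ⊥) {c : G} (hc1 : c ∈ E ⊔ π.range) (hc2 : ∀ u ∈ U, Commute c (π u)) : c = 1 := by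
  obtain ⟨v, hv, k, rfl⟩ := dec hKE hc1
  have k1 : k = 1 := mem_bot.1 (hC ▸ (mem_centralizer_iff.2 fun u hu =>
    (uniq hπ hE hKE hv (nE hKE u hv) (by
      rw [map_mul, map_mul, ← mul_assoc, (hc2 u hu).eq]; group)).symm : k ∈ centralizer (U : Set MM)))
  subst k1
  rw [map_one, mul_one] at hc2 ⊢
  letI : MulAction MM G := MulAction.compHom G ((MulAut.conj (G := G)).comp π)
  have sm : ∀ (k : MM) (g : G), k • g = π k * g * (π k)⁻¹ := fun _ _ => rfl
  have le : U ≤ MulAction.stabilizer MM v := fun u hu => by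
    rw [MulAction.mem_stabilizer_iff, sm, ← (hc2 u hu).eq, mul_inv_cancel_right]
  rcases (hU.le_iff.1 le) with h | h
  · have : Fact (Nat.Prime 23) := ⟨by norm_num⟩
    obtain ⟨s, os⟩ := exists_prime_orderOf_dvd_card' (G := MM) 23 (by rw [card_MM]; norm_num)
    have := h.ge (mem_top s)
    rw [MulAction.mem_stabilizer_iff, sm, mul_inv_eq_iff_eq_mul] at this
    exact cs hE hKE hnt os hv this.symm
  · exfalso
    have i1 := MulAction.index_stabilizer MM v
    have i2 : (MulAction.orbit MM v).ncard ≤ (E : Set G).ncard := Set.ncard_le_ncard (by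
      rintro _ ⟨k, rfl⟩
      exact nE hKE k hv)
    have i3 := U.card_mul_index
    rw [hc, card_MM] at i3
    rw [← i1, h, ← Nat.card_coe_set_eq, show Nat.card (E : Set G) = 2 ^ 11 from hE] at i2
    omega

end H6.J4a
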