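import Cfsg.Agent.H6.OT1
import Cfsg.Agent.H12.RD6
import Cfsg.Agent.H12.RDz

/-! Lined classes of odd transpositions: rank one subgroups. -/

set_option autoImplicit false
set_option linter.unusedSectionVars false

namespace H6.OT

open Subgroup Cfsg H16 H16.H11 H12.RD

universe u

variable {G : Type u} [Group G] [Finite G] {D S : Set G} {a b c d e g x y z : G} {X : Subgroup G}

local notation "E[" D "]" => sameCommutingClass D

/-- the class of `c` in `X` -/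
def Cl (X : Subgroup G) (c : G) : Set X := {b | ∃ g ∈ X, g * c * g⁻¹ = b}

variable (hD : IsOddTranspositionSet D)
include hD

theorem cl_mem (hc : c ∈ D) {b : X} (hb : b ∈ Cl X c) : (b : G) ∈ D := by
  obtain ⟨g, -, e⟩ := hb; exact e ▸ hD.1.conj_mem c hc g

theorem mem_cl (hc : c ∈ D) (cX : c ∈ X) {b : X} (hb : (b : G) ∈ D) (ho : Od c b) : b ∈ Cl X c :=
  cj_of_od (ri_of hD.1) hc hb ho cX b.2

theorem od_E (hc : c ∈ D) (ha : a ∈ D) (ho : Od c a) (he : e ∈ E[D] a) : Od c e :=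
  (ot_cases hD hc he.1).resolve_left fun h => (ri_of hD.1).od_not_comm hc ha ho (((mem_E.1 he).2 c hc).2 h)

theorem cl_set (hc : c ∈ D) (hS : ∀ s ∈ S, s ∈ D ∧ Od c s) (hX : closure (S ∪ {c}) = X) :
    IsOddTranspositionSet (Cl X c) ∧ Cls (Cl X c) := by
  have h := ri_of hD.1
  have xX : c ∈ X := hX ▸ subset_closure (Or.inr rfl)
  let C : Set G := {b | ∃ g ∈ X, g * c * g⁻¹ = b}
  have CD : C ⊆ D := by rintro _ ⟨g, -, rfl⟩; exact hD.1.conj_mem c hc g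
  have CX : ∀ b ∈ C, b ∈ X := by rintro _ ⟨g, hg, rfl⟩; exact mul_mem (mul_mem hg xX) (inv_mem hg)
  have cjC : ∀ b ∈ C, ∀ g ∈ X, g * b * g⁻¹ ∈ C := by
    rintro _ ⟨k, hk, rfl⟩ g hg; exact ⟨g * k, mul_mem hg hk, by group⟩
  have hC : RI C := ⟨fun d hd => h.sq d (CD hd), fun d hd => h.ne d (CD hd), fun d hd e he => cjC d hd e (CX e he),
    fun b hb c hc => (ot_cases hD (CD hb) (CD hc)).imp_right fun e => Or.inl e.2⟩
  have e : closure C = X := le_antisymm ((closure_le _).2 CX) (hX ▸ closure_mono (by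
    rintro s (hs | rfl)
    exacts [cj_of_od h hc (hS s hs).1 (hS s hs).2 xX (hX ▸ subset_closure (Or.inl hs)), ⟨1, one_mem _, by simp⟩]))
  have hD' : IsRootInvolutionSet (X.subtype ⁻¹' C) := e ▸ sub_set hC
  refine ⟨⟨hD', fun a ha b hb e => hD.2 a (CD ha) b (CD hb) ((orderOf_coe _).trans e)⟩, ?_⟩
  rintro a ⟨g, hg, e1⟩ b ⟨k, hk, e2⟩
  refine ⟨⟨k * g⁻¹, mul_mem hk (inv_mem hg)⟩, hD'.generates ▸ mem_top _, Subtype.ext ?_⟩
  change k * g⁻¹ * (a : G) * (k * g⁻¹)⁻¹ = (b : G)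
  rw [← e1, ← e2]; group

theorem disc0 (hc : Cls D) (ha : a ∈ D) (hy : y ∈ D) (hx : x ∈ D) (hay : Commute a y) (ho : Od a x)
    (hz : z ∈ center G) (z2 : z * z = 1) (hw : a * y * z ∈ D) (gen : closure (E[D] a ∪ E[D] y ∪ {x}) = ⊤) :
    ¬ Cn D a x := by
  have h := ri_of hD.1
  have hf := QuotientGroup.mk'_surjective (pCore 2 G)
  have h2 : ∀ a ∈ D, ∀ b ∈ D, Od a b → QuotientGroup.mk' (pCore 2 G) a ≠ QuotientGroup.mk' (pCore 2 G) b :=
    fun a ha b hb ho e => by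
      obtain ⟨k, hk⟩ := H1.isPGroup_pCore (G := G) 2 ⟨a⁻¹ * b, QuotientGroup.eq.1 e⟩
      have h3 : (a * b) ^ 2 ^ k = 1 := by simpa [h.inv ha] using congrArg Subtype.val hk
      have := orderOf_eq_one_iff.1 (((Nat.coprime_two_right.2 ho.2).pow_right k).eq_one_of_dvd
        (orderOf_dvd_of_pow_eq_one h3))
      exact ho.1 (by rw [eq_inv_of_mul_eq_one_left this, h.inv hb])
  have h1 : ∀ b ∈ D, QuotientGroup.mk' (pCore 2 G) b ≠ 1 := fun b hb e => by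
    have h3 := eq_top_of_mem hD.1 hc hb ((QuotientGroup.eq_one_iff b).1 e)
    exact h.not_od_of_pgroup (H1.isPGroup_pCore 2) (h3 ▸ mem_top a) (h3 ▸ mem_top x) hx ho
  have fz : QuotientGroup.mk' (pCore 2 G) z = 1 := by
    have := H1.normal_of_le_center (zpowers_le.2 hz)
    exact (QuotientGroup.eq_one_iff z).2 (H1.le_pCore (isPGroup_zpowers (p := 2) (k := 1) (by simpa [sq] using z2))
      (mem_zpowers _))
  have hO := H1.pCore_quotient_pCore (G := G) 2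
  generalize QuotientGroup.mk' (pCore 2 G) = f at *
  have hD' := img_set hD.1 hf h1
  have im : ∀ b ∈ D, f b ∈ f '' D := fun b hb => ⟨b, hb, rfl⟩
  have hD2 : IsOddTranspositionSet (f '' D) := ⟨hD', by
    rintro _ ⟨a, ha, rfl⟩ _ ⟨b, hb, rfl⟩ e
    rcases ot_cases hD ha hb with e1 | e1
    · exact (ri_of hD').v4_not_comm (im a ha) (im b hb) e (e1.map f)
    · have := e1.2.of_dvd_nat (orderOf_map_dvd f _)
      rw [map_mul, e] at this
      exact absurd this (by decide)⟩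
  have hc' : Cls (f '' D) := by
    rintro _ ⟨a, ha, rfl⟩ _ ⟨b, hb, rfl⟩
    obtain ⟨g, -, rfl⟩ := hc a ha b hb
    exact ⟨f g, hD'.generates ▸ mem_top _, by simp⟩
  have hE : ∀ d ∈ D, ∀ s ∈ E[D] d, f s ∈ E[f '' D] (f d) := fun d hd s hs => mem_E.2 ⟨im s hs.1, by
    rintro _ ⟨c, hC, rfl⟩
    exact ⟨fun e => (E_comm hs hC (comm_of_map h h1 h2 hC hd e)).map f,
      fun e => (((mem_E.1 hs).2 c hC).2 (comm_of_map h h1 h2 hC hs.1 e)).map f⟩⟩
  have w : f a * f y ∈ f '' D := ⟨_, hw, by rw [map_mul, map_mul, fz, mul_one]⟩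
  have ey := mem_E_of_mul hD2 (im a ha) (im y hy) (hay.map f) w
  have H : Hy (f '' D) (f a) (f x) := ⟨im a ha, im x hx, ⟨h2 a ha x hx ho,
    map_mul f a x ▸ ho.2.of_dvd_nat (orderOf_map_dvd f _)⟩, by
      rw [eq_top_iff, ← map_top_of_surjective f hf, ← gen, MonoidHom.map_closure, closure_le]
      rintro _ ⟨s, (hs | hs) | rfl, rfl⟩ <;> refine subset_closure ?_
      exacts [Or.inl (hE a ha s hs), Or.inl (E_eq ey ▸ hE y hy s hs), Or.inr rfl]⟩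
  have hl := (ri_of hD').lined hc' ⟨_, w, _, im a ha, _, im y hy, hay.map f, (ri_of hD').ne _ w, rfl⟩
  intro e
  have key : ∀ c, Cn D a c → f c ∈ E[f '' D] (f a) := fun c h1 => by
    induction h1 with
    | refl => exact self_E (im a ha)
    | tail _ h2 ih => exact E_eq ih ▸ (H.of_E hD2 ih).mem_E_of_comm hD2 hO hl (im _ h2.2.1) (Commute.map h2.2.2.2 f)
  exact (ri_of hD').od_not_comm H.md H.mx H.od (E_comm' (self_E H.md) (key x e))

theorem E_cl (hc : c ∈ D) (cX : c ∈ X) {a e : X} (ha : (a : G) ∈ D) (ho : Od c a) (he : (e : G) ∈ E[D] a) :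
    e ∈ E[Cl X c] a := mem_E.2 ⟨mem_cl hD hc cX he.1 (od_E hD hc ha ho he), fun b hb => Subtype.ext_iff.trans
      (((mem_E.1 he).2 b (cl_mem hD hc hb)).trans (Subtype.ext_iff (a1 := b * e) (a2 := e * b)).symm)⟩

theorem cl_set2 (ha : a ∈ D) (hy : y ∈ D) (hc : c ∈ D) (h1 : Od c a) (h2 : Od c y)
    (hX : closure (E[D] a ∪ E[D] y ∪ {c}) = X) : IsOddTranspositionSet (Cl X c) ∧ Cls (Cl X c) :=
  cl_set hD hc (by
    rintro s (hs | hs); exacts [⟨hs.1, od_E hD hc ha h1 hs⟩, ⟨hs.1, od_E hD hc hy h2 hs⟩]) hX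

theorem disc (ha : a ∈ D) (hy : y ∈ D) (hc : c ∈ D) (hay : Commute a y) (h1 : Od c a) (h2 : Od c y)
    (hn : ¬ Commute c (a * y * c * (a * y)⁻¹)) (hX : closure (E[D] a ∪ E[D] y ∪ {c}) = X) (aX : a ∈ X) (cX : c ∈ X) :
    ¬ Cn (Cl X c) ⟨a, aX⟩ ⟨c, cX⟩ := by
  have h := ri_of hD.1
  have yX : y ∈ X := hX ▸ subset_closure (Or.inl (Or.inr (self_E hy)))
  obtain ⟨hD', hc'⟩ := cl_set2 hD ha hy hc h1 h2 hX
  have ne : y ≠ a := fun e => hn (by rw [e, h.sq a ha]; simp)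
  have w2 : a * y * (a * y) = 1 := ord2_mul_self (ord2_mul_of_commute (h.sq a ha) (h.sq y hy) hay ne.symm)
  obtain ⟨t, m, tX⟩ := exists_mid h hc (hD.1.conj_mem c hc _) ((ot_cases hD hc (hD.1.conj_mem c hc _)).resolve_left hn)
  replace tX := tX X cX (mul_mem (mul_mem (mul_mem aX yX) cX) (inv_mem (mul_mem aX yX)))
  have k2 := m.comm_swap hD.1 rfl w2
  have k3 := comm_of_mul hD ha hy hay ne m.mem k2
  have k4 := comm_of_mul hD hy ha hay.symm ne.symm m.mem (hay.eq ▸ k2)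
  have k5 : X ≤ centralizer {t * (a * y)} := hX ▸ (closure_le _).2 (by
    rintro s ((hs | hs) | rfl) <;> refine mem_centralizer_singleton_iff.2 (Commute.symm ?_)
    exacts [(E_comm hs m.mem k3.symm).mul_left ((E_comm hs ha rfl).mul_left (E_comm hs hy hay.symm)),
      (E_comm hs m.mem k4.symm).mul_left ((E_comm hs ha hay).mul_left (E_comm hs hy rfl)), m.cent hD.1 rfl])
  refine disc0 hD' hc' (y := ⟨y, yX⟩) (z := ⟨t * (a * y), mul_mem tX (mul_mem aX yX)⟩) (mem_cl hD hc cX ha h1)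
    (mem_cl hD hc cX hy h2) ⟨1, one_mem _, by simp⟩ (Subtype.ext hay) ⟨fun e => h1.1 (congrArg Subtype.val e).symm,
      by rw [← orderOf_coe]; exact h1.symm.2⟩ (mem_center_iff.2 fun g => Subtype.ext
      (mem_centralizer_singleton_iff.1 (k5 g.2))) (Subtype.ext ?_) ?_ ?_
  · change t * (a * y) * (t * (a * y)) = 1
    rw [mul_assoc, ← mul_assoc (a * y), k2.eq, mul_assoc t, w2, mul_one, h.sq t m.mem]
  · have : a * y * (t * (a * y)) = t := by rw [← mul_assoc, k2.eq, mul_assoc, w2, mul_one]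
    exact mem_cl hD hc cX (by change a * y * (t * (a * y)) ∈ D; rw [this]; exact m.mem)
      (by change Od c (a * y * (t * (a * y))); rw [this]; exact m.od)
  · subst hX
    rw [eq_top_iff, ← closure_preimage_eq_top]
    exact closure_mono (by
      rintro s ((hs | hs) | hs)
      exacts [Or.inl (Or.inl (E_cl hD hc cX ha h1 hs)), Or.inl (Or.inr (E_cl hD hc cX hy h2 hs)),
        Or.inr (Subtype.ext hs)])

theorem line (hl : Lined D) (ha : a ∈ D) : ∃ e ∈ E[D] a, a * e ∈ E[D] a := by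
  obtain ⟨b, hb, h2, h3⟩ := hl a ha
  exact ⟨b, mem_E_of_mul hD ha hb h2 h3, mem_E_of_mul hD ha h3 ((Commute.refl a).mul_right h2)
    (by rwa [(ri_of hD.1).mul_mul ha])⟩

theorem nonexc (hl : Lined D) (ha : a ∈ D) (hy : y ∈ D) (hc : c ∈ D) (hay : Commute a y) (h1 : Od c a) :
    ∃ e ∈ E[D] a, ¬ Commute c (e * y * c * (e * y)⁻¹) := by
  have h := ri_of hD.1
  obtain ⟨e, he, h3⟩ := line hD hl ha
  by_contra! hn
  have key : ∀ s ∈ E[D] a, Commute (y * c * y⁻¹) (s * c * s⁻¹) := fun s hs => by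
    have := commute_cj (hn s hs) s
    rw [show s * (s * y * c * (s * y)⁻¹) * s⁻¹ = s * s * y * c * (s * s * y)⁻¹ by group, h.sq s hs.1, one_mul] at this
    exact this.symm
  have ae := E_comm' (self_E ha) he
  have o := od_E hD hc ha h1 h3
  have m : Mid D (a * c * a⁻¹) (e * c * e⁻¹) (a * e) := ⟨h3.1, by
    have := o.cj a
    rwa [cj_eq ((Commute.refl a).mul_right ae)] at this, by
    rw [ae.eq, show e * a * (a * c * a⁻¹) * (e * a)⁻¹ = e * (a * a) * c * (e * (a * a))⁻¹ by group, h.sq a ha, mul_one]⟩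
  have k := commute_cj (m.comm_fix hD.1 (key a (self_E ha)) (key e he)) y⁻¹
  rw [cj_eq (E_comm h3 hy hay.symm).inv_left] at k
  exact h.od_not_comm hc h3.1 o (by simpa [mul_assoc] using k)

theorem dd_cl (hl : Lined D) (ha : a ∈ D) (hc : c ∈ D) (h1 : Od c a) (cX : c ∈ X) (hX : ∀ e ∈ E[D] a, e ∈ X) :
    (Cl X c ∩ commutingProducts (Cl X c)).Nonempty := by
  obtain ⟨e, he, h3⟩ := line hD hl ha
  have m : ∀ s (hs : s ∈ E[D] a), (⟨s, hX s hs⟩ : X) ∈ Cl X c := fun s hs =>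
    mem_cl hD hc cX hs.1 (od_E hD hc ha h1 hs)
  exact ⟨_, m _ h3, _, m a (self_E ha), _, m e he, Subtype.ext (E_comm' (self_E ha) he),
    fun k => (ri_of hD.1).ne _ h3.1 (congrArg Subtype.val k), rfl⟩

theorem mem_E_of_sub (hc : Cls D) (ha : a ∈ D) (hb : b ∈ D) (h1 : ∀ u ∈ D, Commute u a → Commute u b) : b ∈ E[D] a := by
  have h := ri_of hD.1
  refine (h.same_iff hc ha).2 ⟨hb, by_contra fun hn => ?_⟩
  obtain ⟨x, hx, h2, h3⟩ := h.ex_ods hc hb ha hn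
  exact h3 (h.ods_of_cent ha hb h1 ⟨hx, h2⟩).2

theorem j1 (hC : Cls D) (hl : Lined D) (ha : a ∈ D) (hc : c ∈ D) (h1 : Od c a) (hg : g ∈ closure (E[D] a ∪ {c}))
    (k : Commute (g * c * g⁻¹) a) : g * c * g⁻¹ ∈ E[D] a := by
  refine mem_E_of_sub hD hC ha (hD.1.conj_mem c hc g) fun u hu ua => ?_
  rcases ot_cases hD hc hu with cu | cu
  · have : closure (E[D] a ∪ {c}) ≤ centralizer {u} := (closure_le _).2 (by
      rintro s (hs | rfl) <;> refine mem_centralizer_singleton_iff.2 ?_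
      exacts [(E_comm hs hu ua).symm, cu])
    have gu : Commute u g := (mem_centralizer_singleton_iff.1 (this hg)).symm
    exact (gu.mul_right cu.symm).mul_right gu.inv_right
  obtain ⟨e, he, hn⟩ := nonexc hD hl ha hu hc ua.symm h1
  have oe := od_E hD hc ha h1 he
  obtain ⟨X, hX⟩ : ∃ X, closure (E[D] e ∪ E[D] u ∪ {c}) = X := ⟨_, rfl⟩
  have eX : ∀ s ∈ E[D] e, s ∈ X := fun s hs => hX ▸ subset_closure (Or.inl (Or.inl hs))
  have cX : c ∈ X := hX ▸ subset_closure (Or.inr rfl)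
  have uX : u ∈ X := hX ▸ subset_closure (Or.inl (Or.inr (self_E hu)))
  have gX : g ∈ X := (closure_le _).2 (by
    rintro s (hs | rfl); exacts [eX s (E_eq he ▸ hs), cX]) hg
  have eu := E_comm he hu ua
  have me := mem_cl hD hc cX (b := ⟨e, eX e (self_E he.1)⟩) he.1 oe
  have mu := mem_cl hD hc cX (b := ⟨u, uX⟩) hu cu
  have mf : (⟨g * c * g⁻¹, mul_mem (mul_mem gX cX) (inv_mem gX)⟩ : X) ∈ Cl X c := ⟨g, gX, rfl⟩
  exact congrArg Subtype.val (zd.comm_of_cn (cl_set2 hD he.1 hu hc oe cu hX).1.1 (dd_cl hD hl he.1 hc oe cX eX) me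
    ⟨1, one_mem _, by simp⟩ (disc hD he.1 hu hc eu.symm oe cu hn hX _ cX) mu ((cn_of_comm mu me (Subtype.ext eu)).trans
      (cn_of_comm me mf (Subtype.ext (E_comm he (hD.1.conj_mem c hc g) k).symm))))

theorem j2 (hC : Cls D) (hl : Lined D) (ha : a ∈ D) (hc : c ∈ D) (h1 : Od c a) (hg : g ∈ closure (E[D] a ∪ {c}))
    (k : Commute (g * c * g⁻¹) c) : g * c * g⁻¹ ∈ E[D] c := by
  have h := ri_of hD.1
  obtain ⟨t, m, tX⟩ := exists_mid h hc ha h1
  have k2 := commute_cj k t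
  have e : t * (g * c * g⁻¹) * t⁻¹ = t * g * c * (t * g)⁻¹ := by group
  rw [m.cj, e] at k2
  have := E_cj hD.1 (j1 hD hC hl ha hc h1 (mul_mem (tX _ (subset_closure (Or.inr rfl))
    (subset_closure (Or.inl (self_E ha)))) hg) k2) t
  rwa [m.cj' h, ← e, show t * (t * (g * c * g⁻¹) * t⁻¹) * t⁻¹ = t * t * (g * c * g⁻¹) * (t * t)⁻¹ by group,
    h.sq t m.mem, one_mul, inv_one, mul_one] at this

theorem E_le (ha : a ∈ D) (hc : c ∈ D) (h1 : Od c a) (he : e ∈ E[D] c) : e ∈ closure (E[D] a ∪ {c}) := by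
  have h := ri_of hD.1
  obtain ⟨t, m, tX⟩ := exists_mid h hc ha h1
  have k := tX (closure (E[D] a ∪ {c})) (subset_closure (Or.inr rfl)) (subset_closure (Or.inl (self_E ha)))
  have k2 : t * e * t⁻¹ ∈ closure (E[D] a ∪ {c}) := subset_closure (Or.inl (m.cj ▸ E_cj hD.1 he t))
  rw [show e = t⁻¹ * (t * e * t⁻¹) * t by group]
  exact mul_mem (mul_mem (inv_mem k) k2) k

omit hD in
theorem comm_of_center {Ω : Type u} [MulAction G Ω] [FaithfulSMul G Ω] (h : H15.Bd.Base G Ω) {γ : Ω}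
    (ha : a ∈ H15.Bd.Inv G γ) (hb : b ∈ H15.Bd.Inv G γ) : Commute a b := by
  obtain ⟨S, hS⟩ := h.con γ
  have := h.trans
  have k := hS.comm_mem h.bs (h.top_not_le γ) ha (mem_top _) (hS.inv_mem' h.bs (h.top_not_le γ) hb (mem_top _))
  refine commutatorElement_eq_one_iff_commute.1 (eq_of_smul_eq_smul (α := Ω) fun x => ?_)
  obtain ⟨g, rfl⟩ := MulAction.exists_smul_eq G γ x
  rw [(H15.Bd.mem_kerO.1 k).2 g (mem_top g), one_smul]

theorem star (hC : Cls D) (hl : Lined D) (ha : a ∈ D) (hy : y ∈ D) (hc : c ∈ D) (hay : Commute a y) (h1 : Od c a)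
    (h2 : Od c y) : ∃ e ∈ E[D] a, Commute c (e * y * c * (e * y)⁻¹) := by
  have h := ri_of hD.1
  by_contra! hn
  obtain ⟨X, hX⟩ : ∃ X, closure (E[D] a ∪ E[D] y ∪ {c}) = X := ⟨_, rfl⟩
  have eX : ∀ s ∈ E[D] a, s ∈ X := fun s hs => hX ▸ subset_closure (Or.inl (Or.inl hs))
  have eX' : ∀ s ∈ E[D] y, s ∈ X := fun s hs => hX ▸ subset_closure (Or.inl (Or.inr hs))
  have cX : c ∈ X := hX ▸ subset_closure (Or.inr rfl)
  have aX := eX a (self_E ha)
  have yX := eX' y (self_E hy)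
  obtain ⟨hD', hC'⟩ := cl_set2 hD ha hy hc h1 h2 hX
  have h' := ri_of hD'.1
  have dd := dd_cl hD hl ha hc h1 cX eX
  have ma := mem_cl hD hc cX (b := ⟨a, aX⟩) ha h1
  have my := mem_cl hD hc cX (b := ⟨y, yX⟩) hy h2
  have mc : (⟨c, cX⟩ : X) ∈ Cl X c := ⟨1, one_mem _, by simp⟩
  obtain ⟨_, -, M, hM⟩ := zd.dc hD'.1 dd ma mc (disc hD ha hy hc hay h1 h2 (hn a (self_E ha)) hX aX cX)
  have hl' := h'.lined hC' dd
  have h0 := not_mem_core hD'.1 hC' hl'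
  have n1 : ∀ d ∈ Cl X c, QuotientGroup.mk' (twoZCore X) d ≠ 1 := fun d hd e =>
    h0 d hd ((QuotientGroup.eq_one_iff d).1 e)
  have n2 := sep_of_normal h' hl' h0
  generalize QuotientGroup.mk' (twoZCore X) = f at *
  have cm : ∀ {s t : X}, s ∈ Cl X c → t ∈ Cl X c → Commute (f s) (f t) → Commute (s : G) t := fun hs ht k =>
    congrArg Subtype.val (comm_of_map h' n1 n2 hs ht k)
  have o2 : ∀ s ∈ Cl X c, orderOf (f s) = 2 := fun s hs =>
    ord2_of (by rw [← map_mul, h'.sq s hs, map_one]) (n1 s hs)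
  let L : G → Subgroup (X ⧸ twoZCore X) := fun b => ((closure (E[D] b ∪ {c})).subgroupOf X).map f
  have mL : ∀ b (s : X), (s : G) ∈ E[D] b → f s ∈ L b := fun b s hs => ⟨s, subset_closure (Or.inl hs), rfl⟩
  have cL : ∀ b, f ⟨c, cX⟩ ∈ L b := fun b => ⟨_, subset_closure (Or.inr rfl), rfl⟩
  have four : ∀ b ∈ D, Od c b → (∀ s ∈ E[D] b, s ∈ X) → H15.Bd.Four (L b) := fun b hb o bX => by
    obtain ⟨e, he, h3⟩ := line hD hl hb
    have m : ∀ s (hs : s ∈ E[D] b), (⟨s, bX s hs⟩ : X) ∈ Cl X c := fun s hs =>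
      mem_cl hD hc cX hs.1 (od_E hD hc hb o hs)
    refine ⟨_, mL b ⟨b, bX b (self_E hb)⟩ (self_E hb), _, mL b ⟨e, bX e he⟩ he, o2 _ (m b (self_E hb)), o2 _ (m e he),
      fun k => n1 _ (m _ h3) ?_, Commute.map (show Commute (⟨b, _⟩ : X) ⟨e, _⟩ from Subtype.ext (E_comm' (self_E hb) he)) f⟩
    rw [show (⟨b * e, bX _ h3⟩ : X) = ⟨b, bX b (self_E hb)⟩ * ⟨e, bX e he⟩ from rfl, map_mul, k]
    exact ord2_mul_self (o2 _ (m e he))
  have hB := H15.Bd.base_of_se hM ((four a ha h1 eX).mono le_top)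
  have := H15.Bd.faithful_of_core ((M.normalCore_normal.eq_bot_or_eq_top).resolve_right fun e =>
    hM.1 (eq_top_iff.2 (e ▸ M.normalCore_le)))
  obtain ⟨α, hα⟩ := hB.bs.exists_center (o2 _ ma)
  obtain ⟨γ, hγ⟩ := hB.bs.exists_center (o2 _ mc)
  have hα' : f ⟨y, yX⟩ ∈ H15.Bd.Inv _ α := ⟨o2 _ my, hB.bs.fix_of_commute hα (Commute.map
    (show Commute (⟨y, _⟩ : X) ⟨a, _⟩ from Subtype.ext hay.symm) f)⟩
  have ne : α ≠ γ := fun e => h.od_not_comm hc ha h1 (cm mc ma (comm_of_center hB hγ (e ▸ hα)))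
  have pull : ∀ b (bX : b ∈ X), b ∈ D → f ⟨b, bX⟩ ∈ H15.Bd.Inv _ α → ∀ v ∈ L b, orderOf v = 2 →
      ∃ g ∈ closure (E[D] b ∪ {c}), ∃ k : g * c * g⁻¹ ∈ X, ⟨_, k⟩ ∈ Cl X c ∧ f ⟨_, k⟩ = v := fun b bX hb i v hv ov => by
    obtain ⟨_, ⟨g, hg, rfl⟩, e⟩ := hB.bs.exists_conj_mem hγ (cL b)
      (fun e => ne (hB.bs.center_eq i (e (mL b ⟨b, bX⟩ (self_E hb)))).symm) ov hv
    refine ⟨(g⁻¹ : X), inv_mem hg, (g⁻¹ * ⟨c, cX⟩ * g⁻¹⁻¹ : X).2, ⟨_, g⁻¹.2, rfl⟩, ?_⟩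
    change f (g⁻¹ * ⟨c, cX⟩ * g⁻¹⁻¹) = v
    simp [← e, mul_assoc]
  have key := mem_of_inv hB hα hα' hγ ne (four a ha h1 eX) (four y hy h2 eX') (mL a _ (self_E ha)) (cL a)
    (mL y _ (self_E hy)) (cL y) fun v hv i => by
      obtain ⟨g, hg, k, m, rfl⟩ := pull y yX hy hα' v hv i.1
      exact ⟨_, E_le hD ha hc h1 (j2 hD hC hl hy hc h2 hg (cm m mc (comm_of_center hB i hγ))), rfl⟩
  obtain ⟨g, hg, k, m, e⟩ := pull a aX ha hα _ key hα'.1
  refine hn _ (j1 hD hC hl ha hc h1 hg (cm m ma (e ▸ comm_of_center hB hα' hα)))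
    (cm mc (hD'.1.conj_mem _ mc (⟨_, k⟩ * ⟨y, yX⟩)) ?_)
  rw [map_mul, map_mul, map_inv, map_mul, e, ord2_mul_self hα'.1]
  simp

theorem step (hC : Cls D) (hl : Lined D) (hd : d ∈ D) (ha : a ∈ D) (hb : b ∈ D) (hc : c ∈ D) (h1 : Commute a d)
    (h2 : Commute a b) (h3 : Commute c b) : ∃ e ∈ D, Commute e d ∧ Commute e c := by
  have h := ri_of hD.1
  rcases ot_cases hD hb hd with k1 | k1
  · exact ⟨b, hb, k1, h3.symm⟩
  rcases ot_cases hD hc ha with k2 | k2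
  · exact ⟨a, ha, h1, k2.symm⟩
  obtain ⟨t, m, -⟩ := exists_mid h hb hd k1
  rcases ot_cases hD hc m.mem with k3 | k3
  · exact ⟨c, hc, m.cj ▸ (k3.mul_right h3).mul_right k3.inv_right, rfl⟩
  obtain ⟨e, he, k⟩ := star hD hC hl ha m.mem hc (m.comm_fix hD.1 h2 h1) k2 k3
  refine ⟨_, hD.1.conj_mem c hc _, ?_, k.symm⟩
  have := commute_cj h3 (e * t)
  rwa [show e * t * b * (e * t)⁻¹ = e * (t * b * t⁻¹) * e⁻¹ by group, m.cj, cj_eq (E_comm he hd h1.symm).symm] at this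

theorem diam (hC : Cls D) (hl : Lined D) (hd : d ∈ D) (k : Cn D d x) : ∃ e ∈ D, Commute e d ∧ Commute e x := by
  induction k with
  | refl => exact ⟨d, hd, rfl, rfl⟩
  | tail _ h2 ih =>
    obtain ⟨e, he, k1, k2⟩ := ih
    exact step hD hC hl hd he h2.1 h2.2.1 k1 k2 h2.2.2.2.symm

end H6.OT
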