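import Cfsg.Agent.H6.PT2
import Cfsg.Agent.H6.Act
import Cfsg.Agent.S3289
import Cfsg.Agent.H15.BF

/-! Sets of `p`-transpositions, `p ≥ 5`: the minimal counterexample, second part. -/

set_option autoImplicit false
set_option linter.unusedSectionVars false

namespace H6.Tp

open Subgroup Cfsg

variable {G : Type*} [Group G]

/-- the block of `a` -/
def Bl (D : Set G) (a : G) : Set G := {b | b ∈ D ∧ V D a b}

/-- the stabiliser of the block of `a` -/
def PT.M {p : ℕ} {D : Set G} (h : PT p D) (a : G) : Subgroup G where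
  carrier := {g | V D a (g * a * g⁻¹)}
  mul_mem' := fun {g k} h1 h2 => V.trans h1 (by simpa [mul_assoc] using h.vconj g h2)
  one_mem' := by simpa using V.refl a
  inv_mem' := fun {g} h1 => by simpa [mul_assoc] using (h.vconj g⁻¹ h1).symm

theorem PT.mem_M {p : ℕ} {D : Set G} (h : PT p D) {a g : G} : g ∈ h.M a ↔ V D a (g * a * g⁻¹) := Iff.rfl

theorem PT.bl_conj {p : ℕ} {D : Set G} (h : PT p D) {a b g : G} (hg : g ∈ h.M a) (hb : b ∈ Bl D a) :
    g * b * g⁻¹ ∈ Bl D a := ⟨h.conj g b hb.1, V.trans hg (h.vconj g hb.2)⟩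

theorem par [Finite G] {X : Set G} {s : G} (hs : s * s = 1) (hX : ∀ x ∈ X, s * x * s⁻¹ ∈ X) :
    X.ncard ≡ {x ∈ X | Commute s x}.ncard [MOD 2] := by
  have := ncard_modEq_fixedBy (p := 2) (k := 1) (g := MulAut.conj s) (Ω := G)
    (by rw [pow_one, pow_two, ← map_mul, hs, map_one]) X X.toFinite hX
  convert this using 2
  ext x
  simp only [Set.mem_ofPred_eq, Set.mem_inter_iff, MulAction.mem_fixedBy]
  exact and_congr_right fun _ => conj_eq_iff_commute.symm

theorem norm_closure_of [Finite G] {S : Set G} {g : G} (h : ∀ x ∈ S, g * x * g⁻¹ ∈ closure S) :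
    g ∈ normalizer (closure S : Set G) := by
  refine mem_normalizer_of_conj_le fun x hx => ?_
  have : closure S ≤ (closure S).comap (MulAut.conj g).toMonoidHom := (closure_le _).2 h
  exact this hx

/-- products of two members of the block of `a` fixing the block of `t` -/
def PT.Z {p : ℕ} {D : Set G} (h : PT p D) (a t : G) : Set G :=
  {z | z ∈ h.M t ∧ ∃ c ∈ Bl D a, ∃ d ∈ Bl D a, z = c * d}

namespace MC

variable [Finite G] {p : ℕ} {D : Set G} (h : MC p D) {a b c d t x y : G}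
include h

theorem card_bl (ha : a ∈ D) (hb : b ∈ D) : (Bl D a).ncard = (Bl D b).ncard := by
  obtain ⟨g, rfl⟩ := isConj_iff.1 (h.cls a ha b hb)
  refine Set.ncard_congr (fun x _ => g * x * g⁻¹) (fun x hx => ⟨h.conj g x hx.1, h.vconj g hx.2⟩)
    (fun x y _ _ e => cinj g e) fun y hy => ⟨g⁻¹ * y * g, ⟨by simpa using h.conj g⁻¹ y hy.1, ?_⟩, by group⟩
  simpa [mul_assoc] using h.vconj g⁻¹ hy.2

theorem even_of_fix (ha : a ∈ D) (hb : b ∈ D) (ne : a ≠ b) (v : V D a b) (xa : ¬ Commute x a)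
    (hx : x ∈ D) (k : V D x (a * b * x * (a * b)⁻¹)) : Even (Bl D x).ncard := by
  have := par (X := Bl D x) (h.zsq ha hb (v.comm ha)) fun y hy => h.bl_conj k hy
  rw [show {y ∈ Bl D x | Commute (a * b) y} = ∅ from Set.eq_empty_of_forall_notMem fun y hy =>
    xa ((hy.1.2 a ha).2 (h.comm_mul ha hb hy.1.1 (v.comm ha) ne hy.2.symm).symm).symm] at this
  exact even_iff_two_dvd.2 ((Nat.modEq_zero_iff_dvd).1 (by simpa using this))

theorem z_comm {e z : G} (he : e ∈ Bl D a) (hz : z ∈ h.Z a t) : Commute e z := by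
  obtain ⟨-, c, hc, d, hd, rfl⟩ := hz
  exact (he.2.comm2 hc.2 he.1).mul_right (he.2.comm2 hd.2 he.1)

theorem z_pg : IsPGroup 2 (closure (h.Z a t)) := by
  refine pg_closure ?_ ?_
  · rintro _ ⟨-, c, hc, d, hd, rfl⟩
    exact h.zsq hc.1 hd.1 (hc.2.comm2 hd.2 hc.1)
  · rintro _ ⟨-, c, hc, d, hd, rfl⟩ z hz
    exact (h.z_comm hc hz).mul_left (h.z_comm hd hz)

theorem z_norm (ha : a ∈ D) : closure (h.Z a t) ≤ normalizer (closure (h.Z t a) : Set G) := by
  refine (closure_le _).2 fun z hz => norm_closure_of ?_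
  rintro _ ⟨hw, c, hc, d, hd, rfl⟩
  have : z ∈ h.M a := by
    rw [h.mem_M, cfix (h.z_comm ⟨ha, V.refl a⟩ hz).symm]; exact V.refl a
  exact subset_closure ⟨mul_mem (mul_mem this hw) (inv_mem this), _, h.bl_conj hz.1 hc, _,
    h.bl_conj hz.1 hd, cmul _ _ _⟩

theorem r_norm {e : G} (he : e ∈ Bl D a) : e ∈ normalizer (closure (h.Z a t ∪ h.Z t a) : Set G) := by
  refine norm_closure_of ?_
  rintro z (hz | hz)
  · rw [cfix (h.z_comm he hz)]; exact subset_closure (Or.inl hz)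
  obtain ⟨hw, c, hc, d, hd, e1⟩ := id hz
  by_cases ne : c = d
  · rw [e1, ne, h.sq hd.1]; simpa using one_mem _
  have c1 := hc.2.comm2 hd.2 hc.1
  have z2 : z * z = 1 := e1 ▸ h.zsq hc.1 hd.1 c1
  have he' := h.bl_conj hw he
  have c2 := he.2.comm2 he'.2 he.1
  have e2 : e * z * e⁻¹ = (e * (z * e * z⁻¹)) * z := by rw [h.inv he.1]; group
  rw [e2]
  refine mul_mem (subset_closure (Or.inl ⟨?_, e, he, _, he', rfl⟩)) (subset_closure (Or.inr hz))
  have c3 := czz z2 c2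
  generalize e * (z * e * z⁻¹) = w at c3 ⊢
  have key : ∀ y ∈ D, Commute y t ↔ Commute y z := fun y hy => by
    rw [e1]
    exact ⟨fun k => ((hc.2 y hy).1 k).mul_right ((hd.2 y hy).1 k),
      fun k => (hc.2 y hy).2 (h.comm_mul hc.1 hd.1 hy c1 ne k)⟩
  intro y hy
  rw [key y hy, ← cm_iff w⁻¹, ← cm_iff w⁻¹ (b := w * t * w⁻¹), cfix c3.inv_left, ← key _ (h.conj w⁻¹ y hy)]
  simp [mul_assoc]

theorem proper_of_even (ha : a ∈ D) (hb : b ∈ D) (hx : x ∈ D) (v : V D a b) (xa : ¬ Commute x a)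
    (ev : Even (Bl D x).ncard) : closure ({a, b, x} : Set G) ≠ ⊤ := by
  set T : Set G := {t | t ∈ D ∧ V D x (t * a * t⁻¹)} with hT
  have nc : ∀ t ∈ T, ¬ Commute t a := fun t ht k => xa (by have := ht.2; rw [cfix k] at this; exact this.comm hx)
  have cT : T.ncard = (Bl D x).ncard := by
    refine Set.ncard_congr (fun t _ => t * a * t⁻¹) (fun t ht => ⟨h.conj t a ha, ht.2⟩)
      (fun s t hs ht e => h.swap_uniq hs.1 ht.1 ha (nc s hs) e) fun y hy => ?_
    obtain ⟨t, ht, e⟩ := h.ex_swap ha hy.1 fun k => xa ((hy.2 a ha).2 k).symm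
    exact ⟨t, ⟨ht, e ▸ hy.2⟩, e⟩
  have mM : ∀ s ∈ T, ∀ t ∈ T, s * t ∈ h.M a := fun s hs t ht => by
    have := h.vconj s (hs.2.symm.trans ht.2)
    simpa [h.mem_M, mul_assoc, h.inv hs.1, h.ll hs.1, h.sq hs.1] using this
  obtain ⟨t, ht, e⟩ := h.ex_swap ha hx fun k => xa k.symm
  have tT : t ∈ T := ⟨ht, by rw [e]; exact V.refl x⟩
  have pa := par (X := T) (h.sq ht) fun s hs => ⟨h.conj t s hs.1, tT.2.trans (by
    have := h.vconj t (mM s hs t tT)
    simpa [mul_assoc, h.inv ht, h.inv hs.1] using this)⟩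
  obtain ⟨s, ⟨sT, ts⟩, ne⟩ : ∃ s ∈ {s ∈ T | Commute t s}, s ≠ t := by
    by_contra! k
    rw [show {s ∈ T | Commute t s} = {t} from Set.eq_singleton_iff_unique_mem.2 ⟨⟨tT, Commute.refl t⟩, k⟩,
      Set.ncard_singleton, cT] at pa
    obtain ⟨r, hr⟩ := ev
    unfold Nat.ModEq at pa
    omega
  have hs := sT.1
  have zM := mM t tT s sT
  have va : V D a (t * s * a * (t * s)⁻¹) := zM
  have ca := va.comm ha
  have vt : V D t s := by
    by_contra nv
    exact h.f4 ht hs ha (h.conj (t * s) a ha) ts ne.symm nv ca (fun k => nc t tT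
      (h.comm_mul ht hs ha ts ne.symm (conj_eq_iff_commute.1 k.symm).symm).symm) (czz (h.zsq ht hs ts) ca) rfl
  have pg : IsPGroup 2 (closure (h.Z a t ∪ h.Z t a)) := by
    rw [Subgroup.closure_union]
    exact IsPGroup.to_sup_of_normal_right' h.z_pg h.z_pg (h.z_norm ha)
  have nb : closure (h.Z a t ∪ h.Z t a) ≠ ⊥ := fun k => h.mul_ne ht hs ne.symm
    (mem_bot.1 (k ▸ subset_closure (Or.inr ⟨zM, t, ⟨ht, V.refl t⟩, s, ⟨hs, vt⟩, rfl⟩)))
  have n1 := h.r_norm (t := t) ⟨ha, V.refl a⟩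
  have n2 : t ∈ normalizer (closure (h.Z a t ∪ h.Z t a) : Set G) := by
    rw [Set.union_comm]; exact h.r_norm ⟨ht, V.refl t⟩
  exact h.prop_of_le (h.norm_ne pg nb) n1 (h.r_norm ⟨hb, v⟩) (e ▸ mul_mem (mul_mem n2 n1) (inv_mem n2))

theorem caseB_even (ha : a ∈ D) (hb : b ∈ D) (ne : a ≠ b) (v : V D a b) (ev : Even (Bl D a).ncard) : False :=
  h.no_ag ha hb ne v fun c hc d hd x hx v' n k => (h.vv hc hd hx (v'.comm hc) n k (fun e => k ((v' x hx).2 e))
    (h.proper_of_even hc hd hx v' k (h.card_bl ha hx ▸ ev))).2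

theorem caseB_odd (ha : a ∈ D) (hb : b ∈ D) (ne : a ≠ b) (v : V D a b) (od : ¬ Even (Bl D a).ncard) :
    IsStronglyEmbedded (h.M a) := by
  have nfix : ∀ c ∈ D, ∀ d ∈ D, ∀ x ∈ D, c ≠ d → V D c d → ¬ Commute x c →
      ¬ V D x (c * d * x * (c * d)⁻¹) := fun c hc d hd x hx n v' k e =>
    od (h.card_bl ha hx ▸ h.even_of_fix hc hd n v' k hx e)
  have cent : ∀ s : G, s * s = 1 → s ≠ 1 → ∀ c ∈ D, ∀ d ∈ D, ∀ x ∈ D, c ≠ d → V D c d → Commute c s →
      Commute d s → Commute x s → Commute x c := fun s s2 s1 c hc d hd x hx n v' k1 k2 k3 => by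
    by_contra k
    exact nfix c hc d hd x hx n v' k (h.vv hc hd hx (v'.comm hc) n k (fun e => k ((v' x hx).2 e))
      (h.prop_of_cent s2 s1 k1 k2 k3)).2
  have mate : ∀ c ∈ D, ∃ d ∈ D, c ≠ d ∧ V D c d := fun c hc => by
    obtain ⟨g, rfl⟩ := isConj_iff.1 (h.cls a ha c hc)
    exact ⟨_, h.conj g b hb, fun e => ne (cinj g e), h.vconj g v⟩
  have ct : ∀ c ∈ D, ∀ d ∈ D, ∀ x ∈ D, Commute c d → Commute x c → Commute x d := fun c hc d hd x hx k1 k2 => by
    obtain ⟨d', hd', n, v'⟩ := mate d hd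
    exact cent c (h.sq hc) (h.ne1 hc) d hd d' hd' x hx n v' k1.symm ((v' c hc).1 k1).symm k2
  have vc : ∀ c ∈ D, ∀ d ∈ D, Commute c d → V D c d := fun c hc d hd k x hx =>
    ⟨ct c hc d hd x hx k, ct d hd c hc x hx k.symm⟩
  have B1 : ∀ c ∈ Bl D a, c * c = 1 := fun c hc => h.sq hc.1
  have B2 : ∀ c ∈ Bl D a, ∀ d ∈ Bl D a, Commute c d := fun c hc d hd => hc.2.comm2 hd.2 hc.1
  have aA : a ∈ closure (Bl D a) := subset_closure ⟨ha, V.refl a⟩
  have bA : b ∈ closure (Bl D a) := subset_closure ⟨hb, v⟩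
  obtain ⟨T, hT⟩ := (pg_closure B1 B2).exists_le_sylow
  have TM : (T : Subgroup G) ≤ h.M a := fun g hg => vc a ha _ (h.conj g a ha)
    (h.comm_of_pg ha (h.conj g a ha) T.2 (mul_mem (hT aA) (mul_mem (mul_mem hg (hT aA)) (inv_mem hg))))
  have MA : ∀ g ∈ h.M a, ∀ s ∈ closure (Bl D a), g * s * g⁻¹ ∈ closure (Bl D a) := fun g hg s hs =>
    conj_mem_n (norm_closure_of fun x hx => subset_closure (h.bl_conj hg hx)) hs
  have hC : ∀ s ∈ closure (Bl D a), s ≠ 1 → centralizer ({s} : Set G) ≤ h.M a := fun s hs s1 g hg => by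
    obtain ⟨s2, sc⟩ := closure_sq B1 B2 hs
    have k := mem_cent_iff_commute.1 hg
    exact vc a ha _ (h.conj g a ha) (cent s s2 s1 a ha b hb _ (h.conj g a ha) ne v (sc a aA).symm
      (sc b bA).symm (by simpa only [cfix k] using cm g (sc a aA).symm)).symm
  have sc : IsStronglyClosed (closure (Bl D a)) (T : Subgroup G) := by
    refine ⟨hT, fun s hs g hg => ?_⟩
    by_cases s1 : s = 1
    · simpa [s1] using one_mem _
    refine MA g ?_ s hs
    obtain ⟨s2, sc⟩ := closure_sq B1 B2 hs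
    have w2 : (g * s * g⁻¹) * (g * s * g⁻¹) = 1 := by rw [← cmul, s2]; simp
    have w1 : g * s * g⁻¹ ≠ 1 := by simpa using s1
    have ya := cm g (sc a aA).symm
    have yb := cm g (sc b bA).symm
    have hy := h.conj g a ha
    have hy' := h.conj g b hb
    have vy := h.vconj g v
    have ny : g * a * g⁻¹ ≠ g * b * g⁻¹ := fun e => ne (cinj g e)
    refine vc a ha _ hy ?_
    set w := g * s * g⁻¹
    set y := g * a * g⁻¹
    by_contra n
    by_cases hc : ∀ c ∈ Bl D a, Commute c w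
    · exact n (cent w w2 w1 a ha b hb y hy ne v (hc a ⟨ha, V.refl a⟩) (hc b ⟨hb, v⟩) ya).symm
    push Not at hc
    obtain ⟨c, hc, n2⟩ := hc
    have hc' := h.bl_conj (TM hg) hc
    have c2 := B2 c hc _ hc'
    have zw := czz w2 c2
    have yc : ¬ Commute y c := fun k => n ((hc.2 y hy).2 k).symm
    refine nfix c hc.1 _ hc'.1 y hy (fun e => n2 (conj_eq_iff_commute.1 e.symm).symm)
      (hc.2.symm.trans hc'.2) yc (vc y hy _ (h.conj _ y hy) ?_)
    exact (cent w w2 w1 y hy _ hy' _ (h.conj _ y hy) ny vy ya yb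
      (by simpa only [cfix zw] using cm (c * (w * c * w⁻¹)) ya)).symm
  have hM : h.M a ≠ ⊤ := fun e => by
    obtain ⟨x, hx, xa, -⟩ := h.ex_nc2 h.cls h.gen ha hb ne
    have : x ∈ h.M a := e ▸ mem_top x
    exact h.nc_conj hx ha xa (V.comm this ha)
  have om : omegaOne 2 (closure (Bl D a)) = closure (Bl D a) := le_antisymm ((closure_le _).2 fun x hx => hx.1)
    fun x hx => subset_closure ⟨hx, by rw [pow_two, (closure_sq B1 B2 hx).1]⟩
  have key := (Cfsg.Agent.S3289.result T (closure (Bl D a)) (fun e => h.ne1 ha (mem_bot.1 (e ▸ aA))) sc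
    (h.M a) hM hC (fun g hg => by
      rw [om] at hg
      exact vc a ha _ (h.conj g a ha) ((closure_sq B1 B2 aA).2 _ (conj_mem_n hg aA)))).1
  have nc : normalClosure ((closure (Bl D a) : Subgroup G) : Set G) = ⊤ := by
    rw [eq_top_iff, ← h.gen, closure_le]
    intro d hd
    obtain ⟨g, rfl⟩ := isConj_iff.1 (h.cls a ha d hd)
    exact normalClosure_normal.conj_mem _ (le_normalClosure aA) g
  rw [nc, inf_top_eq] at key
  have := H15.Bd.se_map (f := (⊤ : Subgroup G).subtype) (fun x => ⟨⟨x, trivial⟩, rfl⟩) key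
    (by rw [ker_subtype]; exact bot_le)
  rwa [subgroupOf_map_subtype, inf_top_eq] at this

end MC

end H6.Tp
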