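import Cfsg.Agent.H6.PT3
import Cfsg.Agent.H6.Count
import Cfsg.Agent.H17.FT

/-! A class of `p`-transpositions, `p ≥ 5`, has width one modulo `O₂`. -/

set_option autoImplicit false
set_option linter.unusedSectionVars false

namespace H6.Tp

open Subgroup Cfsg MulAction H15.Bd

universe u

theorem reg_of_base {G Ω : Type u} [Group G] [Finite G] [MulAction G Ω] [FaithfulSMul G Ω] (hB : Base G Ω)
    (a : Ω) : ∃ S : Subgroup G, (∀ x ∈ S, x • a = a) ∧ (∀ g : G, g • a = a → ∀ x ∈ S, g * x * g⁻¹ ∈ S) ∧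
      IsPGroup 2 S ∧ (∀ b c : Ω, b ≠ a → c ≠ a → ∃ x ∈ S, x • b = c) ∧
      ∀ x ∈ S, ∀ b : Ω, b ≠ a → x • b = b → x = 1 := by
  obtain ⟨S, hS⟩ := hB.con a
  have := hB.trans
  have k : ∀ x, x ∈ kerO (⊤ : Subgroup G) a → x = 1 := fun x hx => eq_of_smul_eq_smul (α := Ω) fun c => by
    obtain ⟨g, rfl⟩ := exists_smul_eq G a c
    rw [(mem_kerO.1 hx).2 g (mem_top g), one_smul]
  refine ⟨S, fun x hx => (hS.le hx).2, fun g hg x hx => conj_mem_n (hS.norm ⟨mem_top g, hg⟩) hx,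
    isPGroup_of_forall fun x hx => (hS.two x hx).imp fun n hn => k _ hn, fun b c hb hc => ?_,
    fun x hx b hb e => ?_⟩
  · obtain ⟨m, rfl⟩ := exists_smul_eq G a b
    obtain ⟨n, rfl⟩ := exists_smul_eq G a c
    exact hS.trans m (mem_top m) n (mem_top n) hb hc
  · obtain ⟨m, rfl⟩ := exists_smul_eq G a b
    exact k x (hS.semi x hx m (mem_top m) hb e)

theorem fin {G Ω : Type u} [Group G] [Finite G] [MulAction G Ω] [FaithfulSMul G Ω] (hB : Base G Ω)
    {p : ℕ} {D : Set G} (h : PT p D) (all : ∀ t : G, orderOf t = 2 → t ∈ D)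
    (cls : ∀ a ∈ D, ∀ b ∈ D, IsConj a b) : False := by
  have := hB.trans
  have := hB.nontriv
  have := Fact.mk h.pp
  have uq : ∀ t ∈ D, ∀ a b : Ω, t • a = a → t • b = b → a = b := fun t ht a b h1 h2 =>
    (hB.bs t (h.ord2 t ht)).unique h1 h2
  have cfx : ∀ c ∈ D, ∀ (d : G) (a : Ω), Commute d c → c • a = a → d • a = a := fun c hc d a k e =>
    uq c hc _ _ (by rw [← mul_smul, ← k.eq, mul_smul, e]) e
  have cj : ∀ (g c : G) (a : Ω), c • a = a → (g * c * g⁻¹) • g • a = g • a := fun g c a e => by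
    rw [mul_smul, mul_smul, inv_smul_smul, e]
  have ss : ∀ t ∈ D, ∀ a : Ω, t • t • a = a := fun t ht a => by rw [← mul_smul, h.sq ht, one_smul]
  obtain ⟨b, -, b', -, ob, ob', ne, cb⟩ := hB.four
  have hb := all b ob
  have hb' := all b' ob'
  obtain ⟨β, bβ, -⟩ := hB.bs b ob
  have : Finite Ω := Finite.of_surjective (fun g : G => g • β) (exists_smul_eq G β)
  have bβ' := cfx b hb b' β cb.symm bβ
  obtain ⟨ω, ωβ⟩ := exists_ne β
  obtain ⟨g, hg⟩ := exists_smul_eq G β ω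
  have ht := h.conj g b hb
  have tω := cj g b β bβ
  rw [hg] at tω
  generalize g * b * g⁻¹ = t at ht tω
  have tβ : t • β ≠ β := fun e => ωβ (uq t ht _ _ tω e)
  have tβω : t • β ≠ ω := fun e => ωβ (by rw [← tω, ← e, ss t ht])
  -- the element `u₀`
  obtain ⟨t1, ht1, e1⟩ := h.ex_swap hb' (h.conj t b hb) fun k =>
    tβ (uq _ (h.conj t b hb) _ _ (cj t b β bβ) (cfx b' hb' _ β k.symm bβ'))
  have t1β : t1 • β = t • β := uq _ (h.conj t b hb) _ _ (e1 ▸ cj t1 b' β bβ') (cj t b β bβ)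
  have n1 : t ≠ t1 := fun e => ne (cinj t1 (e ▸ e1).symm)
  have uβ : (t * t1) • β = β := by rw [mul_smul, t1β, ss t ht]
  have uγ : (t * t1) • t • β = t • β := by rw [mul_smul, ← t1β, ss t1 ht1, t1β]
  have nc1 : ¬ Commute t t1 := fun k => ωβ (uq _ (all _ (ord2_of (h.zsq ht ht1 k) (h.mul_ne ht ht1 n1))) _ _
    (by rw [mul_smul, cfx t ht t1 ω k.symm tω, tω]) uβ)
  have fx : fixedBy Ω (t * t1) = {β, t • β} := by
    ext δ
    refine ⟨fun hδ => ?_, by rintro (rfl | rfl); exacts [uβ, uγ]⟩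
    by_cases e : δ = β
    · exact Or.inl e
    obtain ⟨S, s1, s2, s3, s4, s5⟩ := reg_of_base hB β
    obtain ⟨x, hx, rfl⟩ := s4 _ _ tβ e
    by_cases x1 : x = 1
    · exact Or.inr (by rw [x1, one_smul]; rfl)
    exfalso
    have k := s5 _ (mul_mem (inv_mem hx) (s2 _ uβ x hx)) _ tβ (by
      rw [mul_smul, mul_smul, mul_smul, inv_smul_eq_iff.2 uγ.symm, mem_fixedBy.1 hδ, inv_smul_smul])
    have k2 : Commute (t * t1) x := conj_eq_iff_commute.1 (inv_mul_eq_one.1 k).symm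
    obtain ⟨w, ⟨n, rfl⟩, ow⟩ := exists_ord2_of_pgroup (s3.to_le (zpowers_le.2 hx)) (by simpa using x1)
    have k3 := h.comm_of_line ht ht1 (all _ ow) nc1 (k2.zpow_right n).symm
    exact tβ (cfx _ (all _ ow) t β k3.symm (s1 _ (zpow_mem hx n)))
  have po : ∀ c ∈ D, ¬ Commute t c → Nat.card Ω ≡ (fixedBy Ω (t * c)).ncard [MOD p] := fun c hc k =>
    card_modEq_fixedBy (k := 1) (by rw [pow_one, ← h.ord t ht c hc k, pow_orderOf_eq_one])
  have c2 := po t1 ht1 nc1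
  rw [fx, Set.ncard_pair tβ.symm] at c2
  obtain ⟨S, s1, s2, s3, s4, s5⟩ := reg_of_base hB ω
  have cS : ∀ x ∈ S, Commute t x := by
    obtain ⟨x, hx, e⟩ := s4 _ _ ωβ.symm tβω
    obtain ⟨w, hw, ow, cw⟩ := exists_central_ord2 s3 (fun k => tβ (by
      rw [← e, (mem_bot.1 (k ▸ hx) : x = 1), one_smul]))
    obtain ⟨m, rfl⟩ := isConj_iff.1 (cls w (all w ow) t ht)
    have mω : m • ω = ω := uq _ ht _ _ (cj m w ω (s1 w hw)) tω
    intro y hy
    simpa [mul_assoc] using cm m (cw _ (s2 m⁻¹ (inv_smul_eq_iff.2 mω.symm) y hy))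
  have ex : ∀ c : {c : G // c ∈ D ∧ c • β = β}, ∃ s ∈ S, (s * c * s⁻¹) • β = t • β := by
    rintro ⟨c, hc, cβ⟩
    have k : ¬ Commute t c := fun k => tβ (cfx c hc t β k cβ)
    obtain ⟨x, hx⟩ : (fixedBy Ω (t * c)).Nonempty := by
      by_contra n
      have c3 := po c hc k
      rw [Set.not_nonempty_iff_eq_empty.1 n, Set.ncard_empty] at c3
      exact h.p2 ((Nat.prime_dvd_prime_iff_eq h.pp Nat.prime_two).1 ((Nat.modEq_zero_iff_dvd).1 (c2.symm.trans c3)))
    have e : c • x = t • x := by rw [← ss t ht (c • x), ← mul_smul t c, mem_fixedBy.1 hx]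
    obtain ⟨s, hs, e2⟩ := s4 x β (fun e3 => ωβ (uq c hc _ _ (by rw [e3, tω] at e; exact e) cβ)) ωβ.symm
    refine ⟨s, hs, ?_⟩
    show (s * c * s⁻¹) • β = t • β
    rw [← e2, mul_smul, mul_smul, inv_smul_smul, e, ← mul_smul, ← (cS s hs).eq, mul_smul]
  choose s hs es using ex
  have mD : ∀ c, s c * c * (s c)⁻¹ ∈ D := fun c => h.conj _ _ c.2.1
  have ncb : ∀ c, ¬ Commute (s c * c * (s c)⁻¹) b := fun c k => tβ (es c ▸ cfx b hb _ β k bβ)
  let φ : {c : G // c ∈ D ∧ c • β = β} → {c : G // c ∈ D ∧ c • β = β} := fun c =>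
    ⟨t * ((s c * c * (s c)⁻¹) * b * (s c * c * (s c)⁻¹)⁻¹) * t⁻¹, h.conj _ _ (h.conj _ _ hb), by
      have := cj t _ _ (cj (s c * c * (s c)⁻¹) b β bβ)
      rwa [es c, ss t ht] at this⟩
  have inj : Function.Injective φ := fun c d e => by
    have e2 := h.swap_uniq (mD c) (mD d) hb (ncb c) (cinj t (congrArg Subtype.val e))
    have e3 := uq _ (mD c) _ _ (cj (s c) c β c.2.2) (e2 ▸ cj (s d) d β d.2.2)
    have e4 := s5 _ (mul_mem (inv_mem (hs d)) (hs c)) β ωβ.symm (by rw [mul_smul, e3, inv_smul_smul])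
    rw [← inv_mul_eq_one.1 e4] at e2
    exact Subtype.ext (cinj _ e2)
  obtain ⟨c, e⟩ := Finite.injective_iff_surjective.1 inj ⟨b, hb, bβ⟩
  have e2 : (s c * c * (s c)⁻¹) * b * (s c * c * (s c)⁻¹)⁻¹ = t * b * t⁻¹ := cinj t (by
    rw [show t * (t * b * t⁻¹) * t⁻¹ = b by simp [mul_assoc, h.inv ht, h.ll ht, h.sq ht]]
    exact congrArg Subtype.val e)
  have e3 := uq _ ht _ _ (h.swap_uniq (mD c) ht hb (ncb c) e2 ▸ cj (s c) c β c.2.2) tω
  exact ωβ (by rw [← inv_smul_smul (s c) β, e3, inv_smul_eq_iff.2 (s1 _ (hs c)).symm])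

section
variable {G : Type*} [Group G] {p : ℕ} {D : Set G}

theorem PT.map {G' : Type*} [Group G'] (h : PT p D) {f : G →* G'} (hf : Function.Surjective f)
    (n : ∀ d ∈ D, f d ≠ 1) : PT p (f '' D) := by
  refine ⟨h.pp, h.p2, h.p3, ?_, ?_, ?_⟩
  · rintro _ ⟨d, hd, rfl⟩
    exact ord2_of (by rw [← map_mul, h.sq hd, map_one]) (n d hd)
  · rintro g _ ⟨d, hd, rfl⟩
    obtain ⟨g, rfl⟩ := hf g
    exact ⟨_, h.conj g d hd, by simp⟩
  · rintro _ ⟨a, ha, rfl⟩ _ ⟨b, hb, rfl⟩ k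
    have := Fact.mk h.pp
    refine orderOf_eq_prime ?_ fun e => k ?_
    · rw [← map_mul, ← map_pow, ← h.ord a ha b hb fun c => k (c.map f), pow_orderOf_eq_one, map_one]
    · rw [(eq_inv_of_mul_eq_one_left e : f a = (f b)⁻¹)]; exact (Commute.refl _).inv_left

theorem cls_map {G' : Type*} [Group G'] (f : G →* G') (cls : ∀ a ∈ D, ∀ b ∈ D, IsConj a b) :
    ∀ a ∈ f '' D, ∀ b ∈ f '' D, IsConj a b := by
  rintro _ ⟨a, ha, rfl⟩ _ ⟨b, hb, rfl⟩
  exact f.map_isConj (cls a ha b hb)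

theorem gen_map {G' : Type*} [Group G'] {f : G →* G'} (hf : Function.Surjective f) (gen : closure D = ⊤) :
    closure (f '' D) = ⊤ := by
  rw [← MonoidHom.map_closure, gen, map_top_of_surjective f hf]

theorem card_quot_lt [Finite G] {N : Subgroup G} [N.Normal] (n : N ≠ ⊥) : Nat.card (G ⧸ N) < Nat.card G := by
  rw [card_eq_card_quotient_mul_card_subgroup N]
  exact lt_mul_of_one_lt_right Nat.card_pos (N.one_lt_card_iff_ne_bot.2 n)

theorem PT.nice_odd [Finite G] (h : PT p D) :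
    Nice D ((pCore 2 (G ⧸ pPrimeCore 2 G)).comap (QuotientGroup.mk' (pPrimeCore 2 G))) := by
  intro c hc d hd y hy c1 ne hz yc yd hn
  set f := QuotientGroup.mk' (pPrimeCore 2 G)
  have od : ∀ x, x * x = 1 → f x = 1 → x = 1 := fun x x2 e => eq_one_of_odd_of_sq
    (odd_orderOf_of_odd_card (Nat.coprime_two_right.1 (H1.coprime_card_pPrimeCore 2))
      ((QuotientGroup.eq_one_iff x).1 e)) x2
  have h' := h.map (QuotientGroup.mk'_surjective (pPrimeCore 2 G)) fun d hd e => h.ne1 hd (od d (h.sq hd) e)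
  have im : ∀ x ∈ D, f x ∈ f '' D := fun x hx => ⟨x, hx, rfl⟩
  have eqv : ∀ a ∈ D, ∀ b ∈ D, ¬ Commute a b → Commute (f a) (f b) → f a = f b := fun a ha b hb k e => by
    by_contra n
    have h1 := h'.zsq (im a ha) (im b hb) e
    rw [← map_mul] at h1
    exact h'.mul_ne (im a ha) (im b hb) n (by
      rw [← map_mul]; exact eq_one_of_odd_of_sq ((h.odd ha hb k).of_dvd_nat (orderOf_map_dvd f _)) h1)
  by_contra n
  have hy' := h.conj (c * d) y hy
  have e1 := eqv y hy _ hy' n (h'.comm_of_pg (im y hy) (im _ hy') (H1.isPGroup_pCore 2)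
    (by rw [← map_mul]; exact comm_mem_n hn hz (h.inv hy)))
  have e2 : Commute (f y) (f c * f d) := by
    refine (conj_eq_iff_commute.1 ?_).symm
    rw [← map_mul, ← map_inv, ← map_mul, ← map_mul, ← e1]
  have ne' : f c ≠ f d := fun e => h.mul_ne hc hd ne (od _ (h.zsq hc hd c1) (by
    rw [map_mul, e, h'.sq (im d hd)]))
  exact ne' ((eqv y hy c hc yc (h'.comm_mul (im c hc) (im d hd) (im y hy) (c1.map f) ne' e2)).symm.trans
    (eqv y hy d hd yd (h'.comm_mul' (im c hc) (im d hd) (im y hy) (c1.map f) ne' e2)))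

end

theorem main_aux {p : ℕ} (n : ℕ) : ∀ (G : Type u) [Group G] [Finite G], Nat.card G = n → ∀ D : Set G, PT p D →
    (∀ a ∈ D, ∀ b ∈ D, IsConj a b) → closure D = ⊤ → ∀ a ∈ D, ∀ b ∈ D, Commute a b → a * b ∈ pCore 2 G := by
  induction n using Nat.strong_induction_on with
  | _ n ih =>
  intro G _ _ hn D h cls gen a ha b hb c1
  by_cases ne : a = b
  · rw [ne, h.sq hb]; exact one_mem _
  have quo : ∀ (N : Subgroup G) [N.Normal], N ≠ ⊥ → a ∉ N → ∀ c ∈ D, ∀ d ∈ D, Commute c d →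
      c * d ∈ (pCore 2 (G ⧸ N)).comap (QuotientGroup.mk' N) := fun N _ h1 h2 c hc d hd k => by
    have sj := QuotientGroup.mk'_surjective N
    rw [mem_comap, map_mul]
    refine ih _ (hn ▸ card_quot_lt h1) _ rfl _ (h.map sj fun e he k => h2 ?_) (cls_map _ cls) (gen_map sj gen)
      _ ⟨c, hc, rfl⟩ _ ⟨d, hd, rfl⟩ (k.map _)
    obtain ⟨g, rfl⟩ := isConj_iff.1 (cls e he a ha)
    exact Normal.conj_mem inferInstance _ ((QuotientGroup.eq_one_iff e).1 k) g
  by_cases o2 : pCore 2 G = ⊥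
  swap
  · by_cases k : a ∈ pCore 2 G
    · obtain ⟨g, rfl⟩ := isConj_iff.1 (cls a ha b hb)
      exact mul_mem k (Normal.conj_mem inferInstance _ k g)
    · have := quo _ o2 k a ha b hb c1
      rwa [H1.comap_pCore_mk' 2 _ (H1.isPGroup_pCore 2)] at this
  exfalso
  have mc : MC p D := by
    refine ⟨h, cls, gen, o2, fun a ha b hb x hx c1 xa xb pr => ?_⟩
    set Y := closure ({a, b, x} : Set G) with hY
    have aY : a ∈ Y := subset_closure (by simp)
    have bY : b ∈ Y := subset_closure (by simp)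
    have xY : x ∈ Y := subset_closure (by simp)
    set D' : Set Y := {y | IsConj ⟨x, xY⟩ y} with hD'
    have mD : ∀ y ∈ D', (y : G) ∈ D := fun y hy => by
      obtain ⟨g, rfl⟩ := isConj_iff.1 hy
      exact h.conj g x hx
    have cv : ∀ y z : Y, Commute y z ↔ Commute (y : G) z := fun y z =>
      ⟨fun k => k.map Y.subtype, fun k => Subtype.ext k⟩
    have h' : PT p D' := ⟨h.pp, h.p2, h.p3, fun d hd => by rw [← orderOf_coe]; exact h.ord2 _ (mD d hd),
      fun g d hd => IsConj.trans hd (isConj_iff.2 ⟨g, rfl⟩), fun c hc d hd k => by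
        rw [← orderOf_coe]; exact h.ord _ (mD c hc) _ (mD d hd) fun e => k ((cv _ _).2 e)⟩
    have mem : ∀ c (cY : c ∈ Y), c ∈ D → ¬ Commute x c → (⟨c, cY⟩ : Y) ∈ D' := fun c cY hc k =>
      isConj_of_odd (Subtype.ext (h.sq hx)) (Subtype.ext (h.sq hc)) (by
        rw [← orderOf_coe]; exact h.odd hx hc k)
    have aD := mem a aY ha xa
    have bD := mem b bY hb xb
    have gen' : closure D' = ⊤ := by
      rw [eq_top_iff, ← closure_preimage_eq_top]
      refine Subgroup.closure_mono ?_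
      rintro y (e | e | e)
      exacts [(Subtype.ext e : y = ⟨a, aY⟩) ▸ aD, (Subtype.ext e : y = ⟨b, bY⟩) ▸ bD,
        (Subtype.ext e : y = ⟨x, xY⟩) ▸ IsConj.refl _]
    have key := ih _ (hn ▸ lt_of_le_of_ne (card_le_card_group Y) fun e => pr (eq_top_of_card_eq Y e)) Y rfl D' h'
      (fun c hc d hd => IsConj.trans (IsConj.symm hc) hd) gen' _ aD _ bD ((cv _ _).2 c1)
    have nn : Y ≤ normalizer (((pCore 2 Y).map Y.subtype : Subgroup G) : Set G) := fun g hg =>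
      mem_normalizer_of_conj_le (by
        rintro _ ⟨y, hy, rfl⟩
        exact ⟨_, Normal.conj_mem inferInstance y hy ⟨g, hg⟩, rfl⟩)
    exact ⟨(pCore 2 Y).map Y.subtype, (H1.isPGroup_pCore 2).map _, ⟨_, key, rfl⟩, nn aY, nn bY, nn xY⟩
  by_cases hO : pPrimeCore 2 G = ⊥
  swap
  · refine mc.no_nice h.nice_odd (quo _ hO fun k => h.ne1 ha (eq_one_of_odd_of_sq
      (odd_orderOf_of_odd_card (Nat.coprime_two_right.1 (H1.coprime_card_pPrimeCore 2)) k) (h.sq ha))) ha hb c1 ne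
  by_cases hA : ∀ a ∈ D, ∀ b ∈ D, V D a b → a = b
  · exact mc.caseA hO hA ha hb c1 ne
  push Not at hA
  obtain ⟨c, hc, d, hd, v, nc⟩ := hA
  by_cases ev : Even (Bl D c).ncard
  · exact mc.caseB_even hc hd nc v ev
  have se := mc.caseB_odd hc hd nc v ev
  have h4 : Four (⊤ : Subgroup G) := ⟨a, trivial, b, trivial, h.ord2 a ha, h.ord2 b hb, ne, c1⟩
  have := faithful_of_core ((se_core se h4).trans hO)
  refine fin (base_of_se se h4) h (fun t ht => ?_) cls
  obtain ⟨g, rfl⟩ := isConj_iff.1 (se_isConj se (h.ord2 a ha) ht)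
  exact h.conj g a ha

/-- for a class of `p`-transpositions, `p ≥ 5`, commuting members agree modulo `O₂` -/
theorem PT.main {G : Type*} [Group G] [Finite G] {p : ℕ} {D : Set G} (h : PT p D)
    (cls : ∀ a ∈ D, ∀ b ∈ D, IsConj a b) (gen : closure D = ⊤) {a b : G} (ha : a ∈ D) (hb : b ∈ D)
    (c : Commute a b) : a * b ∈ pCore 2 G :=
  main_aux _ G rfl D h cls gen a ha b hb c

end H6.Tp
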