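import Cfsg.Agent.H6.SI1
import Cfsg.Agent.H6.Conn

/-! Small Sylow `2`-intersections: a normal component. -/

set_option autoImplicit false
set_option linter.unusedSectionVars false
set_option linter.unusedVariables false

namespace H6.SI

open Subgroup Cfsg H5 H5.Gd H6.CS
open scoped commutatorElement
open H10 (IsSylowIn)
open H4 (Four)
open GW.Q8 (UI)

universe u

variable {G : Type u} [Group G] [Finite G] {Γ : Type u} [Group Γ] [Finite Γ] {f : G →* Γ}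
variable {A D H K L M P R S T U : Subgroup G} {a b c d e g s t u v x y z : G}

theorem fit_le (hO : pPrimeCore 2 G = ⊥) : fitOf (⊤ : Subgroup G) ≤ pCore 2 G :=
  (fitOf_le_opOf_sup_oppOf 2 ⊤).trans (by rw [opOf_top, oppOf_top, hO, sup_bot_eq])

theorem comp_Z (hO : pPrimeCore 2 G = ⊥) (h : CompOf L ⊤) : L ⊓ 𝒞(L) ≤ pCore 2 G :=
  h.sn.zOf_le_fitOf.trans (fit_le hO)

theorem core_le_C (h : CompOf L ⊤) : pCore 2 G ≤ 𝒞(L) :=
  commutator_eq_bot_iff_le_centralizer.1 (by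
    rw [Subgroup.commutator_comm]
    exact h.commutator_eq_bot_of_le_normalizer le_top le_normalizer_of_normal
      (isSolvable_of_isPGroup (H1.isPGroup_pCore 2)))

theorem core_le (hS : IsSylowIn 2 S ⊤) : pCore 2 G ≤ S :=
  hS.le_of_NN (H1.isPGroup_pCore 2) le_top le_normalizer_of_normal

theorem comp_syl (hS : IsSylowIn 2 S ⊤) (hL : CompOf L ⊤) : IsSylowIn 2 (S ⊓ L) L := by
  have := (hS.inf_normal le_top (self_le_normalizer_layerOf ⊤)).inf_normal hL.le_layerOf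
    hL.layerOf_le_normalizer
  rwa [inf_assoc, inf_eq_right.2 hL.le_layerOf] at this

theorem qs_not_cyc (h : IsQuasisimple L) (hT : IsSylowIn 2 T L) : ¬ IsCyclic T := fun hc => by
  obtain ⟨t, ht, ot⟩ := exists_ord2_of_qs h
  have := orderOf_dvd_natCard (⟨t, ht⟩ : L)
  rw [← orderOf_coe, ot] at this
  obtain ⟨H, hH⟩ := exists_index_two_of_cyclic_sylow (even_iff_two_dvd.2 this) hT.toSylow
    (isCyclic_of_surjective _ (subgroupOfEquivOfLe hT.le).symm.surjective)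
  exact GW.Q8.no_index_two_of_perfect h.1 H hH

theorem qs_not_N (h : IsQuasisimple L) (hS : IsSylowIn 2 (S ⊓ L) L) : ∃ g ∈ L, g ∉ 𝒩(S) := by
  by_contra! k
  have k1 : L ≤ 𝒩((S ⊓ L : Subgroup G)) := le_normalizer_inf k le_normalizer
  rcases qs_normal h inf_le_right k1 with e | e
  · exact qs_not_solvable h (isSolvable_of_isPGroup (e ▸ hS.isPGroup))
  · have k2 := hS.not_dvd_relIndex
    have k3 : S ⊓ L ≤ L ⊓ 𝒞(L) := le_inf inf_le_right e
    have k4 := coprime_card_of_perfect_of_center (X := L) (p := 2) (isQuasisimple_iff_top.1 h).1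
      ((Nat.Prime.coprime_iff_not_dvd Nat.prime_two).2 fun k => k2 (k.trans (index_dvd_of_le
        fun x hx => mem_center_iff.2 fun y => Subtype.ext (e hx y y.2)))).symm
    exact qs_not_solvable h (isSolvable_of_coprime_two k4)

theorem not_cyc (h : Four (f u) (f v)) (hu : u ∈ P) (hv : v ∈ P) : ¬ IsCyclic P := fun hc =>
  GW.K6.not_isCyclic_of_four h (mem_map_of_mem f hu) (mem_map_of_mem f hv)
    (isCyclic_of_surjective _ (f.subgroupMap_surjective P))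

theorem swap_of_sq {w : G} (z2 : z * z = 1) (e1 : w * w = z) (e2 : v * v = z) (e3 : w * v * (w * v) = z) :
    v * w = w * v * z :=
  calc v * w = w⁻¹ * (w * v * (w * v)) * v⁻¹ := by group
    _ = w * v * (v * v)⁻¹ := by rw [e3, ← e1]; group
    _ = _ := by rw [e2, inv_eq_of_mul_eq_one_right z2]

theorem loc_four {S A E : Subgroup Γ} (l : H10.Loc S A E) (hA : A ≤ S) :
    ∃ a ∈ A ⊓ E, ∃ b ∈ A ⊓ E, Four a b := by
  have k : ∀ a ∈ A ⊓ E, a * a = 1 := fun a ha => (l.inv a ⟨hA ha.1, ha.2⟩).2 ha.1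
  obtain ⟨a, ha, a1⟩ := (bot_or_exists_ne_one (A ⊓ E)).resolve_left fun e => by
    have := l.four
    simp [e] at this
  obtain ⟨b, hb, b1⟩ := SetLike.not_le_iff_exists.1 fun e : A ⊓ E ≤ zpowers a => by
    have := l.four.trans_le (card_le_of_le e)
    rw [Nat.card_zpowers, ord2 (k a ha) a1] at this
    omega
  exact ⟨a, ha, b, hb, ord2 (k a ha) a1, ord2 (k b hb) fun e => b1 (e ▸ one_mem _),
    fun e => b1 (e ▸ mem_zpowers a), l.cen ⟨hA hb.1, hb.2⟩ a ha⟩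

/-- the map onto the almost simple group induced on a normal component -/
structure NB (L : Subgroup G) (f : G →* Γ) : Prop where
  nrm : L.Normal
  qs : IsQuasisimple L
  surj : Function.Surjective f
  ker : f.ker = 𝒞(L)
  odd : pPrimeCore 2 G = ⊥

theorem exists_nb [hL : L.Normal] (h : IsQuasisimple L) (hO : pPrimeCore 2 G = ⊥) :
    ∃ (Γ : Type u) (_ : Group Γ) (_ : Finite Γ) (f : G →* Γ), NB L f :=
  ⟨G ⧸ 𝒞(L), _, inferInstance, QuotientGroup.mk' _, hL, h, QuotientGroup.mk'_surjective _,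
    QuotientGroup.ker_mk' _, hO⟩

namespace NB
variable (n : NB L f)
include n

theorem one : f x = 1 ↔ x ∈ 𝒞(L) := by rw [← n.ker, MonoidHom.mem_ker]

theorem comp : CompOf L ⊤ := ⟨have := n.nrm; SN.of_normal le_top le_normalizer_of_normal, n.qs⟩

theorem normal : (L.map f).Normal := n.nrm.map f n.surj

theorem cent : 𝒞(L.map f) = ⊥ := eq_bot_iff.2 fun y hy => by
  obtain ⟨x, rfl⟩ := n.surj y
  have h1 : ⁅L, zpowers x⁆ ≤ 𝒞(L) := by
    rw [← n.ker, ← Subgroup.map_eq_bot_iff, map_commutator, MonoidHom.map_zpowers,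
      Subgroup.commutator_comm, commutator_eq_bot_iff_le_centralizer]
    exact zpowers_le.2 hy
  have h2 := commutator_eq_bot_of_perfect (qs_perfect n.qs) (commutator_eq_bot_iff_le_centralizer.2 h1)
  rw [Subgroup.commutator_comm, commutator_eq_bot_iff_le_centralizer, zpowers_le] at h2
  exact n.one.2 h2

theorem ne : L.map f ≠ ⊥ := fun e =>
  qs_not_le_centralizer n.qs (n.ker ▸ (Subgroup.map_eq_bot_iff _).1 e)

theorem simple : IsSimpleGroup (L.map f) :=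
  (isSimpleGroup_of_qs (qs_map f n.qs n.ne) (by rw [n.cent, inf_bot_eq])).1

theorem nab : ¬ IsMulCommutative (L.map f) := fun h => n.ne (eq_bot_iff.2 (n.cent ▸ fun a ha b hb =>
  congrArg Subtype.val (h.is_comm.comm (⟨b, hb⟩ : L.map f) ⟨a, ha⟩)))

theorem core : pCore 2 Γ = ⊥ := by
  have := n.normal
  rw [eq_bot_iff, ← n.cent]
  exact core_le_C ⟨SN.of_normal le_top le_normalizer_of_normal, qs_map f n.qs n.ne⟩

theorem Z : L ⊓ 𝒞(L) ≤ pCore 2 G := comp_Z n.odd n.comp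

variable (hS : IsSylowIn 2 S ⊤)
include hS

theorem syl : IsSylowIn 2 (S.map f) ⊤ := hS.map_top n.surj

theorem inf : S.map f ⊓ L.map f = (S ⊓ L).map f :=
  ((comp_syl hS n.comp).map f).eq_of_le ((n.syl hS).isPGroup.to_le inf_le_left) (map_inf_le S L f)
    inf_le_right

theorem lift {y : Γ} (hy : y ∈ S.map f ⊓ L.map f) : ∃ x ∈ S ⊓ L, f x = y := (n.inf hS).le hy

theorem mem (hx : x ∈ L) (h : f x ∈ S.map f) : x ∈ S := by
  obtain ⟨y, hy, e⟩ := n.lift hS ⟨h, mem_map_of_mem f hx⟩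
  simpa using S.mul_mem hy.1 (core_le hS (n.Z ⟨L.mul_mem (L.inv_mem hy.2) hx, n.one.1 (by simp [e])⟩))

theorem mem_cj (hx : x ∈ L) (h : f x ∈ cj (f g) (S.map f)) : x ∈ cj g S :=
  n.mem (hS.cj_top g) hx (by rwa [map_cj])

theorem mem_N (hx : x ∈ L) (h : f x ∈ 𝒩((S.map f ⊓ L.map f : Subgroup Γ))) :
    x ∈ 𝒩((S ⊓ L : Subgroup G)) := H10.mem_NN_of_conj_mem fun y hy => by
  have k := n.nrm.conj_mem y hy.2 x
  refine ⟨n.mem hS k ?_, k⟩
  simpa using ((mem_normalizer_iff.1 h (f y)).1 (map_inf_le S L f (mem_map_of_mem f hy))).1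

theorem map_N' (h : x ∈ 𝒩(S)) : f x ∈ 𝒩((S.map f ⊓ L.map f : Subgroup Γ)) :=
  have := n.normal
  zpowers_le.1 (le_normalizer_inf (zpowers_le.2 (map_N f h)) le_normalizer_of_normal)

theorem down (h : f s ∈ (S.map f ⊓ L.map f) ⊔ 𝒞(L.map f)) : s ∈ (S ⊓ L) ⊔ 𝒞(L) := by
  rw [n.cent, sup_bot_eq] at h
  obtain ⟨y, hy, e⟩ := n.lift hS h
  simpa using mul_mem_sup hy (n.one.1 (show f (y⁻¹ * s) = 1 by simp [e]))

theorem inn {A : Subgroup Γ} (h : H10.SA (S.map f) A) (h0 : A ⊓ L.map f ≠ ⊥)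
    (hN : L ⊓ 𝒩((S ⊓ L : Subgroup G)) ≤ 𝒩(S)) : S ≤ (S ⊓ L) ⊔ 𝒞(L) := fun s hs => by
  have := n.normal
  refine n.down hS (sa_inn h n.simple n.nab h0 (mem_map_of_mem f hs) ?_)
  rintro _ ⟨⟨d, hd, rfl⟩, k⟩
  rw [← map_commutatorElement]
  refine map_inf_le S L f (mem_map_of_mem f ⟨?_, ?_⟩)
  · have := (mem_normalizer_iff.1 (hN ⟨hd, n.mem_N hS hd k⟩) s⁻¹).1 (inv_mem hs)
    simpa [commutatorElement_def, mul_assoc] using mul_mem hs this
  · simpa [commutatorElement_def] using mul_mem (n.nrm.conj_mem d hd s) (inv_mem hd)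

theorem se (h : ∀ u ∈ S ⊓ L, orderOf (f u) = 2 → ∀ g ∈ L, u ∈ cj g S → g ∈ 𝒩(S)) : SE (L.map f) := by
  have := n.normal
  refine se_of_ti n.simple n.nab ((n.syl hS).inf_normal le_top le_normalizer_of_normal) ?_
  rintro x hx ox _ ⟨g, hg, rfl⟩ k
  obtain ⟨u, hu, rfl⟩ := n.lift hS hx
  exact n.map_N' hS (h u hu ox g hg (n.mem_cj hS hu.2 (cj_mono inf_le_left k)))

theorem sa (h : ∀ g ∈ L, ∀ u ∈ S ⊓ L, ∀ v ∈ S ⊓ L, u ∈ cj g S → v ∈ cj g S → Four (f u) (f v) →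
    g ∈ 𝒩(S)) : ∃ A, H10.SA (S.map f) A ∧ A ⊓ L.map f ≠ ⊥ := by
  have := n.normal
  refine ⟨_, sa_center (n.syl hS) fun U hU a ha b hb aU _ _ hC h4 => ?_, zo_ne (n.syl hS) n.simple n.nab⟩
  obtain ⟨_, ⟨g, hg, rfl⟩, rfl⟩ :=
    ((n.syl hS).inf_normal le_top le_normalizer_of_normal).exists_cj hU
  obtain ⟨u, hu, rfl⟩ := n.lift hS ha.1
  obtain ⟨v, hv, rfl⟩ := n.lift hS hb
  exact cj_eq_self_iff.2 (n.map_N' hS (h g hg u hu v hv (n.mem_cj hS hu.2 (cj_mono inf_le_left aU))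
    (n.mem_cj hS hv.2 (cj_mono inf_le_left (hC ⟨hb, mem_C1.2 rfl⟩))) h4))

theorem four {A : Subgroup Γ} (h : H10.SA (S.map f) A) (h0 : A ⊓ L.map f ≠ ⊥) :
    ∃ u ∈ S ⊓ L, ∃ v ∈ S ⊓ L, f u ∈ A ∧ f v ∈ A ∧ Four (f u) (f v) := by
  have := n.normal
  obtain ⟨a, ha, b, hb, h4⟩ := loc_four (h.loc n.simple n.nab h0) h.le
  obtain ⟨u, hu, rfl⟩ := n.lift hS ⟨h.le ha.1, ha.2⟩
  obtain ⟨v, hv, rfl⟩ := n.lift hS ⟨h.le hb.1, hb.2⟩
  exact ⟨u, hu, v, hv, ha.1, hb.1, h4⟩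

/-- a quaternion Sylow subgroup of the component -/
theorem quat_le {A : Subgroup Γ} (h : H10.SA (S.map f) A) (h0 : A ⊓ L.map f ≠ ⊥) (hU : UI (S ⊓ L)) :
    (∃ z ∈ L ⊓ 𝒞(L), orderOf z = 2) ∧ S.map f ⊓ L.map f = A ⊓ L.map f := by
  have := n.normal
  have l := h.loc n.simple n.nab h0
  obtain ⟨u, hu, v, hv, -, -, h4⟩ := n.four hS h h0
  have hZ : L ⊓ 𝒞(L) ≤ S ⊓ L := le_inf (n.Z.trans (core_le hS)) inf_le_left
  have h2 : IsPGroup 2 (S ⊓ L : Subgroup G) := hS.isPGroup.to_le inf_le_left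
  obtain ⟨z, hz, oz⟩ := H10.exists_orderOf_eq_of_ne_bot (h2.to_le hZ) fun e => by
    have k : ∀ x ∈ S ⊓ L, orderOf (f x) = 2 → orderOf x = 2 := fun x hx ox =>
      ord2 (mem_bot.1 (e.le ⟨mul_mem hx.2 hx.2, n.one.1 (by rw [map_mul, sq1 ox])⟩))
        fun e => ne1 ox (by rw [e, map_one])
    exact h4.ne (congrArg f (hU u hu v hv (k u hu h4.oa) (k v hv h4.ob)))
  refine ⟨⟨z, hz, oz⟩, le_antisymm (le_inf ?_ inf_le_right) (inf_le_inf_right _ h.le)⟩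
  rw [n.inf hS, map_le_iff_le_comap]
  refine quat_gen hU h2 (not_cyc h4 hu hv) fun x hx ox => (l.inv _ (map_inf_le S L f
    (mem_map_of_mem f hx))).1 ?_
  rw [← map_mul, hU _ (mul_mem hx hx) z (hZ hz) ox oz, n.one]
  exact hz.2

end NB

end H6.SI
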