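import Cfsg.Agent.H6.SI2
import Cfsg.Agent.H1.AutP
import Cfsg.Agent.H5.SigFac

/-! Small Sylow `2`-intersections: a unique component. -/

set_option autoImplicit false
set_option linter.unusedSectionVars false
set_option linter.unusedVariables false

namespace H6.SI

open Subgroup Cfsg H5 H5.Gd H6.CS
open scoped commutatorElement
open H10 (IsSylowIn)
open H4 (Four)
open GW.Q8 (UI)

universe u

variable {G : Type u} [Group G] [Finite G] {Γ : Type u} [Group Γ] [Finite Γ] {f : G →* Γ}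
variable {A D H K L M P R S T U Y : Subgroup G} {a b c d e g s t u v x y z : G}

theorem aut_solv (h : UI R) (h2 : IsPGroup 2 R) : Group.IsSolvable (MulAut R) := by
  classical
  obtain ⟨a, b, hab⟩ : ∃ a b : R, closure ({a, b} : Set R) = ⊤ := by
    by_cases hc : IsCyclic R
    · obtain ⟨a, ha⟩ := hc.exists_generator
      exact ⟨a, a, eq_top_iff.2 fun x _ => zpowers_le.2 (subset_closure (by simp)) (ha x)⟩
    · obtain ⟨a, ha, b, hb, -, -, -, -, -, -, h7⟩ := quat h h2 hc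
      refine ⟨⟨a, ha⟩, ⟨b, hb⟩, eq_top_iff.2 fun x _ => ?_⟩
      have k1 : (⟨a, ha⟩ : R) ∈ closure ({⟨a, ha⟩, ⟨b, hb⟩} : Set R) := subset_closure (by simp)
      have k2 : (⟨b, hb⟩ : R) ∈ closure ({⟨a, ha⟩, ⟨b, hb⟩} : Set R) := subset_closure (by simp)
      obtain ⟨i, e | e⟩ := h7 x x.2
      · exact (Subtype.ext e : x = ⟨a, ha⟩ ^ i) ▸ zpow_mem k1 i
      · exact (Subtype.ext e : x = ⟨a, ha⟩ ^ i * ⟨b, hb⟩) ▸ mul_mem (zpow_mem k1 i) k2
  obtain ⟨r, hr⟩ := h2.index (frattini R)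
  obtain ⟨T, h3, h4, -⟩ := H1.burnside_basis h2 hr {a, b} (by simpa using hab)
  have h5 : r ≤ 2 := h4 ▸ (Finset.card_le_card h3).trans Finset.card_le_two
  have h6 := H1.card_mulAut_pgroup_dvd h2 hr
  obtain ⟨k, hk⟩ := (h2.to_subgroup (frattini R)).exists_card_eq
  have := Fact.mk Nat.prime_three
  have := isSolvable_of_two (r := 2) (s := 3) (K := (⊤ : Subgroup (MulAut R))) fun t ht hd => by
    rw [card_top] at hd
    rcases (Nat.Prime.dvd_mul ht).1 (hd.trans h6) with e | e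
    · rw [hk, ← pow_mul] at e
      exact Or.inl ((Nat.prime_dvd_prime_iff_eq ht Nat.prime_two).1 (ht.dvd_of_dvd_pow e))
    · have : t ∣ 2 * 3 := e.trans (by interval_cases r <;> decide)
      exact ((Nat.Prime.dvd_mul ht).1 this).imp (Nat.prime_dvd_prime_iff_eq ht Nat.prime_two).1
        (Nat.prime_dvd_prime_iff_eq ht Nat.prime_three).1
  exact isSolvable_of_equiv topEquiv

theorem exists_comp (hO : pPrimeCore 2 G = ⊥) (hR : Group.IsSolvable (MulAut (pCore 2 G)))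
    (hns : ¬ Group.IsSolvable G) : ∃ L : Subgroup G, CompOf L ⊤ := by
  by_contra! k
  have k1 := inf_centralizer_fitOf_le_iff.2 (layerOf_eq_bot_iff.2 k)
  have := isSolvable_of_map (MulAut.conjNormal : G →* MulAut (pCore 2 G)) (H := ⊤) inferInstance
    (isSolvable_of_le (isSolvable_of_isPGroup (H1.isPGroup_pCore 2)) fun x hx =>
      fit_le hO (k1 ⟨trivial, fun y hy => by
        have := congrArg Subtype.val (DFunLike.congr_fun (MonoidHom.mem_ker.1 hx.2) ⟨y, fit_le hO hy⟩)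
        exact (mul_inv_eq_iff_eq_mul.1 this).symm⟩))
  exact hns (isSolvable_of_equiv topEquiv)

theorem le_cj_of_C (hg : g ∈ L) : S ⊓ 𝒞(L) ≤ S ⊓ cj g S := fun x hx => ⟨hx.1, by
  have := conj_mem_cj (g := g) hx.1
  rwa [hx.2 g hg, mul_inv_cancel_right] at this⟩

theorem RI.ui_C (hR : RI G) (hS : IsSylowIn 2 S ⊤) (hL : CompOf L ⊤) : UI (S ⊓ 𝒞(L)) := by
  obtain ⟨g, hg, k⟩ := qs_not_N hL.qs (comp_syl hS hL)
  exact (hR.ui hS k).mono (le_cj_of_C hg)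

theorem exists_inv (h2 : IsPGroup 2 U) (hc : ¬ IsCyclic U) : ∃ w ∈ U, orderOf w = 2 :=
  H10.exists_orderOf_eq_of_ne_bot h2 fun e => hc (e ▸ inferInstance)

theorem zo_inf_ne {S E : Subgroup Γ} [E.Normal] (hS : IsSylowIn 2 S ⊤) (hs : IsSimpleGroup E)
    (hn : ¬ IsMulCommutative E) : H10.ZO 2 (S ⊓ ⊤) ⊓ E ≠ ⊥ := by
  have hQ : IsSylowIn 2 (S ⊓ E) E := hS.inf_normal le_top le_normalizer_of_normal
  obtain ⟨x, hx, ox⟩ := H10.exists_orderOf_eq_of_ne_bot (hQ.isPGroup.to_le inf_le_left)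
    (H10.inf_CC_ne_bot hS.isPGroup inf_le_left le_rfl
      (le_normalizer_inf le_normalizer le_normalizer_of_normal) (hQ.ne_bot (simple_even hn).two_dvd))
  refine fun e => ne1 ox (mem_bot.1 (e.le ⟨?_, hx.1.2⟩))
  rw [inf_top_eq]
  exact H10.mem_ZO.2 ⟨hx.1.1, hx.2, by rw [pow_two, sq1 ox]⟩

namespace NB
variable (n : NB L f) (hS : IsSylowIn 2 S ⊤) (hR : RI G)
include n hS hR

theorem ti (hU : U ≤ S ⊓ 𝒞(L)) (hc : ¬ IsCyclic U) (u : G) (hu : u ∈ S ⊓ L) (ou : orderOf (f u) = 2)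
    (g : G) (hg : g ∈ L) (h : u ∈ cj g S) : g ∈ 𝒩(S) := by
  by_contra k
  have hD := hR.ui hS k
  have h1 := hU.trans (le_cj_of_C hg)
  have h2 := ui_cyc' hD (hS.isPGroup.to_le inf_le_left) ⟨hu.1, h⟩ h1
    (fun x hx => mem_C1.2 ((hU hx).2 u hu.2).symm) hc
  obtain ⟨w, hw, ow⟩ := exists_inv (hS.isPGroup.to_le (hU.trans inf_le_left)) hc
  have := hD u ⟨hu.1, h⟩ w (h1 hw) (ord2 h2 fun e => ne1 ou (by rw [e, map_one])) ow
  exact ne1 ou (n.one.2 (this ▸ (hU hw).2))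

theorem sa_big (hc : c ∈ S ⊓ 𝒞(L)) (h1 : c * c ≠ 1) : ∃ A, H10.SA (S.map f) A ∧ A ⊓ L.map f ≠ ⊥ := by
  refine n.sa hS fun g hg u hu v hv h2 h3 h4 => ?_
  by_contra k
  refine h1 (ui_cyc' (hR.ui hS k) (hS.isPGroup.to_le inf_le_left) (le_cj_of_C hg hc)
    (P := closure {u, v}) ((closure_le _).2 (Set.pair_subset ⟨hu.1, h2⟩ ⟨hv.1, h3⟩))
    ((closure_le _).2 (Set.pair_subset (mem_C1.2 (hc.2 u hu.2)) (mem_C1.2 (hc.2 v hv.2))))
    (not_cyc h4 (subset_closure (by simp)) (subset_closure (by simp))))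

theorem small (h : ∀ c ∈ pCore 2 G, c * c = 1) :
    ∃ z, (∀ g, Commute g z) ∧ z * z = 1 ∧ z ∈ pCore 2 G ∧ ∀ x ∈ pCore 2 G, x = 1 ∨ x = z := by
  have hU : UI (pCore 2 G) := (hR.ui_C hS n.comp).mono (le_inf (core_le hS) (core_le_C n.comp))
  rcases bot_or_exists_ne_one (pCore 2 G) with e | ⟨z, hz, z1⟩
  · exact ⟨1, fun g => Commute.one_right g, mul_one 1, one_mem _, fun x hx => Or.inl (mem_bot.1 (e.le hx))⟩
  have k : ∀ x ∈ pCore 2 G, x = 1 ∨ x = z := fun x hx =>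
    (eq_or_ne x 1).imp_right fun x1 => ui_eq hU hx hz (h x hx) (h z hz) x1 z1
  refine ⟨z, fun g => ?_, h z hz, hz, k⟩
  exact mul_inv_eq_iff_eq_mul.1 ((k _ (Normal.conj_mem inferInstance z hz g)).resolve_left
    (by simpa using z1))

/-- the Sylow subgroup lies in `L O₂(G)` -/
theorem one_syl (hU : ¬ UI S) (hF : 𝒞(L) ⊓ 𝒞(pCore 2 G) ≤ pCore 2 G) :
    S ≤ (S ⊓ L) ⊔ pCore 2 G ∧ ∃ A, H10.SA (S.map f) A ∧ A ⊓ L.map f ≠ ⊥ := by
  have := n.normal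
  have := n.nrm
  have hRS := le_inf (core_le hS) (core_le_C n.comp)
  have h2 : IsPGroup 2 (S ⊓ L ⊔ pCore 2 G : Subgroup G) :=
    hS.isPGroup.to_le (sup_le inf_le_left (core_le hS))
  have key : (∀ c ∈ pCore 2 G, c * c = 1) → 𝒞(L) ≤ pCore 2 G ∧
      H10.SA (S.map f) (H10.ZO 2 (S.map f ⊓ ⊤)) := fun h => by
    obtain ⟨z, z1, z2, z3, z4⟩ := n.small hS hR h
    have k : 𝒞(L) ≤ pCore 2 G := fun x hx => hF ⟨hx, fun y hy => by
      rcases z4 y hy with rfl | rfl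
      exacts [by simp, (z1 x).eq.symm]⟩
    exact ⟨k, sa_quot n.surj hR hS hU z1 z2 (n.one.2 (hRS z3).2) (fun x hx => z4 x (k (n.one.1 hx))) n.core⟩
  obtain ⟨A, hA, h0⟩ : ∃ A, H10.SA (S.map f) A ∧ A ⊓ L.map f ≠ ⊥ := by
    by_cases h : ∀ c ∈ pCore 2 G, c * c = 1
    · exact ⟨_, (key h).2, zo_inf_ne (n.syl hS) n.simple n.nab⟩
    · push Not at h
      obtain ⟨c, hc, c1⟩ := h
      exact n.sa_big hS hR (hRS hc) c1
  refine ⟨?_, A, hA, h0⟩
  by_cases hV : UI (S ⊓ L ⊔ pCore 2 G : Subgroup G)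
  · obtain ⟨k1, k2⟩ := key fun c hc => ui_cyc' hV h2 (mem_sup_right hc) le_sup_left
      (fun x hx => mem_C1.2 ((hRS hc).2 x hx.2)) (qs_not_cyc n.qs (comp_syl hS n.comp))
    have k3 := zo_inf_ne (n.syl hS) n.simple n.nab
    have k4 := (n.quat_le hS k2 k3 (hV.mono le_sup_left)).2
    refine fun s hs => sup_le_sup_left k1 _ (n.down hS ?_)
    rw [k4]
    refine loc_ab k2 n.simple n.nab k3 k4 (mem_tw (n.syl hS).isPGroup (mem_map_of_mem f hs)) fun b hb => ?_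
    exact ((H10.mem_ZO.1 hb.1).2.1 _ ⟨mem_map_of_mem f hs, trivial⟩).symm
  have hN : 𝒩((S ⊓ L : Subgroup G)) ≤ 𝒩(S) := fun g hg => hR.N_le hS (sup_le inf_le_left (core_le hS)) hV
    (zpowers_le.1 (le_normalizer_sup (zpowers_le.2 hg) le_normalizer_of_normal))
  have hC : 𝒞(L) ≤ 𝒩(S) := ((centralizer_anti inf_le_right).trans (centralizer_le_normalizer _)).trans hN
  have k : S ⊓ 𝒞(L) ≤ pCore 2 G := opOf_top (p := 2) (G := G) ▸ SN.le_opOf
    ((SN.of_normal inf_le_right (le_normalizer_inf hC le_normalizer)).trans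
      (SN.of_normal le_top le_normalizer_of_normal)) (hS.isPGroup.to_le inf_le_left)
  intro s hs
  obtain ⟨x, hx, y, hy, rfl⟩ := (mem_sup_of_le_normalizer'
    ((centralizer_anti inf_le_right).trans (centralizer_le_normalizer _))).1
    (n.inn hS hA h0 (inf_le_right.trans hN) hs)
  exact mul_mem_sup hx (k ⟨by simpa using S.mul_mem (S.inv_mem hx.1) hs, hy⟩)

omit hR in
theorem syl_le (h : S ≤ (S ⊓ L) ⊔ pCore 2 G) : S.map f ≤ L.map f := by
  refine (map_mono h).trans ?_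
  rw [Subgroup.map_sup, sup_le_iff]
  exact ⟨map_mono inf_le_right, map_le_iff_le_comap.2 fun x hx =>
    mem_comap.2 (n.one.2 (core_le_C n.comp hx) ▸ one_mem _)⟩

omit hR in
theorem ker_syl (h : S ≤ (S ⊓ L) ⊔ pCore 2 G) (hx : x ∈ S) (e : f x = 1) : x ∈ pCore 2 G := by
  obtain ⟨a, ha, b, hb, rfl⟩ := (mem_sup_of_le_normalizer le_normalizer_of_normal).1 (h hx)
  rw [map_mul, n.one.2 (core_le_C n.comp hb), mul_one] at e
  exact mul_mem (n.Z ⟨ha.2, n.one.1 e⟩) hb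

omit hR in
theorem mem_N' (h : S ≤ (S ⊓ L) ⊔ pCore 2 G) (hx : x ∈ L)
    (e : f x ∈ 𝒩((S.map f ⊓ L.map f : Subgroup Γ))) : x ∈ 𝒩(S) := by
  rw [← le_antisymm (sup_le inf_le_left (core_le hS)) h]
  exact zpowers_le.1 (le_normalizer_sup (zpowers_le.2 (n.mem_N hS hx e)) le_normalizer_of_normal)

omit hR in
/-- all lifts of involutions have the same square -/
theorem sq_eq {A : Subgroup Γ} (l : H10.Loc (S.map f) A (L.map f)) (hz : ∀ x ∈ L ⊓ 𝒞(L), x * x = 1)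
    (hu : u ∈ L) (hv : v ∈ L) (h1 : f u ∈ A) (h2 : f v ∈ A) (u1 : f u ≠ 1) (v1 : f v ≠ 1)
    (h3 : u * u ∈ 𝒞(L)) : v * v = u * u := by
  obtain ⟨_, ⟨⟨m, hm, rfl⟩, -⟩, e⟩ := l.tr _ ⟨h1, mem_map_of_mem f hu⟩ u1 _ ⟨h2, mem_map_of_mem f hv⟩ v1
  have k : (m * u * m⁻¹)⁻¹ * v ∈ L ⊓ 𝒞(L) :=
    ⟨L.mul_mem (L.inv_mem (n.nrm.conj_mem u hu m)) hv, n.one.1 (by simp [← e, mul_assoc])⟩
  have k1 := hz _ k
  have k2 := k.2 _ (n.nrm.conj_mem u hu m)
  generalize hc : (m * u * m⁻¹)⁻¹ * v = c at *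
  obtain rfl : v = m * u * m⁻¹ * c := by rw [← hc]; group
  calc _ = m * u * m⁻¹ * (c * (m * u * m⁻¹)) * c := by group
    _ = m * (u * u) * m⁻¹ * (c * c) := by rw [← k2]; group
    _ = _ := by rw [k1, h3 m hm]; group

theorem core_nc (hU : ¬ UI S) (h : S ≤ (S ⊓ L) ⊔ pCore 2 G) {A : Subgroup Γ} (hA : H10.SA (S.map f) A)
    (h0 : A ⊓ L.map f ≠ ⊥) (hg : g ∉ 𝒩(S)) (hc : ¬ IsCyclic (S ⊓ cj g S : Subgroup G)) :
    ¬ IsCyclic (pCore 2 G) := fun hR1 => by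
  have := n.normal
  have := n.nrm
  have hRL := core_le_C n.comp
  have hSL : IsSylowIn 2 S (L ⊔ pCore 2 G : Subgroup G) :=
    hS.of_le (h.trans (sup_le_sup_right inf_le_right _)) le_top
  obtain ⟨a, ha, m, hm, rfl⟩ := hSL.frattini (L := ⊤) (g := g) le_normalizer_of_normal (by simp)
  obtain ⟨l, hl, r, hr, rfl⟩ := (mem_sup_of_le_normalizer le_normalizer_of_normal).1 ha
  have hm' : r * m ∈ 𝒩(S) := mul_mem (le_normalizer (core_le hS hr)) hm.2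
  rw [mul_assoc] at hg hc
  rw [cj_mul, cj_eq_self_iff.2 hm'] at hc
  replace hg : l ∉ 𝒩(S) := fun k => hg (mul_mem k hm')
  have hD := hR.ui hS hg
  have h2 : IsPGroup 2 (S ⊓ cj l S : Subgroup G) := hS.isPGroup.to_le inf_le_left
  have hRD : pCore 2 G ≤ S ⊓ cj l S := (le_inf (core_le hS) hRL).trans (le_cj_of_C hl)
  obtain ⟨z, z1, z2, z3, z4⟩ := n.small hS hR fun c hc' => ui_cyc' hD h2 (hRD hc') le_rfl
    (inf_le_left.trans (h.trans (sup_le (fun x hx => mem_C1.2 (hRL hc' x hx.2)) fun x hx =>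
      mem_C1.2 (congrArg Subtype.val (hR1.isMulCommutative.is_comm.comm (⟨x, hx⟩ : pCore 2 G) ⟨c, hc'⟩)))))
    hc
  obtain ⟨q, hq, r, hr, o1, o2, o3⟩ := quat_pair hD h2 hc
  have q1 : f q ≠ 1 := fun e => by
    rcases z4 q (n.ker_syl hS h hq.1 e) with rfl | rfl
    · exact ne1 o1 (by simpa using o2.symm)
    · exact ne1 o1 (o2 ▸ z2)
  have hSE := n.syl_le hS h
  have q2 : f q ∈ S.map f ⊓ L.map f := ⟨mem_map_of_mem f hq.1, hSE (mem_map_of_mem f hq.1)⟩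
  rcases loc_cases hA n.simple n.nab h0 with e | ⟨K, W, t, b⟩
  · have l1 := hA.loc n.simple n.nab h0
    have k : ∀ x ∈ S, f x ∈ A := fun x hx =>
      (e.le ⟨mem_map_of_mem f hx, hSE (mem_map_of_mem f hx)⟩).1
    have k1 : ∀ x ∈ S, x * x ∈ pCore 2 G := fun x hx => n.ker_syl hS h (mul_mem hx hx) (by
      rw [map_mul]; exact (l1.inv _ ⟨mem_map_of_mem f hx, hSE (mem_map_of_mem f hx)⟩).2 (k x hx))
    have k2 : q * q = z := (z4 _ (k1 q hq.1)).resolve_left (o2 ▸ ne1 o1)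
    have k3 : S ≤ L := h.trans (sup_le inf_le_right fun x hx => by
      obtain ⟨a, ha, b, hb, rfl⟩ := (mem_sup_of_le_normalizer le_normalizer_of_normal).1 (h hq.1)
      have : z ∈ L := by
        rcases z4 b hb with rfl | rfl
        · exact k2 ▸ mul_mem (by simpa using ha.2) (by simpa using ha.2)
        · rw [← k2, mul_assoc, ← mul_assoc b, ← (z1 a).eq, mul_assoc, z2, mul_one]
          exact mul_mem ha.2 ha.2
      rcases z4 x hx with rfl | rfl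
      exacts [one_mem _, this])
    have k4 : ∀ x ∈ S, orderOf x = 2 → x = z := fun x hx ox => by
      by_cases x1 : f x = 1
      · exact (z4 x (n.ker_syl hS h hx x1)).resolve_left (ne1 ox)
      have := n.sq_eq hS l1 (fun y hy => (z4 y (n.Z hy)).elim (fun e => by simp [e]) fun e => e ▸ z2)
        (k3 hq.1) (k3 hx) (k q hq.1) (k x hx) q1 x1 (hRL (k1 q hq.1))
      exact absurd (this.symm.trans (sq1 ox)) (o2 ▸ ne1 o1)
    exact hU fun x hx y hy ox oy => (k4 x hx ox).trans (k4 y hy oy).symm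
  · refine hg (n.mem_N' hS h hl (b.BN (b.mem_B (mem_map_of_mem f hl) q2 q1 (mem_sup_left ?_))))
    have k : l⁻¹ * q * l ∈ S := H5.mem_cj.1 hq.2
    have k1 := mem_map_of_mem f k
    rw [map_mul, map_mul, map_inv] at k1
    exact ⟨k1, hSE k1⟩

/-- an elementary abelian subgroup of order eight -/
theorem eight {A : Subgroup Γ} (hA : H10.SA (S.map f) A) (h0 : A ⊓ L.map f ≠ ⊥)
    (hc : ¬ IsCyclic (pCore 2 G)) : ∃ z ∈ S, ∃ a ∈ S, ∃ b ∈ S,
      Four a b ∧ Four z a ∧ Four z b ∧ Four z (a * b) := by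
  have := n.normal
  have hRS := le_inf (core_le hS) (core_le_C n.comp)
  have hU : UI (pCore 2 G) := (hR.ui_C hS n.comp).mono hRS
  have h2 := H1.isPGroup_pCore (G := G) 2
  obtain ⟨q, hq, r, hr, o1, o2, o3⟩ := quat_pair hU h2 hc
  have hz := mul_mem hr hr
  generalize hz' : r * r = z at *
  have fz := n.one.2 (hRS hz).2
  have k0 : ∀ x ∈ L ⊓ 𝒞(L), x * x = 1 := fun x hx => ui_cyc' hU h2 (n.Z hx) le_rfl
    (fun y hy => mem_C1.2 ((hRS hy).2 x hx.1).symm) hc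
  have k1 : ∀ x ∈ L ⊓ 𝒞(L), x = 1 ∨ x = z := fun x hx =>
    (eq_or_ne x 1).imp_right fun x1 => ui_eq hU (n.Z hx) hz (k0 x hx) (sq1 o1) x1 (ne1 o1)
  have l := hA.loc n.simple n.nab h0
  obtain ⟨u, hu, v, hv, u1, v1, h4⟩ := n.four hS hA h0
  have u2 : u * u ∈ L ⊓ 𝒞(L) := ⟨L.mul_mem hu.2 hu.2, n.one.1 (by rw [map_mul, sq1 h4.oa])⟩
  have e1 := n.sq_eq hS l k0 hu.2 hv.2 u1 v1 (ne1 h4.oa) (ne1 h4.ob) u2.2
  have e2 := n.sq_eq hS l k0 hu.2 (L.mul_mem hu.2 hv.2) u1 (by rw [map_mul]; exact mul_mem u1 v1) (ne1 h4.oa)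
    (by rw [map_mul]; exact ne1 h4.oab) u2.2
  have fin : ∀ a ∈ S, ∀ b ∈ S, f a = f u → f b = f v → a * a = 1 → b * b = 1 → Commute a b →
      Commute z a → Commute z b → ∃ z ∈ S, ∃ a ∈ S, ∃ b ∈ S,
      Four a b ∧ Four z a ∧ Four z b ∧ Four z (a * b) := fun a ha b hb fa fb a2 b2 ab za zb => by
    have a1 : f a ≠ 1 := fa ▸ ne1 h4.oa
    have b1 : f b ≠ 1 := fb ▸ ne1 h4.ob
    have c1 : f (a * b) ≠ 1 := by rw [map_mul, fa, fb]; exact ne1 h4.oab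
    have h5 : Four a b := ⟨ord2 a2 fun e => a1 (by rw [e, map_one]), ord2 b2 fun e => b1 (by rw [e, map_one]),
      fun e => h4.ne (by rw [← fa, ← fb, e]), ab⟩
    exact ⟨z, (hRS hz).1, a, ha, b, hb, h5, ⟨o1, h5.oa, fun e => a1 (e ▸ fz), za⟩,
      ⟨o1, h5.ob, fun e => b1 (e ▸ fz), zb⟩, o1, h5.oab, fun e => c1 (e ▸ fz), za.mul_right zb⟩
  have cm : ∀ x ∈ pCore 2 G, ∀ y ∈ S ⊓ L, Commute x y := fun x hx y hy => ((hRS hx).2 y hy.2).symm
  rcases k1 _ u2 with e | e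
  · refine fin u hu.1 v hv.1 rfl rfl e (e1.trans e) ?_ (cm z hz u hu) (cm z hz v hv)
    have := swap_of_sq (mul_one 1) e (e1.trans e) (e2.trans e)
    rw [mul_one] at this
    exact this.symm
  · have e3 := swap_of_sq (sq1 o1) e (e1.trans e) (e2.trans e)
    have zq : Commute z q := o2 ▸ (Commute.refl q).mul_left (Commute.refl q)
    have zr : Commute z r := hz' ▸ (Commute.refl r).mul_left (Commute.refl r)
    refine fin (q * u) (mul_mem (hRS hq).1 hu.1) (r * v) (mul_mem (hRS hr).1 hv.1)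
      (by rw [map_mul, n.one.2 (hRS hq).2, one_mul]) (by rw [map_mul, n.one.2 (hRS hr).2, one_mul])
      (by rw [(cm q hq u hu).symm.mul_mul_mul_comm, o2, e, sq1 o1])
      (by rw [(cm r hr v hv).symm.mul_mul_mul_comm, hz', e1, e, sq1 o1]) ?_
      (zq.mul_right (cm z hz u hu)) (zr.mul_right (cm z hz v hv))
    change _ = _
    rw [(cm r hr u hu).symm.mul_mul_mul_comm, (cm q hq v hv).symm.mul_mul_mul_comm, o3, e3, mul_assoc _ z,
      ← mul_assoc z, ((cm z hz u hu).mul_right (cm z hz v hv)).eq, mul_assoc _ z, sq1 o1, mul_one]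

end NB

/-- an odd order subgroup normalized by a Sylow subgroup of rank at least three -/
theorem RI.odd_le (hR : RI G) (hS : IsSylowIn 2 S ⊤) (hz : z ∈ S) (ha : a ∈ S) (hb : b ∈ S)
    (h1 : Four a b) (h2 : Four z a) (h3 : Four z b) (h4 : Four z (a * b)) (hY : Odd (Nat.card Y))
    (hn : S ≤ 𝒩(Y)) : Y ≤ 𝒩(S) := by
  have k : ∀ v ∈ S, ∀ w ∈ S, orderOf v = 2 → orderOf w = 2 → v ≠ w → Y ⊓ 𝒞₁(v) ⊓ 𝒞₁(w) ≤ 𝒩(S) :=
    fun v hv w hw ov ow e g hg => by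
      have k1 := conj_mem_cj (g := g) hv
      have k2 := conj_mem_cj (g := g) hw
      rw [mem_C1.1 hg.1.2, mul_inv_cancel_right] at k1
      rw [mem_C1.1 hg.2, mul_inv_cancel_right] at k2
      exact hR.four hS ⟨hv, k1⟩ ⟨hw, k2⟩ ov ow e
  have k2 : ∀ v ∈ S, ∀ w ∈ S, Four z v → Four z w → Four v w → z ≠ v * w → Y ⊓ 𝒞₁(v) ≤ 𝒩(S) :=
    fun v hv w hw f1 f2 f3 e => by
      have k3 : ∀ x ∈ S, Commute x v → x ∈ 𝒩((Y ⊓ 𝒞₁(v) : Subgroup G)) := fun x hx c =>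
        zpowers_le.1 (le_normalizer_inf (zpowers_le.2 (hn hx))
          ((zpowers_le.2 (mem_C1.2 c)).trans le_normalizer))
      exact GW.le_of_V4 f2 (hY.of_dvd_nat (card_dvd_of_le inf_le_left)) (k3 z hz f1.comm)
        (k3 w hw f3.comm.symm) (k v hv z hz f1.ob f1.oa f1.ne.symm) (k v hv w hw f3.oa f3.ob f3.ne)
        (k v hv _ (mul_mem hz hw) f1.ob f2.oab fun e1 => e (by rw [e1, mul_assoc, sq1 f3.ob, mul_one]))
  refine GW.le_of_V4 h1 hY (hn ha) (hn hb) (k2 a ha b hb h2 h3 h1 h4.ne)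
    (k2 b hb a ha h3 h2 ⟨h1.ob, h1.oa, h1.ne.symm, h1.comm.symm⟩ (h1.comm.eq ▸ h4.ne))
    (k2 _ (mul_mem ha hb) b hb h4 h3 ⟨h1.oab, h1.ob, fun e => ne1 h1.oa (by simpa using e),
      h1.comm.mul_left (Commute.refl b)⟩ (by rw [mul_assoc, sq1 h1.ob, mul_one]; exact h2.ne))

end H6.SI
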