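import Cfsg.Agent.H6.SI3
import Cfsg.Agent.H8.SL2Cov
import Cfsg.Agent.H25.SL25

/-! Small Sylow `2`-intersections: two components. -/

set_option autoImplicit false
set_option linter.unusedSectionVars false
set_option linter.unusedVariables false

namespace H6.SI

open Subgroup Cfsg H5 H5.Gd H6.CS
open scoped commutatorElement MatrixGroups
open H10 (IsSylowIn)
open H4 (Four)
open GW.Q8 (UI)
open H25 (SL25)

universe u

variable {G : Type u} [Group G] [Finite G] {Γ : Type u} [Group Γ] [Finite Γ] {f : G →* Γ}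
variable {A D E H K L M P Q R S T U Y : Subgroup G} {a b c d e g s t u v x y z : G}

theorem sl2_cov {K : Type u} [Group K] [Finite K] {F : Type*} [Field F] [Fintype F] (hX : Group.IsPerfect K)
    (ho : Odd (Fintype.card F)) (h3 : 3 < Fintype.card F) (f : K →* PSL(2, F)) (hf : Function.Surjective f)
    (hk : f.ker ≤ center K) (h2 : IsPGroup 2 f.ker) (h1 : f.ker ≠ ⊥) : Nonempty (K ≃* SL(2, F)) := by
  let π : SL(2, F) →* PSL(2, F) := QuotientGroup.mk' _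
  let Y : Subgroup (K × SL(2, F)) :=
    (f.comp (MonoidHom.fst K SL(2, F))).eqLocus (π.comp (MonoidHom.snd K SL(2, F)))
  let ξ : Y →* SL(2, F) := (MonoidHom.snd K SL(2, F)).comp Y.subtype
  let η : Y →* K := (MonoidHom.fst K SL(2, F)).comp Y.subtype
  have hξ : Function.Surjective ξ := fun s => (hf (π s)).elim fun x hx => ⟨⟨(x, s), hx⟩, rfl⟩
  have hη : Function.Surjective η := fun x =>
    (QuotientGroup.mk'_surjective _ (f x)).elim fun s hs => ⟨⟨(x, s), hs.symm⟩, rfl⟩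
  have hker : ∀ y ∈ ξ.ker, y.1.2 = 1 ∧ y.1.1 ∈ f.ker := fun y hy =>
    ⟨hy, (y.2.trans (congrArg π hy)).trans (map_one π)⟩
  have hc : ξ.ker ≤ center Y := fun y hy => mem_center_iff.2 fun g =>
    Subtype.ext (Prod.ext (mem_center_iff.1 (hk (hker y hy).2) _) (by simp [(hker y hy).1]))
  have b1 : Function.Bijective (ξ.comp (commutator Y).subtype) := by
    refine ⟨(injective_iff_map_eq_one _).2 fun y hy => Subtype.ext ?_,
      H8.commutator_surj_of_perfect ⟨H22.commutator_SL_fin_eq_top 2 fun _ => h3⟩ hξ⟩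
    obtain ⟨m, hm⟩ := h2 ⟨_, (hker y hy).2⟩
    exact H8.sl2_mult_two ho hξ hc ⟨hy, y.2⟩ (m := m)
      (Subtype.ext (Prod.ext (congrArg Subtype.val hm) (by simp [(hker y hy).1])))
  let g : SL(2, F) →* K := (η.comp (commutator Y).subtype).comp (MulEquiv.ofBijective _ b1).symm.toMonoidHom
  have hg : Function.Surjective g := (H8.commutator_surj_of_perfect hX hη).comp (MulEquiv.surjective _)
  refine ⟨(MulEquiv.ofBijective g (hg.bijective_of_nat_card_le ?_)).symm⟩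
  rw [H8.card_SL2_eq ho, ← f.ker.card_mul_index, index_ker, MonoidHom.range_eq_top.2 hf, card_top]
  exact Nat.mul_le_mul_right _ ((one_lt_card_iff_ne_bot _).2 h1)

theorem card_sixty (hD : TD E) (hQ : IsSylowIn 2 Q E)
    (ti : ∀ x ∈ Q, orderOf x = 2 → ∀ g ∈ E, x ∈ cj g Q → g ∈ 𝒩(Q)) : Nat.card E = 60 := by
  have h := H16.GD.df_of_td hD hQ
  obtain ⟨a, b, h4, rfl⟩ := H4.exists_four_of_klein h.klein
  obtain ⟨t, ht, t1, t2, -, t3, -, -, t4⟩ := h.tor a (H4.left_mem_V4 a b) (ne1 h4.oa)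
  refine (t4 ?_).1
  have k := ti a (H4.left_mem_V4 a b) h4.oa t ht (by
    simpa [t2] using conj_mem_cj (g := t) (H4.left_mem_V4 a b))
  have k1 := t3 b (H4.right_mem_V4 a b) (ne1 h4.ob) h4.ne.symm
  have k2 : t * t ∈ H4.V4 a b := by
    have := mul_mem ((mem_normalizer_iff.1 k b).1 (H4.right_mem_V4 a b)) (inv_mem (H4.right_mem_V4 a b))
    rwa [show t * b * t⁻¹ * b⁻¹ = t * (b * t * b⁻¹)⁻¹ by group, k1, inv_inv] at this
  have k3 : t ^ 4 = 1 := by
    have := pow_card_eq_one' (G := H4.V4 a b) (x := ⟨_, k2⟩)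
    have k4 := h.klein.exponent_two ▸ Monoid.pow_exponent_eq_one (⟨_, k2⟩ : H4.V4 a b)
    simpa [← pow_two, ← pow_mul] using congrArg Subtype.val k4
  exact orderOf_eq_one_iff.1 (Nat.Coprime.eq_one_of_dvd
    ((Nat.Coprime.pow_right 2 (Nat.coprime_two_right.2 t1))) (orderOf_dvd_of_pow_eq_one k3))

theorem NB.sl25 (n : NB L f) (hD : TD (L.map f)) (h : Nat.card (L.map f) = 60) (hZ : L ⊓ 𝒞(L) ≠ ⊥) :
    Nonempty (L ≃* SL25) := by
  obtain ⟨-, F, i, j, h1, h2, ⟨e⟩⟩ := hD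
  have h5 : Fintype.card F = 5 := by
    have := H4.card_psl (F := F)
    rw [← Nat.card_congr e.toEquiv, h] at this
    generalize Fintype.card F = q at *
    have h3 := Nat.le_of_dvd two_pos (Nat.gcd_dvd_left 2 (q - 1))
    by_contra k
    obtain ⟨m, rfl⟩ := h1
    have h5 : 48 ≤ (2 * m + 1) ^ 2 - 1 := Nat.le_sub_of_add_le (Nat.pow_le_pow_left (show 7 ≤ _ by omega) 2)
    have : 7 ≤ 2 * m + 1 := by omega
    nlinarith
  have hk : ∀ x : L, x ∈ (e.toMonoidHom.comp (f.subgroupMap L)).ker ↔ x.1 ∈ 𝒞(L) := fun x => by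
    rw [← n.one, MonoidHom.mem_ker, MonoidHom.comp_apply, MulEquiv.coe_toMonoidHom, map_eq_one_iff _ e.injective,
      Subtype.ext_iff]
    rfl
  obtain ⟨e1⟩ := sl2_cov ⟨(isQuasisimple_iff_top.1 n.qs).1⟩ h1 h2 (e.toMonoidHom.comp (f.subgroupMap L))
    (e.surjective.comp (f.subgroupMap_surjective L))
    (fun x hx => mem_center_iff.2 fun y => Subtype.ext ((hk x).1 hx y y.2))
    (fun x => by
      obtain ⟨k, hk'⟩ := H1.isPGroup_pCore 2 ⟨_, n.Z ⟨x.1.2, (hk _).1 x.2⟩⟩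
      exact ⟨k, Subtype.ext (Subtype.ext (show x.1.1 ^ 2 ^ k = 1 from congrArg Subtype.val hk'))⟩)
    fun e1 => hZ (eq_bot_iff.2 fun x hx => congrArg Subtype.val (mem_bot.1 (e1.le ((hk ⟨x, hx.1⟩).2 hx.2))))
  let r : F ≃+* ZMod 5 := FiniteField.ringEquivOfCardEq (by rw [h5, ZMod.card])
  exact ⟨e1.trans (MonoidHom.toMulEquiv (Matrix.SpecialLinearGroup.map (r : F →+* ZMod 5))
    (Matrix.SpecialLinearGroup.map (r.symm : ZMod 5 →+* F)) (by ext A i j; simp) (by ext A i j; simp))⟩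

theorem td_of_loc {S A E : Subgroup Γ} [E.Normal] (l : H10.Loc S A E) (hS : IsSylowIn 2 S ⊤)
    (h : Nat.card (S ⊓ E : Subgroup Γ) ≤ 4) : TD E := by
  have hQ : IsSylowIn 2 (S ⊓ E) E := hS.inf_normal le_top le_normalizer_of_normal
  have h8 : ¬ 8 ∣ Nat.card E := fun k => by
    rw [← card_mul_relIndex hQ.le] at k
    have := Nat.le_of_dvd Nat.card_pos ((Nat.Coprime.pow_left 3
      ((Nat.Prime.coprime_iff_not_dvd Nat.prime_two).2 hQ.not_dvd_relIndex)).dvd_of_dvd_mul_right k)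
    omega
  rcases l.ty with k | k | k
  exacts [absurd k.2 h8, k, absurd k.eight h8]

theorem card_le_four {V : Subgroup Γ} (h : UI P) (h2 : IsPGroup 2 P) (hc : ¬ IsCyclic P) (hV : V ≤ P.map f)
    (k : ∀ x ∈ P, f x * f x = 1) : Nat.card V ≤ 4 := by
  obtain ⟨a, ha, b, hb, -, -, -, -, -, -, h7⟩ := quat h h2 hc
  have k1 : ∀ i : ℤ, f a ^ i = 1 ∨ f a ^ i = f a := fun i =>
    (mem_zpowers_ord2 (k a ha)).1 (zpow_mem (mem_zpowers _) i)
  have k2 : (V : Set Γ) ⊆ {1, f a, f b, f a * f b} := fun y hy => by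
    obtain ⟨x, hx, rfl⟩ := hV hy
    obtain ⟨i, rfl | rfl⟩ := h7 x hx <;> rcases k1 i with e | e <;> simp [e]
  refine (Set.ncard_le_ncard k2).trans ((Set.ncard_insert_le _ _).trans (Nat.succ_le_succ
    ((Set.ncard_insert_le _ _).trans (Nat.succ_le_succ ((Set.ncard_insert_le _ _).trans (by simp))))))

theorem NB.two (n : NB L f) (hS : IsSylowIn 2 S ⊤) (hR : RI G) (hU : U ≤ S ⊓ 𝒞(L)) (hc : ¬ IsCyclic U)
    (hT : UI (S ⊓ L)) : S ≤ (S ⊓ L) ⊔ 𝒞(L) ∧ Nonempty (L ≃* SL25) := by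
  have := n.normal
  have ti := n.ti hS hR hU hc
  obtain ⟨A, hA, h0⟩ := n.sa hS fun g hg u hu v hv h2 _ h4 => ti u hu h4.oa g hg h2
  obtain ⟨u, hu, v, hv, -, -, h4⟩ := n.four hS hA h0
  obtain ⟨⟨z, hz, oz⟩, e⟩ := n.quat_le hS hA h0 hT
  have l := hA.loc n.simple n.nab h0
  have hD := td_of_loc l (n.syl hS) (card_le_four hT (hS.isPGroup.to_le inf_le_left) (not_cyc h4 hu hv)
    (n.inf hS).le fun x hx => by
      have k := map_inf_le S L f (mem_map_of_mem f hx)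
      exact (l.inv _ k).2 (e.le k).1)
  refine ⟨n.inn hS hA h0 fun g hg => ti u hu h4.oa g hg.1
    (cj_mono inf_le_left ((cj_eq_self_iff.2 hg.2).ge hu)), n.sl25 hD (card_sixty hD
      ((n.syl hS).inf_normal le_top le_normalizer_of_normal) ?_) fun k => ne1 oz (mem_bot.1 (k.le hz))⟩
  rintro x hx ox _ ⟨g, hg, rfl⟩ k
  obtain ⟨u, hu, rfl⟩ := n.lift hS hx
  exact n.map_N' hS (ti u hu ox g hg (n.mem_cj hS hu.2 (cj_mono inf_le_left k)))

theorem RI.sub (hR : RI G) (H : Subgroup G) : RI H := fun S T hS hT hne => by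
  obtain ⟨S', h1, h2⟩ := H10.exists_isSylowIn_ge (hS.isPGroup.map H.subtype) (le_top (a := S.map H.subtype))
  obtain ⟨T', h3, h4⟩ := H10.exists_isSylowIn_ge (hT.isPGroup.map H.subtype) (le_top (a := T.map H.subtype))
  have k : ∀ S : Subgroup H, IsSylowIn 2 S ⊤ → ∀ S' : Subgroup G, IsSylowIn 2 S' ⊤ →
      S.map H.subtype ≤ S' → S = S'.subgroupOf H := fun S hS S' h1 h2 =>
    (hS.eq_of_le (h1.isPGroup.comap_subtype) (map_le_iff_le_comap.1 h2) le_top).symm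
  have := hR S' T' h1 h3 fun e => hne (by rw [k S hS S' h1 h2, k T hT T' h3 h4, e])
  intro a ha b hb oa ob
  exact Subtype.ext (this a ⟨h2 (mem_map_of_mem _ ha.1), h4 (mem_map_of_mem _ ha.2)⟩ b
    ⟨h2 (mem_map_of_mem _ hb.1), h4 (mem_map_of_mem _ hb.2)⟩ (by rwa [orderOf_coe]) (by rwa [orderOf_coe]))

theorem comp_C (h1 : CompOf L ⊤) (h2 : CompOf M ⊤) (hne : L ≠ M) : M ≤ 𝒞(L) :=
  commutator_eq_bot_iff_le_centralizer.1 (h2.commutator_eq_bot h1 hne.symm)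

theorem core_sub (hO : pPrimeCore 2 G = ⊥) (H : Subgroup G) [H.Normal] : pPrimeCore 2 H = ⊥ :=
  (Subgroup.map_eq_bot_iff_of_injective _ H.subtype_injective).1
    (O_normal (K := H) (by rw [oppOf_top, hO]))

theorem quot_iso {Y : Type*} [Group Y] (φ : G →* Y) {M N : Subgroup G} [(N.subgroupOf M).Normal]
    (hk : ∀ x ∈ M, φ x = 1 ↔ x ∈ N) : Nonempty (M ⧸ N.subgroupOf M ≃* M.map φ) :=
  ⟨(QuotientGroup.quotientMulEquivOfEq (Subgroup.ext fun x => by
    rw [mem_subgroupOf, ← hk x x.2, MonoidHom.mem_ker, Subtype.ext_iff]; rfl)).trans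
    (QuotientGroup.quotientKerEquivOfSurjective _ (φ.subgroupMap_surjective M))⟩

section two
variable (hO : pPrimeCore 2 G = ⊥) (hR : RI G) (hS : IsSylowIn 2 S ⊤) (h1 : CompOf L ⊤) (h2 : CompOf M ⊤)
  (hne : L ≠ M)
include hR hS h1 h2 hne

theorem ui_two : UI (S ⊓ M) := (hR.ui_C hS h1).mono (inf_le_inf_left _ (comp_C h1 h2 hne))

theorem only_two (h3 : CompOf K ⊤) : K = L ∨ K = M := by
  by_contra! k
  obtain ⟨q, hq, r, hr, o1, -⟩ := quat_pair (ui_two hR hS h1 h3 k.1.symm) (hS.isPGroup.to_le inf_le_left)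
    (qs_not_cyc h3.qs (comp_syl hS h3))
  exact ne1 o1 (ui_cyc' (hR.ui_C hS h1) (hS.isPGroup.to_le inf_le_left) ⟨hr.1, comp_C h1 h3 k.1.symm hr.2⟩
    (inf_le_inf_left _ (comp_C h1 h2 hne)) (fun x hx => mem_C1.2 (comp_C h3 h2 k.2 hx.2 r hr.2).symm)
    (qs_not_cyc h2.qs (comp_syl hS h2)))

theorem cj_two (g : G) : cj g L = L ∨ cj g L = M :=
  only_two hR hS h1 h2 hne (h1.cj_of_mem (le_normalizer_of_normal (K := ⊤) trivial))

theorem N_two : 𝒩(L) ≤ 𝒩(M) := fun g hg => cj_eq_self_iff.1 ((cj_two hR hS h2 h1 hne.symm g).resolve_right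
  fun e => hne (cj_injective g ((cj_eq_self_iff.2 hg).trans e.symm)))

theorem index_two : (𝒩(L)).index ∣ 2 := by
  by_cases h : ∀ g, g ∈ 𝒩(L)
  · exact index_dvd_two_iff.2 ⟨1, fun b => Or.inr (h b)⟩
  push Not at h
  obtain ⟨a, ha⟩ := h
  refine index_dvd_two_iff.2 ⟨a, fun b => (em _).symm.imp_left fun hb => cj_eq_self_iff.1 ?_⟩
  rw [cj_mul, (cj_two hR hS h1 h2 hne a).resolve_left fun e => ha (cj_eq_self_iff.1 e)]
  exact (cj_two hR hS h2 h1 hne.symm b).resolve_left fun e =>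
    hb (N_two hR hS h2 h1 hne.symm (cj_eq_self_iff.1 e))

theorem normal_two : (𝒩(L)).Normal := ((Nat.dvd_prime Nat.prime_two).1 (index_two hR hS h1 h2 hne)).elim
  normal_of_index_eq_one normal_of_index_eq_two

include hO

theorem two_sub [H.Normal] (k1 : H ≤ 𝒩(L)) (k2 : L ≤ H) (k3 : M ≤ H) :
    S ⊓ H ≤ (S ⊓ L) ⊔ 𝒞(L) ∧ Nonempty (L ≃* SL25) := by
  have : (L.subgroupOf H).Normal := ⟨fun x hx g => (mem_normalizer_iff.1 (k1 g.2) x).1 hx⟩
  obtain ⟨Γ, _, _, f, n⟩ := exists_nb ((qs_subgroupOf_iff k2).2 h1.qs) (core_sub hO H)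
  have hS' := H10.isSylowIn_subgroupOf_top (hS.inf_normal (N := H) le_top le_normalizer_of_normal)
  obtain ⟨e1, ⟨e2⟩⟩ := n.two hS' (hR.sub H) (U := (S ⊓ M).subgroupOf H)
    (fun x hx => ⟨⟨hx.1, x.2⟩, fun y hy => Subtype.ext (comp_C h1 h2 hne hx.2 y hy)⟩)
    (fun k => qs_not_cyc h2.qs (comp_syl hS h2)
      (isCyclic_of_surjective _ (subgroupOfEquivOfLe (inf_le_right.trans k3)).surjective))
    fun a ha b hb oa ob => Subtype.ext (ui_two hR hS h2 h1 hne.symm a ⟨ha.1.1, ha.2⟩ b ⟨hb.1.1, hb.2⟩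
      (by rwa [orderOf_coe]) (by rwa [orderOf_coe]))
  refine ⟨fun s hs => ?_, ⟨(subgroupOfEquivOfLe k2).symm.trans e2⟩⟩
  obtain ⟨x, hx, y, hy, e⟩ := (mem_sup_of_le_normalizer'
    ((centralizer_anti inf_le_right).trans (centralizer_le_normalizer _))).1 (e1 (show ⟨s, hs.2⟩ ∈ _ from hs))
  obtain rfl : x.1 * y.1 = s := congrArg Subtype.val e
  exact mul_mem_sup ⟨hx.1.1, hx.2⟩ fun l hl => congrArg Subtype.val (hy ⟨l, k2 hl⟩ hl)

theorem two_syl : S ⊓ 𝒩(L) ≤ L ⊔ M := fun s hs => by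
  have := normal_two hR hS h1 h2 hne
  have k1 := (comp_C h1 h2 hne).trans (centralizer_le_normalizer _)
  have hN := (centralizer_anti (inf_le_right : S ⊓ L ≤ L)).trans (centralizer_le_normalizer _)
  have hN' := (centralizer_anti (inf_le_right : S ⊓ M ≤ M)).trans (centralizer_le_normalizer _)
  obtain ⟨x, hx, y, hy, rfl⟩ := (mem_sup_of_le_normalizer' hN).1
    ((two_sub hO hR hS h1 h2 hne le_rfl le_normalizer k1).1 hs)
  have yS : y ∈ S := by simpa using S.mul_mem (S.inv_mem hx.1) hs.1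
  obtain ⟨a, ha, b, hb, rfl⟩ := (mem_sup_of_le_normalizer' hN').1
    ((two_sub hO hR hS h2 h1 hne.symm (N_two hR hS h1 h2 hne) k1 le_normalizer).1
      ⟨yS, centralizer_le_normalizer _ hy⟩)
  refine mul_mem_sup hx.2 (M.mul_mem ha.2 ?_)
  have hD := hR.ui_C hS h1
  have k2 : S ⊓ M ≤ S ⊓ 𝒞(L) := inf_le_inf_left _ (comp_C h1 h2 hne)
  have k3 : b ∈ S ⊓ 𝒞(L) := by simpa using mul_mem (inv_mem (k2 ha)) (⟨yS, hy⟩ : a * b ∈ S ⊓ 𝒞(L))
  have k4 := qs_not_cyc h2.qs (comp_syl hS h2)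
  have k5 := ui_cyc' hD (hS.isPGroup.to_le inf_le_left) k3 k2 (fun x hx => mem_C1.2 (hb x hx.2)) k4
  obtain ⟨w, hw, ow⟩ := exists_inv (hS.isPGroup.to_le inf_le_left) k4
  by_cases b1 : b = 1
  · exact b1 ▸ one_mem _
  · exact hD b k3 w (k2 hw) (ord2 k5 b1) ow ▸ hw.2

theorem two_main : (L ⊔ M).Normal ∧ (Odd (L ⊔ M).index ∨ ∃ k : ℕ, Odd k ∧ (L ⊔ M).index = 2 * k) ∧
    ∃ ψ : SL25 × SL25 →* G, ψ.range = L ⊔ M ∧ ψ.ker = zpowers (-1, -1) := by
  have := normal_two hR hS h1 h2 hne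
  have hC := comp_C h1 h2 hne
  have k1 := hC.trans (centralizer_le_normalizer _)
  refine ⟨?_, ?_, ?_⟩
  · rw [show L ⊔ M = layerOf ⊤ from le_antisymm (sup_le h1.le_layerOf h2.le_layerOf) (layerOf_le_iff.2
      fun K hK => (only_two hR hS h1 h2 hne hK).elim (fun e => e ▸ le_sup_left) fun e => e ▸ le_sup_right)]
    exact normal_iff_top_le_normalizer.2 (self_le_normalizer_layerOf ⊤)
  · have k2 : Odd ((L ⊔ M).relIndex 𝒩(L)) := Nat.odd_iff.2 (Nat.two_dvd_ne_zero.1 fun k =>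
      (hS.inf_normal (N := 𝒩(L)) le_top le_normalizer_of_normal).not_dvd_relIndex
        (k.trans (relIndex_dvd_of_le_left _ (two_syl hO hR hS h1 h2 hne))))
    rw [← relIndex_mul_index (sup_le le_normalizer k1)]
    rcases (Nat.dvd_prime Nat.prime_two).1 (index_two hR hS h1 h2 hne) with e | e <;> rw [e]
    exacts [Or.inl (by rwa [mul_one]), Or.inr ⟨_, k2, mul_comm _ _⟩]
  obtain ⟨e1⟩ := (two_sub hO hR hS h1 h2 hne le_rfl le_normalizer k1).2
  obtain ⟨e2⟩ := (two_sub hO hR hS h2 h1 hne.symm (N_two hR hS h1 h2 hne) k1 le_normalizer).2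
  have hU : UI (pCore 2 G) := (hR.ui_C hS h1).mono (le_inf (core_le hS) (core_le_C h1))
  have k : ∀ K : Subgroup G, CompOf K ⊤ → ∀ e : K ≃* SL25, (e.symm (-1)).1 ∈ pCore 2 G ∧
      orderOf (e.symm (-1)).1 = 2 ∧ ∀ a, (e.symm a).1 ∈ 𝒞(K) → a = 1 ∨ a = -1 := fun K hK e => by
    refine ⟨comp_Z hO hK ⟨Subtype.prop _, fun y hy => congrArg Subtype.val (e.injective
      (a₁ := ⟨y, hy⟩ * e.symm (-1)) (a₂ := e.symm (-1) * ⟨y, hy⟩) (by simp))⟩, ?_, fun a ha => ?_⟩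
    · rw [orderOf_coe, MulEquiv.orderOf_eq]
      exact ord2 (by simp) H25.sl25_neg_ne
    · exact H25.mem_center_sl25.1 (mem_center_iff.2 fun b => e.symm.injective (Subtype.ext (by
        simpa using ha _ (e.symm b).2)))
  obtain ⟨a1, a2, a3⟩ := k L h1 e1
  obtain ⟨b1, b2, b3⟩ := k M h2 e2
  have e := hU _ a1 _ b1 a2 b2
  refine ⟨(L.subtype.comp e1.symm.toMonoidHom).noncommCoprod (M.subtype.comp e2.symm.toMonoidHom)
    fun a b => hC (e2.symm b).2 _ (e1.symm a).2, ?_, ?_⟩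
  · refine (MonoidHom.noncommCoprod_range _ _ _).trans ?_
    rw [MonoidHom.range_comp, MonoidHom.range_comp,
      MonoidHom.range_eq_top.2 e1.symm.surjective, MonoidHom.range_eq_top.2 e2.symm.surjective,
      ← MonoidHom.range_eq_map, ← MonoidHom.range_eq_map, range_subtype, range_subtype]
  · refine le_antisymm (fun x hx => ?_) (zpowers_le.2 ?_)
    · have k3 : (e1.symm x.1).1 * (e2.symm x.2).1 = 1 := hx
      have k4 := a3 x.1 (eq_inv_of_mul_eq_one_left k3 ▸ inv_mem (hC (e2.symm x.2).2))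
      have k5 := b3 x.2 (eq_inv_of_mul_eq_one_right k3 ▸ inv_mem (comp_C h2 h1 hne.symm (e1.symm x.1).2))
      obtain ⟨a, b⟩ := x
      rcases k4 with rfl | rfl <;> rcases k5 with rfl | rfl
      · exact one_mem _
      · exact absurd (by simpa using k3) (ne1 b2)
      · exact absurd (by simpa using k3) (ne1 a2)
      · exact mem_zpowers _
    · exact (congrArg (· * _) e).trans (sq1 b2)

end two

end H6.SI
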