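import Cfsg.Agent.H6.SI4
import Cfsg.Agent.H7.CycInt

/-! Small Sylow `2`-intersections: passage to the quotient by a subgroup of odd order. -/

set_option autoImplicit false
set_option linter.unusedSectionVars false
set_option linter.unusedVariables false

namespace H6.SI

open Subgroup Cfsg H5 H5.Gd H6.CS
open scoped commutatorElement MatrixGroups
open H10 (IsSylowIn)
open H4 (Four)
open GW.Q8 (UI)

universe u

variable {G : Type u} [Group G] [Finite G] {X : Type u} [Group X] [Finite X] {f : G →* X}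
variable {A D E H K L M P Q R S T U Y : Subgroup G} {a b c d e g s t u v x y z : G}

theorem ri_of (h : ∀ S T : Sylow 2 G, S ≠ T → PRankLE 2 1 ↥((S : Subgroup G) ⊓ (T : Subgroup G))) : RI G :=
  fun S T hS hT hne => by
    obtain ⟨S, rfl⟩ := hS.exists_sylow_top
    obtain ⟨T, rfl⟩ := hT.exists_sylow_top
    exact GW.Q8.ui_of_prank (S.2.to_le inf_le_left) (h S T fun e => hne (by rw [e]))

theorem layer_eq (hL : CompOf L ⊤) (h : ∀ M, CompOf M ⊤ → M = L) : layerOf ⊤ = L :=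
  le_antisymm (layerOf_le_iff.2 fun M hM => (h M hM).le) hL.le_layerOf

theorem cent_le_core (hO : pPrimeCore 2 G = ⊥) (h : layerOf ⊤ = L) :
    𝒞(L) ⊓ 𝒞(pCore 2 G) ≤ pCore 2 G :=
  (le_fitOf_of_centralizes le_top (h ▸ inf_le_left)
    (inf_le_right.trans (centralizer_anti (fit_le hO)))).trans (fit_le hO)

section odd
variable (hk : (Nat.card f.ker).Coprime 2)
include hk

theorem ker_one (hP : IsPGroup 2 P) (hx : x ∈ P) (h : f x = 1) : x = 1 := by
  simpa using (eq_of_odd hP (one_mem _) hx hk (by simpa using h)).symm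

theorem ker_inf (hP : IsPGroup 2 P) : P ⊓ f.ker = ⊥ :=
  eq_bot_iff.2 fun x hx => ker_one hk hP hx.1 hx.2

theorem ker_inj (hP : IsPGroup 2 P) (hx : x ∈ P) (hy : y ∈ P) (h : f x = f y) : x = y :=
  inv_mul_eq_one.1 (ker_one hk hP (mul_mem (inv_mem hx) hy) (by simp [h]))

theorem RI.map (hR : RI G) (hf : Function.Surjective f) : RI X := fun S T hS hT hne => by
  obtain ⟨S, rfl⟩ := hS.exists_sylow_top
  obtain ⟨T, rfl⟩ := hT.exists_sylow_top
  obtain ⟨S', T', h1, D, h2, h3⟩ := H7.sylowInt_of_surjective hf (S' := S) (T' := T) fun e => hne (by rw [e])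
  rw [← h3]
  exact ((hR _ _ (H10.isSylowIn_top S') (H10.isSylowIn_top T') fun e => h1 (Sylow.ext e)).mono h2).map f
    (ker_inf hk (S'.2.to_le (h2.trans inf_le_left)))

theorem ord_lift (hP : IsPGroup 2 P) (hx : x ∈ P) : orderOf (f x) = 2 ↔ orderOf x = 2 :=
  ⟨fun h => ord2 (ker_one hk hP (mul_mem hx hx) (by rw [map_mul, sq1 h])) fun e => ne1 h (by rw [e, map_one]),
    fun h => ord2 (by rw [← map_mul, sq1 h, map_one]) fun e => ne1 h (ker_one hk hP hx e)⟩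

theorem ui_of_map (hP : IsPGroup 2 P) (h : UI (P.map f)) : UI P := fun a ha b hb oa ob =>
  ker_inj hk hP ha hb (h _ (mem_map_of_mem f ha) _ (mem_map_of_mem f hb) ((ord_lift hk hP ha).2 oa)
    ((ord_lift hk hP hb).2 ob))

theorem four_lift (hP : IsPGroup 2 P) (ha : a ∈ P) (hb : b ∈ P) (h : Four (f a) (f b)) : Four a b :=
  ⟨(ord_lift hk hP ha).1 h.oa, (ord_lift hk hP hb).1 h.ob, fun e => h.ne (by rw [e]),
    ker_inj hk hP (mul_mem ha hb) (mul_mem hb ha) (by rw [map_mul, map_mul, h.comm])⟩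

omit hk in
theorem core_comap (hf : Function.Surjective f) (hS : IsSylowIn 2 S ⊤) (h : f.ker ≤ 𝒩(S)) :
    (pCore 2 X).comap f = pCore 2 G ⊔ f.ker := by
  have k : (pCore 2 X).comap f ≤ (S ⊓ (pCore 2 X).comap f) ⊔ f.ker := fun x hx => by
    obtain ⟨y, hy, e⟩ := core_le (hS.map_top hf) hx
    simpa using mul_mem_sup (S := S ⊓ (pCore 2 X).comap f) ⟨hy, show f y ∈ _ from e ▸ mem_comap.1 hx⟩
      (show y⁻¹ * x ∈ f.ker by simp [e])
  have k1 : S ⊓ (pCore 2 X).comap f ≤ pCore 2 G := opOf_top (p := 2) (G := G) ▸ SN.le_opOf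
    ((SN.of_normal inf_le_right (k.trans (sup_le le_normalizer
      (le_normalizer_inf h le_normalizer_of_normal)))).trans
      (SN.of_normal le_top le_normalizer_of_normal)) (hS.isPGroup.to_le inf_le_left)
  refine le_antisymm (k.trans (sup_le_sup_right k1 _)) (sup_le (map_le_iff_le_comap.1 ?_) (ker_le_comap f _))
  have := (inferInstance : (pCore 2 G).Normal).map f hf
  exact H1.le_pCore ((H1.isPGroup_pCore 2).map f)

theorem main_one (hf : Function.Surjective f) (hO : pPrimeCore 2 X = ⊥) (hR : RI G) (hS : IsSylowIn 2 S ⊤)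
    (hU : ¬ UI (S.map f)) {g : X} (hg : g ∉ 𝒩(S.map f)) (hc : ¬ IsCyclic (S.map f ⊓ cj g (S.map f) : Subgroup X))
    {L : Subgroup X} (hL : CompOf L ⊤) (h1 : ∀ M, CompOf M ⊤ → M = L) :
    ∃ M : Subgroup G, M.Normal ∧ Odd M.index ∧ pCore 2 G ⊔ f.ker ≤ M ∧
      (∃ n : ℕ, Nonempty (pCore 2 G ≃* QuaternionGroup (2 ^ (n + 1)))) ∧
      ∃ (Γ : Type u) (_ : Group Γ) (φ : G →* Γ), H17.Be.Tri (M.map φ) ∧
        ∀ x ∈ M, φ x = 1 ↔ x ∈ pCore 2 G ⊔ f.ker := by
  have hR' := hR.map hk hf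
  have hS' := hS.map_top hf
  have hE := layer_eq hL h1
  have : L.Normal := normal_iff_top_le_normalizer.2 (hE ▸ self_le_normalizer_layerOf ⊤)
  obtain ⟨Γ, _, _, φ, n⟩ := exists_nb hL.qs hO
  obtain ⟨h2, A, hA, h0⟩ := n.one_syl hS' hR' hU (cent_le_core hO hE)
  have h3 := n.core_nc hS' hR' hU h2 hA h0 hg hc
  have h4 := (n.se hS' (n.ti hS' hR' (le_inf (core_le hS') (core_le_C hL)) h3)).tri n.simple n.nab
  obtain ⟨_, ⟨z, hz, rfl⟩, _, ⟨u, hu, rfl⟩, _, ⟨v, hv, rfl⟩, f1, f2, f3, f4⟩ := n.eight hS' hR' hA h0 h3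
  have h5 := core_comap hf hS (hR.odd_le hS hz hu hv (four_lift hk hS.isPGroup hu hv f1)
    (four_lift hk hS.isPGroup hz hu f2) (four_lift hk hS.isPGroup hz hv f3)
    (four_lift hk hS.isPGroup hz (mul_mem hu hv) (by rwa [map_mul])) (Nat.coprime_two_right.1 hk)
    le_normalizer_of_normal)
  have h6 : (pCore 2 G).map f = pCore 2 X := by
    rw [← map_comap_eq_self_of_surjective hf (pCore 2 X), h5, Subgroup.map_sup,
      (Subgroup.map_eq_bot_iff f.ker).2 le_rfl, sup_bot_eq]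
  have h7 : ((L ⊔ pCore 2 X).comap f).map (φ.comp f) = L.map φ := by
    rw [← map_map, map_comap_eq_self_of_surjective hf, Subgroup.map_sup,
      (Subgroup.map_eq_bot_iff (pCore 2 X)).2 (n.ker ▸ core_le_C hL), sup_bot_eq]
  have hRU : UI (pCore 2 X) := (hR'.ui hS' hg).mono (le_inf (core_le hS') (core_le (hS'.cj_top g)))
  refine ⟨(L ⊔ pCore 2 X).comap f, inferInstance, ?_, h5 ▸ comap_mono le_sup_right, ?_, Γ, _, φ.comp f,
    h7 ▸ h4, fun x hx => ?_⟩
  · rw [index_comap_of_surjective _ hf]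
    refine Nat.odd_iff.2 (Nat.two_dvd_ne_zero.1 fun k => hS'.not_dvd_relIndex ?_)
    rw [relIndex_top_right]
    exact k.trans (index_dvd_of_le (h2.trans (sup_le_sup_right inf_le_right _)))
  · exact ((ui_of_map hk (H1.isPGroup_pCore 2) (h6 ▸ hRU)).cases (H1.isPGroup_pCore 2)).resolve_left
      fun k => h3 (h6 ▸ isCyclic_of_surjective _ (f.subgroupMap_surjective _))
  · rw [← h5, mem_comap, MonoidHom.comp_apply]
    refine ⟨fun k => ?_, fun k => n.one.2 (core_le_C hL k)⟩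
    obtain ⟨a, ha, b, hb, e⟩ := (mem_sup_of_le_normalizer le_normalizer_of_normal).1 (mem_comap.1 hx)
    rw [← e, map_mul, n.one.2 (core_le_C hL hb), mul_one] at k
    exact e ▸ mul_mem (n.Z ⟨ha, n.one.1 k⟩) hb

theorem main_all (hf : Function.Surjective f) (hO : pPrimeCore 2 X = ⊥) (hR : RI G)
    (hns : ¬ Group.IsSolvable G)
    (hnC : ∃ S T : Sylow 2 X, S ≠ T ∧ ¬ IsCyclic ↥((S : Subgroup X) ⊓ (T : Subgroup X)))
    (hnQ : ∀ S : Sylow 2 G, ∀ n : ℕ, IsEmpty (↥(S : Subgroup G) ≃* QuaternionGroup (2 ^ (n + 1)))) :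
    (∃ M : Subgroup G, M.Normal ∧ Odd M.index ∧ pCore 2 G ⊔ f.ker ≤ M ∧
      (∃ n : ℕ, Nonempty (pCore 2 G ≃* QuaternionGroup (2 ^ (n + 1)))) ∧
      ∃ (Γ : Type u) (_ : Group Γ) (φ : G →* Γ), H17.Be.Tri (M.map φ) ∧
        ∀ x ∈ M, φ x = 1 ↔ x ∈ pCore 2 G ⊔ f.ker) ∨
    ∃ M : Subgroup G, M.Normal ∧ (Odd M.index ∨ ∃ k : ℕ, Odd k ∧ M.index = 2 * k) ∧ f.ker ≤ M ∧
      ∃ ψ : H25.SL25 × H25.SL25 →* X, ψ.range = M.map f ∧ ψ.ker = zpowers (-1, -1) := by
  have hR' := hR.map hk hf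
  have hns' : ¬ Group.IsSolvable X := fun h => hns (by
    have := isSolvable_of_map f (H := ⊤) inferInstance
      (isSolvable_of_le (isSolvable_of_coprime_two hk) inf_le_right)
    exact isSolvable_of_equiv topEquiv)
  obtain ⟨S1, T1, hne, hc⟩ := hnC
  obtain ⟨S, hS⟩ := H10.exists_isSylowIn 2 (⊤ : Subgroup G)
  have hS' := hS.map_top hf
  obtain ⟨a, -, ha⟩ := hS'.exists_cj (H10.isSylowIn_top S1)
  obtain ⟨b, -, hb⟩ := hS'.exists_cj (H10.isSylowIn_top T1)
  have e0 : (S1 : Subgroup X) ⊓ T1 = cj a (S.map f ⊓ cj (a⁻¹ * b) (S.map f)) := by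
    rw [cj_inf, ← cj_mul, mul_inv_cancel_left, ← ha, ← hb]; rfl
  have hc' : ¬ IsCyclic (S.map f ⊓ cj (a⁻¹ * b) (S.map f) : Subgroup X) := fun k => hc (by
    rw [e0]; exact isCyclic_of_surjective _ (MonoidHom.subgroupMap_surjective _ _))
  have hg : a⁻¹ * b ∉ 𝒩(S.map f) := fun k => hne (Sylow.ext (by
    rw [← ha, ← hb, ← mul_inv_cancel_left a b]
    exact ((cj_mul _ _ _).trans (congrArg _ (cj_eq_self_iff.2 k))).symm))
  generalize a⁻¹ * b = g at hg hc'
  have hU : ¬ UI (S.map f) := fun k => by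
    obtain ⟨S, rfl⟩ := hS.exists_sylow_top
    rcases (ui_of_map hk S.2 k).cases S.2 with k1 | ⟨n, ⟨e⟩⟩
    · have := isCyclic_of_surjective _ (f.subgroupMap_surjective S)
      exact hc' (isCyclic_of_le inf_le_left)
    · exact (hnQ S n).false e
  obtain ⟨L, hL⟩ := exists_comp hO (aut_solv ((hR'.ui hS' hg).mono
    (le_inf (core_le hS') (core_le (hS'.cj_top g)))) (H1.isPGroup_pCore 2)) hns'
  by_cases h1 : ∀ M, CompOf M ⊤ → M = L
  · exact Or.inl (main_one hk hf hO hR hS hU hg hc' hL h1)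
  push Not at h1
  obtain ⟨M, hM, hne⟩ := h1
  obtain ⟨k1, k2, ψ, k3, k4⟩ := two_main hO hR' hS' hL hM hne.symm
  exact Or.inr ⟨(L ⊔ M).comap f, inferInstance, by rwa [index_comap_of_surjective _ hf], ker_le_comap f _,
    ψ, k3.trans (map_comap_eq_self_of_surjective hf _).symm, k4⟩

end odd

end H6.SI
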