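import Cfsg.Agent.H6.SI5
import Cfsg.Agent.H26.JRx
import Cfsg.Agent.H7.SchA
import Cfsg.Agent.H8.CT
import Cfsg.Agent.H8.Schur2

/-! Central Sylow `2`-intersections: groups without normal subgroups of odd order. -/

set_option autoImplicit false
set_option linter.unusedSectionVars false
set_option linter.unusedVariables false

namespace H6.SI

open Subgroup Cfsg H5 H5.Gd H6.CS
open scoped commutatorElement MatrixGroups
open H10 (IsSylowIn)
open H4 (Four)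
open GW.Q8 (UI)
open H25 (SL25)

universe u

variable {G : Type u} [Group G] [Finite G] {Γ : Type u} [Group Γ] [Finite Γ] {f : G →* Γ}
variable {A D E H K L M P Q R S T U Y : Subgroup G} {a b c d e g s t u v x y z : G}

/-- Sylow intersections are central -/
def ZI (G : Type u) [Group G] : Prop :=
  ∀ S : Subgroup G, IsSylowIn 2 S ⊤ → ∀ g, g ∉ 𝒩(S) → S ⊓ cj g S ≤ 𝒞(S)

theorem ZI.mem_N (h : ZI G) (hS : IsSylowIn 2 S ⊤) (hu : u ∈ S) (h1 : u ∈ cj g S) (h2 : u ∉ 𝒞(S)) :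
    g ∈ 𝒩(S) := by_contra fun k => h2 (h S hS g k ⟨hu, h1⟩)

theorem ZI.cent (h : ZI G) (hS : IsSylowIn 2 S ⊤) (hL : CompOf L ⊤) : S ⊓ 𝒞(L) ≤ 𝒞(S) := by
  obtain ⟨g, hg, k⟩ := qs_not_N hL.qs (comp_syl hS hL)
  exact (le_cj_of_C hg).trans (h S hS g k)

theorem ZI.core (h : ZI G) (hS : IsSylowIn 2 S ⊤) (hg : g ∉ 𝒩(S)) : S ≤ 𝒞(pCore 2 G) :=
  le_centralizer_iff.1 ((le_inf (core_le hS) (core_le (hS.cj_top g))).trans (h S hS g hg))

theorem comm_of_le (h : S ≤ (S ⊓ L) ⊔ 𝒞(L)) (h1 : S ⊓ L ≤ 𝒞(S)) (h2 : S ⊓ 𝒞(L) ≤ 𝒞(S)) : S ≤ 𝒞(S) :=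
  fun s hs => by
  obtain ⟨x, hx, y, hy, rfl⟩ := (mem_sup_of_le_normalizer'
    ((centralizer_anti inf_le_right).trans (centralizer_le_normalizer _))).1 (h hs)
  exact mul_mem (h1 hx) (h2 ⟨by simpa using S.mul_mem (S.inv_mem hx.1) hs, hy⟩)

theorem qs_not_C (h : IsQuasisimple L) (hS : IsSylowIn 2 (S ⊓ L) L) : ¬ S ⊓ L ≤ 𝒞(L) := fun k => by
  obtain ⟨g, hg, k1⟩ := qs_not_N (S := S ⊓ L) h (by rwa [inf_assoc, inf_idem])
  exact k1 (centralizer_le_normalizer _ (le_centralizer_iff.1 k hg))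

theorem map_C (h : x ∈ 𝒞(S)) : f x ∈ 𝒞(S.map f) := by
  rintro _ ⟨y, hy, rfl⟩
  rw [← map_mul, ← map_mul, h y hy]

theorem NB.ab (n : NB L f) (hS : IsSylowIn 2 S ⊤) (h : S ⊓ L ≤ 𝒞(S)) : S ≤ (S ⊓ L) ⊔ 𝒞(L) := fun s hs => by
  have := n.normal
  have k : S.map f ≤ 𝒞((S.map f ⊓ L.map f : Subgroup Γ)) := by
    rw [le_centralizer_iff, n.inf hS]
    rintro _ ⟨x, hx, rfl⟩
    exact map_C (h hx)
  exact n.down hS (inn_ab n.simple n.nab ((n.syl hS).inf_normal le_top le_normalizer_of_normal)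
    (inf_le_left.trans k) (mem_tw (n.syl hS).isPGroup (mem_map_of_mem f hs)) (k (mem_map_of_mem f hs)))

theorem ZI.two (h : ZI G) (hO : pPrimeCore 2 G = ⊥) (hS : IsSylowIn 2 S ⊤) (h1 : CompOf L ⊤)
    (h2 : CompOf M ⊤) (hne : L ≠ M) : S ≤ 𝒞(S) := by
  have k0 : ∀ S : Subgroup G, IsSylowIn 2 S ⊤ → S ⊓ L ≤ 𝒞(S) := fun S hS =>
    (inf_le_inf_left _ (comp_C h2 h1 hne.symm)).trans (h.cent hS h2)
  have k1 : ∀ S : Subgroup G, IsSylowIn 2 S ⊤ → S ≤ 𝒩(L) := fun S hS s hs => cj_eq_self_iff.1 (by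
    by_contra k
    refine qs_not_C h1.qs (comp_syl hS h1) (le_trans (fun x hx => ?_)
      (comp_C h1 (h1.cj_of_mem (le_normalizer_of_normal (K := ⊤) trivial)) (Ne.symm k)))
    have := conj_mem_cj (g := s) hx.2
    rwa [k0 S hS hx s hs, mul_inv_cancel_right] at this)
  let H := (𝒩(L)).normalCore
  have k2 : S ≤ H := fun s hs g => k1 _ (hS.cj_top g) (conj_mem_cj hs)
  have := normal_iff_top_le_normalizer.2 (self_le_normalizer_layerOf (⊤ : Subgroup G))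
  have k3 : L ≤ H := h1.le_layerOf.trans (normal_le_normalCore.2 h1.layerOf_le_normalizer)
  have : (L.subgroupOf H).Normal := ⟨fun x hx g => (mem_normalizer_iff.1 (normalCore_le _ g.2) x).1 hx⟩
  obtain ⟨Γ, _, _, f, n⟩ := exists_nb ((qs_subgroupOf_iff k3).2 h1.qs) (core_sub hO H)
  have hS' := H10.isSylowIn_subgroupOf_top (hS.inf_normal (N := H) le_top le_normalizer_of_normal)
  have e1 := n.ab hS' fun x hx y hy => Subtype.ext (k0 S hS ⟨hx.1.1, hx.2⟩ y hy.1)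
  refine comm_of_le (fun s hs => ?_) (k0 S hS) (h.cent hS h1)
  obtain ⟨x, hx, y, hy, e⟩ := (mem_sup_of_le_normalizer'
    ((centralizer_anti inf_le_right).trans (centralizer_le_normalizer _))).1
    (e1 (show ⟨s, k2 hs⟩ ∈ _ from ⟨hs, k2 hs⟩))
  obtain rfl : x.1 * y.1 = s := congrArg Subtype.val e
  exact mul_mem_sup ⟨hx.1.1, hx.2⟩ fun l hl => congrArg Subtype.val (hy ⟨l, k3 hl⟩ hl)

theorem psl_sq {X : Type*} [Group X] {F : Type*} [Field F] [Fintype F] {n : ℕ} (h1 : 1 ≤ n)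
    (h2 : Fintype.card F = 2 ^ n) (e : X ≃* PSL(2, F)) (y : X) : y * y = 1 ∨ Odd (orderOf y) := by
  haveI : CharP F 2 := charP_of_card_eq_prime_pow h2
  have he : Even (2 ^ n) := Nat.even_pow.2 ⟨even_two, by omega⟩
  rw [← pow_two, ← orderOf_dvd_iff_pow_eq_one, ← e.orderOf_eq y]
  have ho := Nat.Even.sub_odd Nat.one_le_two_pow he odd_one
  have := H4.orderOf_psl_cases 2 (e y)
  rw [h2, Nat.coprime_two_left.2 ho, Nat.div_one, Nat.div_one] at this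
  rcases this with k | k | k
  exacts [Or.inl k, Or.inr (ho.of_dvd_nat k), Or.inr (he.add_one.of_dvd_nat k)]

namespace NB
variable (n : NB L f)
include n

theorem stem {Y : Type*} [Group Y] (e : L.map f ≃* Y) (x : L) :
    x ∈ (e.toMonoidHom.comp (f.subgroupMap L)).ker ↔ x.1 ∈ 𝒞(L) := by
  rw [← n.one, MonoidHom.mem_ker, MonoidHom.comp_apply, MulEquiv.coe_toMonoidHom, map_eq_one_iff _ e.injective,
    Subtype.ext_iff]
  rfl

theorem Z_bot {Y : Type*} [Group Y] (e : L.map f ≃* Y) (h : HasCyclicSchurMultiplier Y 1) :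
    L ⊓ 𝒞(L) = ⊥ := eq_bot_iff.2 fun x hx => congrArg Subtype.val (mem_bot.1
  ((H8.ker_eq_bot_of_hasSchur_one h (τ := e.toMonoidHom.comp (f.subgroupMap L))
    ⟨e.surjective.comp (f.subgroupMap_surjective L),
      fun x hx => mem_center_iff.2 fun y => Subtype.ext ((n.stem e x).1 hx y y.2),
      le_top.trans (isQuasisimple_iff_top.1 n.qs).1.ge⟩).le ((n.stem e ⟨x, hx.1⟩).2 hx.2)))

variable (hS : IsSylowIn 2 S ⊤) (hZ : ZI G) (hc : ¬ S ≤ 𝒞(S))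
include hS hZ

theorem zsa : H10.SA (S.map f) (H10.ZO 2 (S.map f ⊓ L.map f)) := by
  have := n.normal
  have hQ := (n.syl hS).inf_normal (N := L.map f) le_top le_normalizer_of_normal
  refine sa_center (n.syl hS) fun U hU a ha b hb aU _ _ hC h4 => ?_
  obtain ⟨_, ⟨g, hg, rfl⟩, rfl⟩ := hQ.exists_cj hU
  by_cases k : g ∈ 𝒩(S)
  · exact cj_eq_self_iff.2 (n.map_N' hS k)
  obtain ⟨v, hv, rfl⟩ := n.lift hS hb
  have k1 := map_C (f := f) (hZ S hS g k ⟨hv.1, n.mem_cj hS hv.2 (cj_mono inf_le_left (hC ⟨hb, mem_C1.2 rfl⟩))⟩)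
  exact hQ.eq_of_le hU.isPGroup (fun x hx => hC ⟨hx, mem_C1.2 (k1 x hx.1)⟩) hU.le

include hc

theorem znc : ¬ S ⊓ L ≤ 𝒞(S) := fun k => hc (comm_of_le (n.ab hS k) k (hZ.cent hS n.comp))

theorem zN : 𝒩((S ⊓ L : Subgroup G)) ≤ 𝒩(S) := fun g hg => by_contra fun k =>
  n.znc hS hZ hc ((le_inf inf_le_left ((cj_eq_self_iff.2 hg).ge.trans (cj_mono inf_le_left))).trans (hZ S hS g k))

theorem zinn : S ≤ (S ⊓ L) ⊔ 𝒞(L) :=
  have := n.normal
  n.inn hS (n.zsa hS hZ) (zo_ne (n.syl hS) n.simple n.nab) (inf_le_right.trans (n.zN hS hZ hc))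

theorem znab : ¬ S ⊓ L ≤ 𝒞((S ⊓ L : Subgroup G)) := fun k => n.znc hS hZ hc (le_centralizer_iff.1
  ((n.zinn hS hZ hc).trans (sup_le k (centralizer_anti inf_le_right))))

theorem zti (u : G) (hu : u ∈ S ⊓ L) (ou : orderOf (f u) = 2) (g : G) (hg : g ∈ L) (h : u ∈ cj g S) :
    g ∈ 𝒩(S) := by
  have := n.normal
  have hA := n.zsa hS hZ
  have h0 := zo_ne (n.syl hS) n.simple n.nab
  have l := hA.loc n.simple n.nab h0
  have k0 := map_inf_le S L f (mem_map_of_mem f hu)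
  rcases loc_cases hA n.simple n.nab h0 with e | ⟨K, W, t, b⟩
  · by_contra k
    refine n.znc hS hZ hc fun x hx => ?_
    by_cases k1 : f x = 1
    · exact hZ.cent hS n.comp ⟨hx.1, n.one.1 k1⟩
    obtain ⟨_, ⟨⟨m, hm, rfl⟩, k2⟩, k3⟩ := l.tr _ (e.le k0) (ne1 ou) _
      (e.le (map_inf_le S L f (mem_map_of_mem f hx))) k1
    have k4 := n.zN hS hZ hc (n.mem_N hS hm k2)
    have k5 : m * u * m⁻¹ ∈ S ⊓ 𝒞(S) := (mem_normalizer_iff.1 (le_normalizer_inf le_rfl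
      (normalizer_le_normalizer_centralizer _) k4) u).1 ⟨hu.1, hZ S hS g k ⟨hu.1, h⟩⟩
    simpa only [mul_inv_cancel_left] using (𝒞(S)).mul_mem k5.2 (hZ.cent hS n.comp
      ⟨S.mul_mem (S.inv_mem k5.1) hx.1, n.one.1 (by
        rw [map_mul, map_inv, ← k3, map_mul, map_mul, map_inv, inv_mul_cancel])⟩)
  · refine n.zN hS hZ hc (n.mem_N hS hg (b.BN (b.mem_B (mem_map_of_mem f hg) k0 (ne1 ou)
      (mem_sup_left (map_inf_le S L f ?_)))))
    rw [← map_inv, ← map_mul, ← map_mul]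
    exact mem_map_of_mem f ⟨H5.mem_cj.1 h, L.mul_mem (L.mul_mem (L.inv_mem hg) hu.2) hg⟩

theorem zse : SE (L.map f) := n.se hS (n.zti hS hZ hc)

theorem ztri : Nonempty (L ≃* SL25) ∨ Lie.IsoSuzuki (L.map f) ∨ H26.J.U3E (L.map f) := by
  have := n.normal
  have hQ := (n.syl hS).inf_normal (N := L.map f) le_top le_normalizer_of_normal
  refine ((n.zse hS hZ hc).tri n.simple n.nab).imp_left ?_
  rintro ⟨F, i, j, m, h1, h2, ⟨e⟩⟩
  haveI : CharP F 2 := charP_of_card_eq_prime_pow h2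
  have k1 : ∀ y ∈ S.map f ⊓ L.map f, y * y = 1 := fun y hy =>
    (psl_sq (by omega) h2 e ⟨y, hy.2⟩).elim (congrArg Subtype.val) fun k => by
      obtain ⟨r, hr⟩ := (IsPGroup.iff_orderOf.1 hQ.isPGroup) ⟨y, hy⟩
      rw [← orderOf_coe] at k hr
      obtain rfl : y = 1 := orderOf_eq_one_iff.1
        (Nat.Coprime.eq_one_of_dvd ((Nat.coprime_two_right.2 k).pow_right r) hr.dvd)
      exact mul_one _
  have k2 : L ⊓ 𝒞(L) ≠ ⊥ := fun k => n.znab hS hZ hc fun x hx y hy => by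
    have k3 : ∀ y ∈ S ⊓ L, y * y = 1 := fun y hy => mem_bot.1 (k.le ⟨mul_mem hy.2 hy.2, n.one.1 (by
      rw [map_mul]; exact k1 _ (map_inf_le S L f (mem_map_of_mem f hy)))⟩)
    rw [← inv_eq_of_mul_eq_one_right (k3 _ (mul_mem hy hx)), mul_inv_rev,
      inv_eq_of_mul_eq_one_right (k3 _ hx), inv_eq_of_mul_eq_one_right (k3 _ hy)]
  obtain rfl | h3 := h1.eq_or_lt
  · have k4 : Nat.card (L.map f) = 60 := by
      have := H4.card_psl (F := F)
      rwa [← Nat.card_congr e.toEquiv, h2, show Nat.gcd 2 (2 ^ 2 - 1) = 1 from rfl, one_mul] at this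
    refine n.sl25 (td_of_loc ((n.zsa hS hZ).loc n.simple n.nab (zo_ne (n.syl hS) n.simple n.nab))
      (n.syl hS) ?_) k4 k2
    obtain ⟨r, hr⟩ := hQ.isPGroup.exists_card_eq
    have k5 := card_dvd_of_le hQ.le
    rw [k4, hr] at k5
    rw [hr]
    exact Nat.le_of_dvd four_pos ((Nat.Coprime.pow_left r (by decide : Nat.Coprime 2 15)).dvd_of_dvd_mul_right k5)
  obtain ⟨e1⟩ := H8.psl_equiv_sl (F := F) CharTwo.two_eq_zero
  refine absurd (n.Z_bot (e.trans e1) (H7.schur_sl2 (h2 ▸ (Nat.pow_lt_pow_right one_lt_two h3).ne') ?_)) k2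
  have := Nat.even_pow.2 ⟨even_two, (show m ≠ 0 by omega)⟩
  rw [h2]
  exact fun k => absurd (k ▸ this) (by decide)

end NB

theorem ZI.main (h : ZI G) (hO : pPrimeCore 2 G = ⊥) (hS : IsSylowIn 2 S ⊤) (hg : g ∉ 𝒩(S))
    (hc : ¬ S ≤ 𝒞(S)) : ∃ (L : Subgroup G) (Γ : Type u) (_ : Group Γ) (_ : Finite Γ) (f : G →* Γ),
      NB L f ∧ S ≤ L ⊔ pCore 2 G := by
  obtain ⟨L, hL⟩ : ∃ L : Subgroup G, CompOf L ⊤ := by
    by_contra! k
    exact hc ((h.core hS hg).trans (centralizer_anti fun x hx => cent_le_core hO (layerOf_eq_bot_iff.2 k)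
      ⟨fun y hy => by rw [mem_bot.1 hy, one_mul, mul_one], h.core hS hg hx⟩))
  have hE := layer_eq hL fun M hM => by_contra fun k => hc (h.two hO hS hM hL k)
  have : L.Normal := normal_iff_top_le_normalizer.2 (hE ▸ self_le_normalizer_layerOf ⊤)
  obtain ⟨Γ, _, _, f, n⟩ := exists_nb hL.qs hO
  refine ⟨L, Γ, _, inferInstance, f, n, fun s hs => ?_⟩
  obtain ⟨x, hx, y, hy, rfl⟩ := (mem_sup_of_le_normalizer'
    ((centralizer_anti inf_le_right).trans (centralizer_le_normalizer _))).1 (n.zinn hS h hc hs)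
  exact mul_mem_sup hx.2 (cent_le_core hO hE ⟨hy, h.core hS hg (by simpa using S.mul_mem (S.inv_mem hx.1) hs)⟩)

end H6.SI
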