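import Cfsg.Agent.H6.SI6
import Cfsg.Agent.H6.SU3
import Cfsg.Agent.S2111
import Cfsg.Agent.S3183

/-! Central Sylow `2`-intersections: the structure theorem. -/

set_option autoImplicit false
set_option linter.unusedSectionVars false
set_option linter.unusedVariables false

namespace H6.SI

open Subgroup Cfsg H5 H5.Gd H6.CS
open scoped commutatorElement MatrixGroups
open H10 (IsSylowIn)
open H4 (Four)
open GW.Q8 (UI)
open H25 (SL25)

universe u

variable {G : Type u} [Group G] [Finite G] {Γ : Type u} [Group Γ] [Finite Γ] {f : G →* Γ}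
variable {A D E H K L M P Q R S T U Y : Subgroup G} {a b c d e g s t u v x y z : G}

theorem gen_mod (hS : IsPGroup 2 S) (hY : Odd (Nat.card Y)) (hn : S ≤ 𝒩(Y)) (hk : f.ker ≤ S) (hM : S ≤ M)
    (h : ∀ u ∈ S, f u ≠ 1 → Y ⊓ 𝒞₁(u) ≤ M) (hU : ¬ UI (S.map f)) : Y ≤ M := by
  obtain ⟨_, ⟨a, ha, rfl⟩, _, ⟨b, hb, rfl⟩, h4⟩ := exists_four (hS.map f) hU
  have k : ∀ u ∈ S, f u ≠ 1 → Y.map f ⊓ 𝒞₁(f u) ≤ M.map f := by
    rintro u hu u1 _ ⟨⟨w, hw, rfl⟩, k⟩
    refine mem_map_of_mem f (h u hu u1 ⟨hw, mem_C1.2 ?_⟩)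
    have := eq_of_odd hS (one_mem _) (hk (show w⁻¹ * (u * w * u⁻¹) ∈ f.ker by simp [← mem_C1.1 k]))
      (Nat.coprime_two_right.2 hY) (by
        simpa using Y.mul_mem (Y.inv_mem hw) ((mem_normalizer_iff.1 (hn hu) w).1 hw))
    rw [eq_inv_mul_iff_mul_eq, mul_one, eq_mul_inv_iff_mul_eq] at this
    exact this
  exact (map_le_map_iff.1 (GW.le_of_V4 h4 (hY.of_dvd_nat (card_map_dvd _ _)) (map_N f (hn ha)) (map_N f (hn hb))
    (k a ha (ne1 h4.oa)) (k b hb (ne1 h4.ob))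
    (map_mul f a b ▸ k _ (S.mul_mem ha hb) (map_mul f a b ▸ ne1 h4.oab)))).trans (sup_le le_rfl (hk.trans hM))

theorem ui_gen (h : UI P) (h2 : IsPGroup 2 P) : ∃ a ∈ P, ∃ b ∈ P, ∀ g ∈ P, ∃ k : ℤ, g = a ^ k ∨ g = a ^ k * b := by
  by_cases hc : IsCyclic P
  · obtain ⟨a, ha⟩ := hc.exists_generator
    exact ⟨a, a.2, a, a.2, fun g hg => (ha ⟨g, hg⟩).imp fun k e => Or.inl (congrArg Subtype.val e).symm⟩
  · obtain ⟨a, ha, b, hb, -, -, -, -, -, -, h7⟩ := quat h h2 hc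
    exact ⟨a, ha, b, hb, h7⟩

/-- `S / Z(S)` has a cyclic subgroup of index at most two -/
def CZ (S : Subgroup G) : Prop :=
  ∃ a ∈ S, ∃ b ∈ S, ∀ g ∈ S, ∃ k : ℤ, ∃ c ∈ S ⊓ 𝒞(S), g = a ^ k * c ∨ g = a ^ k * b * c

theorem ZI.odd_le (hZ : ZI G) (hS : IsSylowIn 2 S ⊤) (hY : Odd (Nat.card Y)) (hn : S ≤ 𝒩(Y))
    (h : ¬ CZ S) : Y ≤ 𝒩(S) := by
  by_contra hne
  obtain ⟨C, ⟨h1, h2⟩, h3⟩ := (Set.toFinite {C : Subgroup G | C ≤ S ⊓ 𝒞(S) ∧ ¬ Y ⊓ 𝒞(C) ≤ 𝒩(S)}).exists_maximal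
    ⟨⊥, bot_le, fun k => hne fun y hy => k ⟨hy, fun x hx => by rw [mem_bot.1 hx, one_mul, mul_one]⟩⟩
  have h4 : S ≤ 𝒞(C) := le_centralizer_iff.1 (h1.trans inf_le_right)
  have : (C.subgroupOf 𝒞(C)).Normal := ⟨fun x hx g => by
    rwa [mem_subgroupOf, coe_mul, coe_mul, ← g.2 x hx, coe_inv, mul_inv_cancel_right]⟩
  have k := gen_mod (f := QuotientGroup.mk' (C.subgroupOf 𝒞(C))) (S := S.subgroupOf _) (Y := Y.subgroupOf _)
    (M := (𝒩(S)).subgroupOf _) hS.isPGroup.comap_subtype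
    (hY.of_dvd_nat (card_comap_dvd_of_injective _ _ (subtype_injective _)))
    (fun s hs => H10.mem_NN_of_conj_mem fun y hy => (mem_normalizer_iff.1 (hn hs) y).1 hy)
    (by rw [QuotientGroup.ker_mk']; exact comap_mono (h1.trans inf_le_left)) (comap_mono le_normalizer)
    (fun u hu u1 w hw => ?_) fun k => ?_
  · exact h2 fun y hy => k (show (⟨y, hy.2⟩ : 𝒞(C)) ∈ _ from hy.1)
  · have k1 : w.1 * u = u * w := congrArg Subtype.val (mem_C1.1 hw.2)
    by_cases k2 : u.1 ∈ 𝒞(S)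
    · by_contra k3
      refine u1 ((QuotientGroup.eq_one_iff _).2 (h3 (y := C ⊔ zpowers u.1)
        ⟨sup_le h1 (zpowers_le.2 ⟨hu, k2⟩), fun k => k3 (k ⟨hw.1, ?_⟩)⟩ le_sup_left (mem_sup_right (mem_zpowers _))))
      rw [C_sup_zpowers]
      exact ⟨w.2, mem_C1.2 k1⟩
    · refine hZ.mem_N hS hu ?_ k2
      have := conj_mem_cj (g := w.1) (show u.1 ∈ S from hu)
      rwa [k1, mul_inv_cancel_right] at this
  · obtain ⟨_, ⟨a, ha, rfl⟩, _, ⟨b, hb, rfl⟩, k1⟩ := ui_gen k (hS.isPGroup.comap_subtype.map _)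
    refine h ⟨a, ha, b, hb, fun g hg => ?_⟩
    obtain ⟨i, e | e⟩ := k1 _ (mem_map_of_mem _ (show (⟨g, h4 hg⟩ : 𝒞(C)) ∈ S.subgroupOf _ from hg))
    · rw [← map_zpow] at e
      exact ⟨i, _, h1 ((QuotientGroup.eq (a := a ^ i) (b := ⟨g, h4 hg⟩)).1 e.symm), Or.inl (by simp)⟩
    · rw [← map_zpow, ← map_mul] at e
      exact ⟨i, _, h1 ((QuotientGroup.eq (a := a ^ i * b) (b := ⟨g, h4 hg⟩)).1 e.symm), Or.inr (by simp [mul_assoc])⟩

theorem not_cz {E V K W : Subgroup Γ} {t : Γ} (b : H17.BF E (S.map f) V K W t)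
    (h : ¬ S.map f ≤ 𝒞(S.map f)) : ¬ CZ S := by
  rintro ⟨x, hx, y, hy, k⟩
  obtain ⟨q, hq, q1⟩ := SetLike.not_le_iff_exists.1 fun e : S.map f ≤ V => h (e.trans b.VC)
  obtain ⟨X, -, h1, h2, -⟩ := b.line q hq q1
  let φ : (Bool × Bool) × V → Γ := fun p => cond p.1.1 (f x) 1 * cond p.1.2 (f y) 1 * p.2
  have k1 : ∀ i : ℤ, ∃ v ∈ V, ∃ j : Bool, f x ^ i = cond j (f x) 1 * v := fun i => by
    have k2 : ∀ i : ℤ, f x ^ (2 * i) ∈ V := fun i => by
      rw [zpow_mul, zpow_two]; exact zpow_mem (b.sq _ (mem_map_of_mem f hx)) i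
    obtain ⟨j, rfl | rfl⟩ := Int.even_or_odd' i
    exacts [⟨_, k2 j, false, (one_mul _).symm⟩, ⟨_, k2 j, true, by rw [add_comm, zpow_one_add]; rfl⟩]
  have k2 : (S.map f : Set Γ) ⊆ Set.range φ := by
    rintro _ ⟨g, hg, rfl⟩
    obtain ⟨i, c, hc, e⟩ := k g hg
    obtain ⟨v, hv, j, e1⟩ := k1 i
    have k3 : v * f c ∈ V := mul_mem hv (b.center.le ⟨mem_map_of_mem f hc.1, map_C hc.2⟩)
    rcases e with rfl | rfl
    · exact ⟨((j, false), ⟨_, k3⟩), by simp [φ, e1, mul_assoc]⟩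
    · exact ⟨((j, true), ⟨_, k3⟩), by
        simp only [φ, e1, map_mul, map_zpow, cond_true, mul_assoc]
        rw [← mul_assoc v, b.cen v hv _ (mem_map_of_mem f hy), mul_assoc]⟩
  have k3 : Nat.card (S.map f) ≤ _ := (Set.ncard_le_ncard k2).trans (Finite.card_range_le φ)
  have k4 := card_le_of_le h1
  have : 0 < Nat.card V := Nat.card_pos
  rw [Nat.card_prod, Nat.card_prod, Nat.card_eq_fintype_card (α := Bool), Fintype.card_bool] at k3
  omega

variable {X : Type u} [Group X] [Finite X] {π : G →* X}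

theorem lift_comp (hk : (Nat.card π.ker).Coprime 2) (hf : Function.Surjective π) (hS : IsSylowIn 2 S ⊤)
    (hO : π.ker ≤ 𝒩(S)) {L : Subgroup X} {φ : X →* Γ} (n : NB L φ) (h2 : S.map π ≤ L ⊔ pCore 2 X) :
    ∃ K : Subgroup G, K.Normal ∧ Group.IsPerfect K ∧ pCore 2 G ≤ 𝒞(K) ∧ Odd (pCore 2 G ⊔ K).index ∧
      ∃ g : K →* L.map φ, Function.Surjective g ∧ g.ker = center K := by
  have := n.nrm
  have h3 : S ≤ 𝒞(π.ker) := commutator_eq_bot_iff_le_centralizer.1 (eq_bot_iff.2 ((ker_inf hk hS.isPGroup).le.trans'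
    (le_inf (le_normalizer_iff_commutator_le_left.1 hO) (commutator_le_right _ _))))
  let J := L.comap π ⊓ 𝒞(π.ker)
  have h4 : J.map π = L := (qs_normal n.qs (map_le_iff_le_comap.2 inf_le_left)
    (have := (inferInstance : J.Normal).map π hf; le_normalizer_of_normal)).resolve_right fun k =>
    qs_not_C n.qs (comp_syl (hS.map_top hf) n.comp) (le_trans (by
      rintro _ ⟨⟨s, hs, rfl⟩, k⟩
      exact mem_map_of_mem π ⟨k, h3 hs⟩) k)
  have h5 : ⁅J, J⁆.map π = L := by rw [map_commutator, h4, qs_perfect n.qs]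
  have h6 : ⁅J, J⁆ ≤ J := commutator_le_right _ _
  have h7 : ⁅⁅J, J⁆, ⁅J, J⁆⁆ = ⁅J, J⁆ := le_antisymm (commutator_le_right _ _) (commutator_le.2 fun x hx y hy => by
    obtain ⟨a, ha, e1⟩ := (h4.trans h5.symm).le (mem_map_of_mem π hx)
    obtain ⟨b, hb, e2⟩ := (h4.trans h5.symm).le (mem_map_of_mem π hy)
    have k1 := hy.2 (a⁻¹ * x) (by simp [e1])
    have k2 := (h6 ha).2 (b⁻¹ * y) (by simp [e2])
    have k3 := (h6 ha).2 (a⁻¹ * x) (by simp [e1])
    have k4 := (h6 hb).2 (b⁻¹ * y) (by simp [e2])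
    rw [show ⁅x, y⁆ = ⁅a, b⁆ from ?_]
    · exact commutator_mem_commutator ha hb
    obtain ⟨c, rfl⟩ : ∃ c, x = a * c := ⟨a⁻¹ * x, by simp⟩
    obtain ⟨d, rfl⟩ : ∃ d, y = b * d := ⟨b⁻¹ * y, by simp⟩
    simp only [inv_mul_cancel_left] at k1 k2 k3 k4
    calc ⁅a * c, b * d⁆ = a * (c * (b * d)) * c⁻¹ * a⁻¹ * d⁻¹ * b⁻¹ := by group
      _ = a * b * (d * a⁻¹) * d⁻¹ * b⁻¹ := by rw [k1]; group
      _ = _ := by rw [(Commute.inv_right k2 : _ = _)]; group)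
  generalize hK : ⁅J, J⁆ = K at *
  have : K.Normal := hK ▸ inferInstance
  have h8 : ∀ Y : Subgroup G, Y.map π ≤ 𝒞(L) → ⁅K, Y⁆ ≤ π.ker := fun Y k => by
    rw [← Subgroup.map_eq_bot_iff, map_commutator, h5, Subgroup.commutator_comm]
    exact commutator_eq_bot_iff_le_centralizer.2 k
  have h9 := core_comap hf hS hO
  have h10 : (pCore 2 G).map π = pCore 2 X := by
    rw [← map_comap_eq_self_of_surjective hf (pCore 2 X), h9, Subgroup.map_sup,
      (Subgroup.map_eq_bot_iff π.ker).2 le_rfl, sup_bot_eq]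
  let g : K →* L.map φ := ((φ.comp π).comp K.subtype).codRestrict _
    fun x => mem_map_of_mem φ (h5.le (mem_map_of_mem π x.2))
  have g1 : Function.Surjective g := by
    rintro ⟨_, y, hy, rfl⟩
    obtain ⟨x, hx, rfl⟩ := h5.ge hy
    exact ⟨⟨x, hx⟩, rfl⟩
  refine ⟨K, this, ⟨?_⟩, ?_, ?_, g, g1, le_antisymm (fun x hx => ?_) fun x hx => ?_⟩
  · exact map_injective K.subtype_injective (by
      rw [commutator_def, map_commutator, ← MonoidHom.range_eq_map, range_subtype, h7])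
  · exact le_centralizer_iff.1 (commutator_eq_bot_iff_le_centralizer.1 (eq_bot_iff.2
      ((ker_inf hk (H1.isPGroup_pCore 2)).le.trans' (le_inf (commutator_le_right _ _)
        (h8 _ (h10 ▸ core_le_C n.comp))))))
  · let ψ := QuotientGroup.mk' (pCore 2 G ⊔ K)
    have k1 : S ≤ pCore 2 G ⊔ K := fun s hs => by
      obtain ⟨x, hx, e⟩ := (show L ⊔ pCore 2 X ≤ (pCore 2 G ⊔ K).map π by
        rw [Subgroup.map_sup, h5, h10, sup_comm]) (h2 (mem_map_of_mem π hs))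
      refine (QuotientGroup.eq_one_iff s).1 (eq_of_odd (hS.isPGroup.map ψ) (one_mem _) (mem_map_of_mem ψ hs)
        (hk.coprime_dvd_left (card_map_dvd π.ker ψ)) ⟨x⁻¹ * s, by simp [e], ?_⟩).symm
      rw [map_mul, map_inv, show ψ x = 1 from (QuotientGroup.eq_one_iff x).2 hx]
    refine Nat.odd_iff.2 (Nat.two_dvd_ne_zero.1 fun k => hS.not_dvd_relIndex ?_)
    rw [relIndex_top_right]
    exact k.trans (index_dvd_of_le k1)
  · have k1 := commutator_eq_bot_of_perfect h7 (commutator_eq_bot_iff_le_centralizer.2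
      ((h8 (zpowers x.1) (by
        rw [MonoidHom.map_zpowers, zpowers_le]; exact n.one.1 (congrArg Subtype.val hx))).trans
      (le_centralizer_iff.1 (h6.trans inf_le_right))))
    rw [Subgroup.commutator_comm, commutator_eq_bot_iff_le_centralizer, zpowers_le] at k1
    exact mem_center_iff.2 fun y => Subtype.ext (k1 y y.2)
  · refine Subtype.ext (n.one.2 ?_)
    rw [← h5]
    exact map_C fun y hy => congrArg Subtype.val (mem_center_iff.1 hx ⟨y, hy⟩)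

/-- Sylow intersections are central in some Sylow subgroup -/
def CI (G : Type u) [Group G] : Prop :=
  ∀ S T : Sylow 2 G, S ≠ T → ∃ U : Sylow 2 G,
    (S : Subgroup G) ⊓ (T : Subgroup G) ≤ (center ↥(U : Subgroup G)).map (U : Subgroup G).subtype

theorem map_center_le : (center U).map U.subtype ≤ U ⊓ 𝒞(U) := by
  rintro _ ⟨x, hx, rfl⟩
  exact ⟨x.2, fun y hy => congrArg Subtype.val (mem_center_iff.1 hx ⟨y, hy⟩)⟩

theorem CI.zi (h : CI G) : ZI G := fun S hS g hg => by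
  obtain ⟨T, e⟩ := (hS.cj_top g).exists_sylow_top
  obtain ⟨S, rfl⟩ := hS.exists_sylow_top
  exact (e ▸ (Cfsg.Agent.S3183.result h S).2 T fun k => hg (cj_eq_self_iff.1 (e.symm.trans (by rw [k])))).trans
    (inf_le_left.trans (map_center_le.trans inf_le_right))

theorem CI.map (h : CI G) (hf : Function.Surjective π) : CI X := fun S T hne => by
  obtain ⟨S', T', h1, D, h2, h3⟩ := H7.sylowInt_of_surjective hf hne
  obtain ⟨U, h4⟩ := h S' T' h1
  obtain ⟨V, e⟩ := ((H10.isSylowIn_top U).map_top hf).exists_sylow_top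
  refine ⟨V, h3 ▸ ?_⟩
  rintro _ ⟨x, hx, rfl⟩
  have k := map_center_le (h4 (h2 hx))
  exact ⟨⟨π x, e ▸ mem_map_of_mem π k.1⟩, mem_center_iff.2 fun y => Subtype.ext (map_C (f := π) k.2 y (e.le y.2)), rfl⟩

theorem cp_of_iso {Q Y : Type*} [Group Q] [Group Y] {W : Subgroup G} (e : Q ≃* W) (hW : W = L ⊔ R)
    (h1 : R ≤ 𝒞(R)) (h2 : IsPGroup 2 R) (h3 : Nonempty (L ≃* Y)) (h4 : R ≤ 𝒞(L)) :
    ∃ A B : Subgroup Q, IsMulCommutative A ∧ IsPGroup 2 A ∧ Nonempty (B ≃* Y) ∧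
      (∀ a ∈ A, ∀ l ∈ B, a * l = l * a) ∧ A ⊔ B = ⊤ := by
  subst hW
  have hi : Function.Injective ((L ⊔ R).subtype.comp e.toMonoidHom) := (subtype_injective _).comp e.injective
  have hr : ((L ⊔ R).subtype.comp e.toMonoidHom).range = L ⊔ R := by
    rw [MonoidHom.range_comp, MonoidHom.range_eq_top.2 e.surjective, ← MonoidHom.range_eq_map, range_subtype]
  generalize (L ⊔ R).subtype.comp e.toMonoidHom = ι at hi hr
  have k1 := map_comap_eq_self (hr ▸ le_sup_left : L ≤ ι.range)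
  have k2 := map_comap_eq_self (hr ▸ le_sup_right : R ≤ ι.range)
  refine ⟨R.comap ι, L.comap ι, ⟨⟨fun a b => Subtype.ext (hi ?_)⟩⟩, h2.comap_of_injective ι hi,
    h3.map fun e1 => ((equivMapOfInjective _ ι hi).trans (MulEquiv.subgroupCongr k1)).trans e1,
    fun a ha l hl => hi ?_, map_injective hi ?_⟩
  · simpa using h1 b.2 _ a.2
  · simpa using (h4 ha _ hl).symm
  · rw [Subgroup.map_sup, k1, k2, ← MonoidHom.range_eq_map, hr, sup_comm]

theorem ci_main (hk : (Nat.card π.ker).Coprime 2) (hf : Function.Surjective π) (hO : pPrimeCore 2 X = ⊥)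
    (h : CI G) : (Group.IsSolvable G ∧ PLengthLE 2 1 G) ∨
    (∀ S : Sylow 2 G, IsMulCommutative (S : Subgroup G)) ∨
    (∃ (N M : Subgroup G) (_ : N.Normal) (_ : M.Normal) (_ : (N.subgroupOf M).Normal), N < M ∧
      Odd (Nat.card N) ∧ Odd M.index ∧ ∃ A L : Subgroup (M ⧸ N.subgroupOf M), IsMulCommutative A ∧
        IsPGroup 2 A ∧ Nonempty (L ≃* SL25) ∧ (∀ a ∈ A, ∀ l ∈ L, a * l = l * a) ∧ A ⊔ L = ⊤) ∨
    ∃ M : Subgroup G, M.Normal ∧ Odd M.index ∧ ∃ A L : Subgroup G, IsMulCommutative A ∧ IsPGroup 2 A ∧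
      ((IsInternalDirectProduct A L M ∧
          ((∃ (m : ℕ) (F : Type) (_ : Field F) (_ : Fintype F), 1 ≤ m ∧ Fintype.card F = 2 ^ (2 * m + 1) ∧
              Nonempty (L ≃* Lie.Sz F (2 ^ (m + 1)))) ∨
            (∃ (n : ℕ) (F : Type) (_ : Field F) (_ : Fintype F), 2 ≤ n ∧ Fintype.card F = 4 ^ n ∧
              (Nonempty (L ≃* PSU 3 F (2 ^ n)) ∨ Nonempty (L ≃* SU 3 F (2 ^ n)))))) ∨
        (A ≤ M ∧ L ≤ M ∧ (∀ a ∈ A, ∀ l ∈ L, a * l = l * a) ∧ A ⊔ L = M ∧ Group.IsPerfect L ∧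
          center L ≠ ⊥ ∧ ∃ (F : Type) (_ : Field F) (_ : Fintype F), Fintype.card F = 8 ∧
            Nonempty (L ⧸ center L ≃* Lie.Sz F 4))) := by
  obtain ⟨S, hS⟩ := H10.exists_isSylowIn 2 (⊤ : Subgroup G)
  have hS' := hS.map_top hf
  have hZ := (h.map hf).zi
  by_cases hg : ∀ g, g ∈ 𝒩(S.map π)
  · have : (S.map π).Normal := normal_iff_top_le_normalizer.2 fun g _ => hg g
    have k : (S.map π).index.Coprime 2 := ((Nat.Prime.coprime_iff_not_dvd Nat.prime_two).2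
      (relIndex_top_right (S.map π) ▸ hS'.not_dvd_relIndex)).symm
    have k1 := H1.pLengthLE_of_coprime_ker hf hk
      (H1.pLengthLE_of_normal_coprime_index _ k (H1.pLengthLE_one_of_isPGroup hS'.isPGroup))
    have := isSolvable_of_isPGroup hS'.isPGroup
    have := isSolvable_of_coprime_two (K := (⊤ : Subgroup (X ⧸ S.map π))) (by rwa [card_top])
    have : Group.IsSolvable (X ⧸ S.map π) := isSolvable_of_equiv topEquiv
    have := Group.isSolvable_of_ker_le_range (S.map π).subtype (QuotientGroup.mk' (S.map π)) (by simp)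
    have := isSolvable_of_coprime_two hk
    exact Or.inl ⟨Group.isSolvable_of_ker_le_range π.ker.subtype π (by simp), k1⟩
  push Not at hg
  obtain ⟨g, hg⟩ := hg
  by_cases hc : S.map π ≤ 𝒞(S.map π)
  · refine Or.inr (Or.inl fun T => ⟨⟨fun a b => Subtype.ext (ker_inj hk T.2 (a * b).2 (b * a).2 ?_)⟩⟩)
    simpa using H26.J.comm_of_syl hS' hc (T.2.map π) (mem_map_of_mem π a.2) (mem_map_of_mem π b.2)
  obtain ⟨L, Γ, _, _, φ, n, h1⟩ := hZ.main hO hS' hg hc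
  have := n.nrm
  have := n.normal
  have h2 : pCore 2 X ≤ 𝒞(pCore 2 X) := (core_le hS').trans (hZ.core hS' hg)
  have h3 := n.ztri hS' hZ hc
  refine Or.inr (Or.inr (h3.imp (fun h3 => ?_) fun h3 => ?_))
  · obtain ⟨e⟩ := quot_iso π (M := (L ⊔ pCore 2 X).comap π) (N := π.ker) fun x _ => Iff.rfl
    refine ⟨π.ker, (L ⊔ pCore 2 X).comap π, inferInstance, inferInstance, inferInstance,
      (ker_le_comap π _).lt_of_ne fun k => n.ne ?_, Nat.coprime_two_right.1 hk, ?_,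
      cp_of_iso e (map_comap_eq_self_of_surjective hf _) h2 (H1.isPGroup_pCore 2) h3 (core_le_C n.comp)⟩
    · rw [eq_bot_iff.2 (le_sup_left.trans (comap_injective hf (k.symm.trans (MonoidHom.comap_bot π).symm)).le :
        L ≤ ⊥), Subgroup.map_bot]
    · rw [index_comap_of_surjective _ hf]
      refine Nat.odd_iff.2 (Nat.two_dvd_ne_zero.1 fun k => hS'.not_dvd_relIndex ?_)
      rw [relIndex_top_right]
      exact k.trans (index_dvd_of_le h1)
  have hQ := (n.syl hS').inf_normal (N := L.map φ) le_top le_normalizer_of_normal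
  have h4 : (S.map π).map φ ⊓ L.map φ = S.map (φ.comp π) := by
    rw [← map_map, inf_eq_left, map_le_iff_le_comap]
    exact h1.trans (sup_le (le_comap_map φ L) ((core_le_C n.comp).trans (n.ker.ge.trans (ker_le_comap φ _))))
  rw [h4] at hQ
  obtain ⟨M, hM⟩ := n.zse hS' hZ hc
  have := n.simple
  obtain ⟨V, K, W, t, b⟩ := H17.exists_bf hM n.nab (hall_of_syl hQ)
  have h5 : ¬ S.map (φ.comp π) ≤ 𝒞(S.map (φ.comp π)) := fun k => by
    have k1 := fun P hP x y => H26.J.comm_of_syl (H10.isSylowIn_subgroupOf_top hQ)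
      (fun x hx y hy => Subtype.ext (k hx y hy)) (P := P) hP (x := x) (y := y)
    rcases h3 with h3 | h3
    · obtain ⟨P, hP, x, hx, y, hy, e⟩ := H26.J.sz_not_comm h3
      exact e (k1 P hP x y hx hy)
    · obtain ⟨P, hP, x, hx, y, hy, e1, e2⟩ := h3.real
      rw [k1 P hP y x hy hx, mul_inv_cancel_right] at e1
      exact e2 (mul_eq_one_iff_eq_inv.2 e1)
  obtain ⟨K, k1, k2, k3, k4, γ, k5, k6⟩ := lift_comp hk hf hS (h.zi.odd_le hS (Nat.coprime_two_right.1 hk)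
    le_normalizer_of_normal (not_cz b h5)) n h1
  obtain ⟨g, rfl⟩ := hf g
  have h6 := (core_le hS).trans (h.zi.core hS fun k => hg (map_N π k))
  refine ⟨pCore 2 G ⊔ K, inferInstance, k4, pCore 2 G, K, ⟨⟨fun a b => Subtype.ext (h6 b.2 a a.2)⟩⟩,
    H1.isPGroup_pCore 2, ?_⟩
  have h7 : Odd (Nat.card (center K)) → IsInternalDirectProduct (pCore 2 G) K (pCore 2 G ⊔ K) := fun k =>
    ⟨le_sup_left, le_sup_right, fun a ha l hl => (k3 ha l hl).symm, eq_bot_iff.2 fun x hx =>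
      (eq_of_odd (H1.isPGroup_pCore 2) (one_mem _) hx.1 (K := (center K).map K.subtype)
        ((Nat.coprime_two_right.2 k).coprime_dvd_left (card_map_dvd _ _))
        ⟨⟨x, hx.2⟩, mem_center_iff.2 fun y => Subtype.ext (k3 hx.1 y y.2), by simp⟩).symm, rfl⟩
  have h8 : center K = ⊥ → Odd (Nat.card (center K)) ∧ Nonempty (K ≃* L.map φ) := fun k =>
    ⟨by rw [k, card_bot]; exact odd_one, ⟨MulEquiv.ofBijective γ ⟨(γ.ker_eq_bot_iff).1 (k6.trans k), k5⟩⟩⟩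
  have h9 : ∀ {Y : Type} [Group Y] (e : L.map φ ≃* Y), (e.toMonoidHom.comp γ).ker = center K := fun e => by
    rw [← k6, ← MonoidHom.comap_ker, (MonoidHom.ker_eq_bot_iff _).2 e.injective, MonoidHom.comap_bot]
  rcases h3 with ⟨F, i, j, m, m1, m2, ⟨e⟩⟩ | ⟨F, i, j, m, m1, m2, ⟨e⟩⟩
  · by_cases z : center K = ⊥
    · exact Or.inl ⟨h7 (h8 z).1, Or.inl ⟨m, F, i, j, m1, m2, (h8 z).2.map (·.trans e)⟩⟩
    obtain rfl | m3 := m1.eq_or_lt
    · exact Or.inr ⟨le_sup_left, le_sup_right, fun a ha l hl => (k3 ha l hl).symm, rfl, k2, z, F, i, j, m2,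
        ⟨((QuotientGroup.quotientMulEquivOfEq k6.symm).trans
          (QuotientGroup.quotientKerEquivOfSurjective γ k5)).trans e⟩⟩
    · exact absurd ((h9 e).symm.trans (H8.ker_eq_bot_of_hasSchur_one (Cfsg.Agent.S2111.result m3 m2)
        ⟨e.surjective.comp k5, (h9 e).le, le_top.trans k2.1.ge⟩)) z
  haveI : CharP F 2 := H26.charTwo_of_card (n := m * 2) (by rw [m2, pow_mul])
  have h10 := H6.SUM.su3_cover m2 (Nat.pow_lt_pow_right one_lt_two m1).ne' k2 _ (e.surjective.comp k5) (h9 e).le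
  refine Or.inl ⟨h7 ?_, Or.inr ⟨m, F, i, j, m1, by rw [m2, ← pow_mul, mul_comm, pow_mul]; rfl, h10⟩⟩
  rcases h10 with ⟨⟨e1⟩⟩ | ⟨⟨e1⟩⟩
  · have k := Nat.card_congr (e1.trans e.symm).toEquiv
    exact (h8 (k6 ▸ γ.ker_eq_bot_iff.2 (k5.bijective_of_nat_card_le k.le).1)).1
  · rw [Nat.card_congr (centerCongr e1).toEquiv, H22.card_center_SU m2 3 (by norm_num)]
    exact Odd.of_dvd_nat (by decide : Odd 3) (Nat.gcd_dvd_left _ _)

end H6.SI
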