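import Cfsg.Agent.H17.Sz14

/-! The rank one structure of `SU₃(q)`, `q` even. -/

set_option autoImplicit false
set_option linter.unusedSectionVars false
set_option linter.unusedVariables false

open Cfsg Subgroup Matrix
open scoped MatrixGroups

namespace H6.SUM

attribute [-simp] H23.conj_apply

variable {E : Type*} [Field E] [Fintype E] [CharP E 2] {q : ℕ} {hE : Fintype.card E = q ^ 2} {α : E}

local notation "σ" => H23.conj hE

/-- generators and relations of rank one -/
structure UM (hE : Fintype.card E = q ^ 2) {G : Type*} [Group G] (x : UG hE →* G) (h : Eˣ →* G) (t : G) :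
    Prop where
  tt : t * t = 1
  hx : ∀ (l : Eˣ) (u v : UG hE), v.a = H23.conj hE l ^ 2 / l * u.a → v.s = H23.conj hE l * l * u.s →
    h l * x u * (h l)⁻¹ = x v
  th : ∀ l m : Eˣ, H23.conj hE l * m = 1 → t * h l * t = h m
  rel : ∀ (u v w : UG hE) (l : Eˣ), H23.conj hE l * u.s = 1 → v.a * u.s = u.a → v.s * u.s = 1 →
    w.a * H23.conj hE u.s = u.a → w.s * u.s = 1 → t * x u * t = x v * (h l * t) * x w
  one : ∀ u l, x u * h l = 1 → u = 1 ∧ l = 1
  big : ∀ u v l, t * x u * t = x v * h l → u = 1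
  ne : ∀ u v l, x u * (h l * t) * x v ≠ 1
  gen : closure (x.range ∪ {t} : Set G) = ⊤
  idx : Odd x.range.index

def pM (α : E) : Matrix (Fin 3) (Fin 3) E := !![1, 0, α; 1, 0, α + 1; 0, 1, 0]
def pI (α : E) : Matrix (Fin 3) (Fin 3) E := !![α + 1, α, 0; 0, 0, 1; 1, 1, 0]

theorem pM_pI (α : E) : pM α * pI α = 1 := by
  have t0 : (2 : E) = 0 := CharTwo.two_eq_zero
  ext i j
  fin_cases i <;> fin_cases j <;> simp [pM, pI, Matrix.mul_apply, Fin.sum_univ_three] <;> grind

theorem pI_pM (α : E) : pI α * pM α = 1 := mul_eq_one_comm.1 (pM_pI α)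

/-- matrices in the hyperbolic basis -/
def cm (α : E) : SU 3 E q →* Matrix (Fin 3) (Fin 3) E where
  toFun g := pI α * g.1.1 * pM α
  map_one' := by simp [pI_pM]
  map_mul' g h := by
    change pI α * (g.1.1 * h.1.1) * pM α = _
    simp only [Matrix.mul_assoc]
    rw [← Matrix.mul_assoc (pM α), pM_pI, Matrix.one_mul]

theorem cm_inj (α : E) : Function.Injective (cm (q := q) α) := fun g h e => Subtype.ext (Subtype.ext (by
  have : pM α * (pI α * g.1.1 * pM α) * pI α = pM α * (pI α * h.1.1 * pM α) * pI α :=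
    congrArg (pM α * · * pI α) e
  simpa only [Matrix.mul_assoc, pM_pI, Matrix.mul_one, ← Matrix.mul_assoc (pM α) (pI α), Matrix.one_mul]
    using this))

theorem cm_x (u : UG hE) : cm α (UG.toSU u) = !![1, σ u.a, u.s; 0, 1, u.a; 0, 0, 1] := by
  have t0 : (2 : E) = 0 := CharTwo.two_eq_zero
  change pI α * u.mat * pM α = _
  ext i j
  fin_cases i <;> fin_cases j <;> simp [pM, pI, UG.mat, Matrix.mul_apply, Fin.sum_univ_three] <;> grind

variable (hα : H23.conj hE α = α + 1)
include hα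

theorem cm_t : cm α (H17.tS hα) = !![0, 0, 1; 0, 1, 0; 1, 0, 0] := by
  have t0 : (2 : E) = 0 := CharTwo.two_eq_zero
  change pI α * (H17.tS hα).1.1 * pM α = _
  ext i j
  fin_cases i <;> fin_cases j <;> simp [pM, pI, H17.tS, Matrix.mul_apply, Fin.sum_univ_three] <;> grind

/-- the torus -/
def hS (l : Eˣ) : SU 3 E q :=
  ⟨⟨pM α * !![l.1, 0, 0; 0, σ l / l, 0; 0, 0, (σ l)⁻¹] * pI α, by
    have : (pM α).det * (pI α).det = 1 := by rw [← det_mul, pM_pI, det_one]
    rw [det_mul, det_mul, mul_right_comm, this]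
    have h1 := l.ne_zero
    have h2 : σ l ≠ 0 := by simp
    simp [det_fin_three]
    field_simp⟩, (H13.mem_SU_iff_mat hE).2 (by
    have t0 : (2 : E) = 0 := CharTwo.two_eq_zero
    have h1 := l.ne_zero
    have h2 : σ l ≠ 0 := by simp
    ext i j
    fin_cases i <;> fin_cases j <;>
      simp [pM, pI, Matrix.mul_apply, Fin.sum_univ_three, hα, H23.conj_conj] <;> field_simp <;> grind)⟩

theorem cm_hS (l : Eˣ) : cm α (hS hα l) = !![l.1, 0, 0; 0, σ l / l, 0; 0, 0, (σ l)⁻¹] := by
  change pI α * (pM α * _ * pI α) * pM α = _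
  simp only [Matrix.mul_assoc, pI_pM, Matrix.mul_one, ← Matrix.mul_assoc (pI α) (pM α), Matrix.one_mul]

def hH : Eˣ →* SU 3 E q := MonoidHom.mk' (hS hα) fun l m => cm_inj α (by
  rw [map_mul, cm_hS, cm_hS, cm_hS]
  ext i j
  fin_cases i <;> fin_cases j <;> simp [Matrix.mul_apply, Fin.sum_univ_three, mul_div_mul_comm, mul_comm])

theorem cm_h (l : Eˣ) : cm α (hH hα l) = !![l.1, 0, 0; 0, σ l / l, 0; 0, 0, (σ l)⁻¹] := cm_hS hα l

theorem um (hq : q ≠ 2) : UM hE (UG.toSU (hF := hE)) (hH hα) (H17.tS hα) := by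
  have t0 : (2 : E) = 0 := CharTwo.two_eq_zero
  refine ⟨cm_inj α ?_, fun l u v h1 h2 => mul_inv_eq_iff_eq_mul.2 (cm_inj α ?_), fun l m h1 => cm_inj α ?_,
    fun u v w l h1 h2 h3 h4 h5 => cm_inj α ?_, fun u l e => ?_, fun u v l e => ?_, fun u v l e => ?_,
    H17.closure_SU hα hq, ?_⟩
  · rw [map_mul, cm_t, map_one]
    ext i j
    fin_cases i <;> fin_cases j <;> simp [Matrix.mul_apply, Fin.sum_univ_three]
  · have k1 := l.ne_zero
    have k2 : σ l ≠ 0 := by simp
    simp only [map_mul, cm_h, cm_x, h1, h2]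
    ext i j
    fin_cases i <;> fin_cases j <;> simp [Matrix.mul_apply, Fin.sum_univ_three, H23.conj_conj] <;> field_simp
  · have k1 := l.ne_zero
    have k2 : σ l ≠ 0 := by simp
    have k3 : (m : E) = (σ l)⁻¹ := eq_inv_of_mul_eq_one_right h1
    simp only [map_mul, cm_h, cm_t, k3]
    ext i j
    fin_cases i <;> fin_cases j <;> simp [Matrix.mul_apply, Fin.sum_univ_three, H23.conj_conj]
    field_simp
  · have k1 : u.s ≠ 0 := right_ne_zero_of_mul_eq_one h1
    have k2 : σ u.s ≠ 0 := by simpa using k1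
    have e1 : σ l = u.s⁻¹ := eq_inv_of_mul_eq_one_left h1
    have e2 : (l : E) = (σ u.s)⁻¹ := by rw [← H23.conj_conj hE l, e1, map_inv₀]
    have e3 : v.a = u.a / u.s := eq_div_of_mul_eq k1 h2
    have e4 : v.s = u.s⁻¹ := eq_inv_of_mul_eq_one_left h3
    have e5 : w.a = u.a / σ u.s := eq_div_of_mul_eq k2 h4
    have e6 : w.s = u.s⁻¹ := eq_inv_of_mul_eq_one_left h5
    have e7 := u.tr
    simp only [map_mul, cm_h, cm_t, cm_x, e2, e3, e4, e5, e6]
    ext i j
    fin_cases i <;> fin_cases j <;> simp [Matrix.mul_apply, Fin.sum_univ_three, H23.conj_conj] <;>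
      field_simp <;> grind
  · have e1 := congrArg (cm α) e
    rw [map_mul, cm_h, cm_x, map_one] at e1
    have a1 := congrFun (congrFun e1 0) 0
    have a2 := congrFun (congrFun e1 0) 2
    have a3 := congrFun (congrFun e1 1) 2
    simp [Matrix.mul_apply, Fin.sum_univ_three] at a1 a2 a3
    exact ⟨UG.ext a3 a2, a1⟩
  · have e1 := congrArg (cm α) e
    simp only [map_mul, cm_h, cm_x, cm_t] at e1
    have a1 := congrFun (congrFun e1 1) 0
    have a2 := congrFun (congrFun e1 2) 0
    simp [Matrix.mul_apply, Fin.sum_univ_three] at a1 a2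
    exact UG.ext a1 a2
  · have e1 := congrArg (cm α) e
    simp only [map_mul, cm_h, cm_x, cm_t, map_one] at e1
    have a1 := congrFun (congrFun e1 2) 0
    simp [Matrix.mul_apply, Fin.sum_univ_three] at a1
  · have hq := H23.two_le_of_card_eq_sq hE
    have he : Even q := by
      obtain ⟨n, -, h⟩ := FiniteField.card E 2
      exact (Nat.even_pow.1 (hE ▸ h ▸ Nat.even_pow.2 ⟨even_two, n.ne_zero⟩)).1
    have h4 := H22.card_SU hE 3 (by norm_num)
    rw [← (UG.toSU (hF := hE)).range.card_mul_index,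
      ← Nat.card_congr (MonoidHom.ofInjective UG.toSU_injective).toEquiv, UG.card] at h4
    simp only [Finset.prod_range_succ] at h4
    norm_num at h4
    have h7 : (UG.toSU (hF := hE)).range.index = (q ^ 2 - 1) * (q ^ 3 + 1) :=
      Nat.eq_of_mul_eq_mul_left (show 0 < (q + 1) * q ^ 3 by positivity) (by linear_combination h4)
    rw [h7]
    exact (Nat.Even.sub_odd (Nat.one_le_pow _ _ (by omega)) (he.pow_of_ne_zero two_ne_zero) odd_one).mul
      (he.pow_of_ne_zero three_ne_zero).add_one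

end H6.SUM
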