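import Cfsg.Agent.H9.Sh7

/-! Degree of an annihilating polynomial of a cyclic group acting on a Heisenberg group. -/

set_option autoImplicit false
set_option linter.unusedSectionVars false

namespace H6.Tu
open Module H2 Subgroup H15 Cfsg H9 Polynomial
open scoped commutatorElement

universe v

variable {F : Type*} [Field F] [IsAlgClosed F]

theorem centE_sub {W : Type*} [AddCommGroup W] [Module F W] (N : End F W) (c : F) :
    centE (N - c • 1) = centE N := by
  ext f
  change f * (N - c • 1) = (N - c • 1) * f ↔ f * N = N * f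
  rw [mul_sub, sub_mul, mul_smul_comm, smul_mul_assoc, mul_one, one_mul, sub_left_inj]

theorem aeval_restrict {W : Type*} [AddCommGroup W] [Module F W] {N : End F W} {U : Submodule F W}
    (h : ∀ u ∈ U, N u ∈ U) (f : F[X]) (u : U) : (aeval (N.restrict h) f u : W) = aeval N f u := by
  induction f using Polynomial.induction_on' with
  | add a b ha hb => simp [ha, hb]
  | monomial n a =>
    simp only [aeval_monomial, Algebra.algebraMap_eq_smul_one, smul_mul_assoc, one_mul, LinearMap.smul_apply,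
      Submodule.coe_smul]
    rw [Module.End.pow_restrict]; rfl

theorem sq_le_poly (r : ℕ) : ∀ (W : Type v) [AddCommGroup W] [Module F W] [FiniteDimensional F W] (N : End F W)
    (f : F[X]), f ≠ 0 → f.natDegree = r → aeval N f = 0 → finrank F W ^ 2 ≤ r * finrank F (centE N) := by
  induction r with
  | zero =>
    intro W _ _ _ N f f0 hf h
    rw [eq_C_of_natDegree_eq_zero hf] at h f0
    have : Subsingleton W := ⟨fun a b => by
      have k : ∀ a : W, a = 0 := fun a => by
        have := LinearMap.congr_fun h a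
        simp only [aeval_C, Algebra.algebraMap_eq_smul_one, LinearMap.smul_apply, End.one_apply,
          LinearMap.zero_apply, smul_eq_zero] at this
        exact this.resolve_left fun e => f0 (by rw [e, C_0])
      rw [k a, k b]⟩
    simp [finrank_zero_of_subsingleton]
  | succ r ih =>
    intro W _ _ _ N f f0 hf h
    obtain ⟨c, hc⟩ := IsAlgClosed.exists_root f (degree_ne_of_natDegree_ne (n := 0) (by omega))
    obtain ⟨g, rfl⟩ := dvd_iff_isRoot.2 hc
    have g0 : g ≠ 0 := right_ne_zero_of_mul f0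
    rw [natDegree_mul (X_sub_C_ne_zero c) g0, natDegree_X_sub_C] at hf
    have hM : ∀ u ∈ LinearMap.range (N - c • 1), (N - c • 1 : End F W) u ∈ LinearMap.range (N - c • 1) :=
      fun u _ => ⟨u, rfl⟩
    have hN : ∀ u ∈ LinearMap.range (N - c • 1), N u ∈ LinearMap.range (N - c • 1) := by
      rintro _ ⟨u, rfl⟩; exact ⟨N u, by simp⟩
    have h1 := ih (LinearMap.range (N - c • 1)) (N.restrict hN) g g0 (by omega) (by
      ext ⟨_, u, rfl⟩
      have := LinearMap.congr_fun h u
      rw [mul_comm, map_mul, End.mul_apply] at this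
      rw [aeval_restrict]
      simpa [Algebra.algebraMap_eq_smul_one] using this)
    have h2 := centE_step _ hM
    rw [centE_sub, show (N - c • 1 : End F W).restrict hM = N.restrict hN - c • 1 by ext; simp, centE_sub] at h2
    have h3 := (N - c • 1 : End F W).finrank_range_add_finrank_ker
    generalize finrank F (centE (N.restrict hN)) = c' at *
    generalize finrank F (LinearMap.range (N - c • 1 : End F W)) = b at *
    generalize finrank F (LinearMap.ker (N - c • 1 : End F W)) = a at *
    generalize finrank F (centE N) = c at *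
    rw [← h3]
    rcases Nat.eq_zero_or_pos r with rfl | hr
    · have : b = 0 := by simpa using h1
      subst this; simp; omega
    · refine Nat.le_of_mul_le_mul_left ?_ hr
      zify at *
      nlinarith [sq_nonneg ((r : ℤ) * a - b), mul_le_mul_of_nonneg_left h2
        (show (0 : ℤ) ≤ r * (r + 1) by positivity), mul_le_mul_of_nonneg_left h1
        (show (0 : ℤ) ≤ r + 1 by positivity)]

variable {W : Type*} [AddCommGroup W] [Module F W] [FiniteDimensional F W] {P H : Type*} [Group P] [Group H]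
  [Finite P] [Finite H] [Nontrivial W]

theorem poly_simp {σ : P →* End F W} {Z : Subgroup P} (h : Heis σ Z) (hs : IsSimp σ)
    (τ : H →* End F W) (φ : H →* MulAut P) (hc : ∀ r k, τ r * σ k = σ (φ r k) * τ r)
    (hP : (Nat.card P : F) ≠ 0) (hZ : Z ≠ ⊤) {g : H} (hg : ∀ a, a ∈ Submonoid.powers g)
    (hfree : ∀ l : P →* Fˣ, (∀ z ∈ Z, l z = 1) → l ≠ 1 → ∀ r, r ≠ 1 →
      l.comp (φ r).toMonoidHom ≠ l) {f : F[X]} (f0 : f ≠ 0) (hr : aeval (τ g) f = 0)
    (hlt : f.natDegree < Nat.card H) : Nat.card H - 1 ≤ f.natDegree := by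
  obtain ⟨m, h1, h2⟩ := wt_free_le (endRep σ σ) (endRep τ τ) φ (endRep_compat σ τ φ hc) hP
    (fix_eq_top_iff.2 (fun z hz => h.endRep_eq_one (h.comm hz)))
    (fun l hl hl0 => hfree l (fun z hz => eq_one_of_wsp hl0 (h.endRep_eq_one hz)) hl)
  have h3 : finrank F (fix (endRep σ σ) ⊤) = 1 := by
    rw [← wsp_one]; exact h.finrank_wsp hs hP 1 fun _ _ => rfl
  rw [Module.finrank_linearMap, h3, ← sq] at h1
  rw [h3] at h2
  have h4 : centE (τ g) ≤ fix (endRep τ τ) ⊤ := fun f hf a _ => by
    obtain ⟨n, rfl⟩ := hg a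
    have e2 : τ (g ^ n) * f = f * τ (g ^ n) := by
      rw [map_pow]; exact ((show Commute f (τ g) from hf).pow_right n).symm
    show τ (g ^ n) * f * τ (g ^ n)⁻¹ = f
    rw [e2, mul_assoc, rep_mul_inv, mul_one]
  have h5 := (Submodule.finrank_mono h4).trans h2
  obtain ⟨a, b⟩ := arith_hh (fun hq => hZ (by
    rw [← Subgroup.index_eq_one, ← h.finrank_sq hs hP, hq, one_pow])) h1 h5
    (sq_le_poly _ W _ f f0 rfl hr) (sq_le_poly _ W _ _ (τ g).charpoly_monic.ne_zero (τ g).charpoly_natDegree
      (τ g).aeval_self_charpoly) hlt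
  omega

theorem poly_deg {σ : P →* End F W} {Z : Subgroup P} (h : Heis σ Z) (hP : (Nat.card P : F) ≠ 0) (hZ : Z ≠ ⊤)
    {g : End F W} {α : MulAut P} {n : ℕ} (hn : n ≠ 0) (hg : g ^ n = 1) (hα : α ^ n = 1)
    (hc : ∀ k, g * σ k = σ (α k) * g)
    (hfree : ∀ l : P →* Fˣ, (∀ z ∈ Z, l z = 1) → l ≠ 1 → ∀ i, ¬ n ∣ i → l.comp (α ^ i).toMonoidHom ≠ l)
    {f : F[X]} (f0 : f ≠ 0) (hr : aeval g f = 0) (hlt : f.natDegree < n) : n - 1 ≤ f.natDegree := by
  obtain ⟨m, rfl⟩ := Nat.exists_eq_succ_of_ne_zero hn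
  obtain ⟨U, hU, hU0, hs, hgU⟩ := h.exists_inv_simp hP α⁻¹.toMonoidHom (g := g) (g' := g ^ m)
    (by rw [← pow_succ, hg]) (fun x => by rw [hc]; simp)
  have : Nontrivial U := Submodule.nontrivial_iff_ne_bot.2 hU0
  have hg' : g.restrict hgU ^ (m + 1) = 1 := by
    rw [Module.End.pow_restrict]; ext u; simp [hg]
  let γ : Multiplicative (ZMod (m + 1)) := Multiplicative.ofAdd 1
  have hγ : ∀ a, a ∈ zpowers γ := fun a => ⟨((Multiplicative.toAdd a).val : ℕ), by
    simp only [γ, zpow_natCast, ← ofAdd_nsmul, nsmul_eq_mul, mul_one, ZMod.natCast_zmod_val, ofAdd_toAdd]⟩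
  have oγ : orderOf γ = m + 1 := by rw [orderOf_eq_card_of_forall_mem_zpowers hγ]; simp
  let u : (End F U)ˣ := ⟨g.restrict hgU, g.restrict hgU ^ m, by rw [← pow_succ', hg'], by rw [← pow_succ, hg']⟩
  let τ := (Units.coeHom _).comp (monoidHomOfForallMemZpowers hγ (g' := u)
    (by rw [oγ, orderOf_dvd_iff_pow_eq_one]; exact Units.ext hg'))
  let φ := monoidHomOfForallMemZpowers hγ (g' := α) (by rw [oγ, orderOf_dvd_iff_pow_eq_one, hα])
  have τγ : τ γ = g.restrict hgU := by simp [τ, u]
  have φγ : φ γ = α := by simp [φ]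
  have hγ' : ∀ a, a ∈ Submonoid.powers γ := fun a => mem_powers_iff_mem_zpowers.2 (hγ a)
  have := poly_simp (h.res U hU hU0) hs τ φ (fun r k => by
      obtain ⟨i, rfl⟩ := hγ' r
      simp only [map_pow, τγ, φγ]
      induction i generalizing k with
      | zero => simp
      | succ i ih =>
        rw [pow_succ, mul_assoc, show g.restrict hgU * resRep σ U hU k = resRep σ U hU (α k) * g.restrict hgU by
          ext u; exact LinearMap.congr_fun (hc k) u, ← mul_assoc, ih, pow_succ α, MulAut.mul_apply, mul_assoc])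
    hP hZ hγ' (fun l h1 h2 r hr => by
      obtain ⟨i, rfl⟩ := hγ' r
      simp only [map_pow, φγ]
      exact hfree l h1 h2 i fun e => hr (orderOf_dvd_iff_pow_eq_one.1 (by rw [oγ]; exact e))) f0
    (by ext u; rw [τγ, aeval_restrict, hr]; rfl) (by simpa using hlt)
  simpa using this

end H6.Tu
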