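import Cfsg.Agent.H6.Tu1
import Cfsg.Agent.H21.HH10

/-! A cyclic group of order `r * s ^ k` acting on a group of symplectic type. -/

set_option autoImplicit false
set_option linter.unusedSectionVars false

namespace H6.Tu
open Module H2 Subgroup H15 Cfsg H9 Polynomial
open scoped commutatorElement

variable {F W Y : Type*} [Field F] [IsAlgClosed F] [AddCommGroup W] [Module F W] [FiniteDimensional F W]
  [Group Y] [Finite Y] {ρ : Y →* End F W}

theorem hh_wrap {p r : ℕ} (hp : p.Prime) [CharP F p] (hr : r.Prime) (rF : (r : F) ≠ 0) {x : Y}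
    (hx : orderOf x = r) {H : Subgroup Y} (hxH : x ∈ 𝒩(H)) (hH : ¬ r ∣ Nat.card H) {U : Submodule F W}
    (hHU : H ≤ stabOn ρ U) (hxU : x ∈ stabOn ρ U) (h0 : U ⊓ fix ρ (zpowers x) = ⊥) :
    ∃ K : Subgroup Y, H ≤ 𝒩(K) ∧ (∀ y ∈ K, (orderOf y).Coprime p → y ∈ kerOn ρ U) ∧
      ∀ y ∈ ⁅H, zpowers x⁆, (orderOf y).Coprime 2 → y ∈ K := by
  set X := H ⊔ zpowers x with hX
  have hXU : X ≤ stabOn ρ U := sup_le hHU (zpowers_le.2 hxU)
  have hR : Nat.card ((zpowers x).subgroupOf X) = r := by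
    rw [Nat.card_congr (subgroupOfEquivOfLe le_sup_right).toEquiv, Nat.card_zpowers, hx]
  haveI : (H.subgroupOf X).Normal := normal_subgroupOf (sup_le (le_norm_self H) (zpowers_le.2 hxH))
  have key : ∀ (y : Y) (M : Subgroup Y) (l j : ℕ), (orderOf y).Coprime l → y ^ l ^ j ∈ M → y ∈ M := by
    intro y M l j h1 h2
    obtain ⟨m, hm⟩ := exists_pow_eq_self_of_coprime (h1.symm.pow_left j)
    rw [← hm]; exact pow_mem h2 m
  obtain ⟨K, n1, a1, c1⟩ := H21.HH.main hp rF _ X U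
    (resRep (ρ.comp X.subtype) U fun k _ hu => stabOn_apply (hXU k.2) hu) (H.subgroupOf X)
    ((zpowers x).subgroupOf X) rfl
    (H21.HH.bs_of (by rw [← subgroupOf_sup le_sup_left le_sup_right, subgroupOf_self]) hr hR
      (by rwa [Nat.card_congr (subgroupOfEquivOfLe le_sup_left).toEquiv])) hR
    (eq_bot_iff.2 fun u hu => Subtype.ext ((Submodule.mem_bot F).1 (h0 ▸ ⟨u.2, fun s hs =>
      congrArg Subtype.val (hu ⟨s, mem_sup_right hs⟩ hs)⟩)))
  refine ⟨K.map X.subtype, ?_, ?_, fun y hy ho => ?_⟩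
  · refine le_sup_left.trans (?_ : X ≤ _)
    have := (map_le_norm_iff X.subtype_injective (A := ⊤) (H := K)).2 le_normalizer_of_normal
    rwa [map_top_subtype] at this
  · rintro _ ⟨y, hy, rfl⟩ ho
    obtain ⟨j, hj⟩ := a1 y hy
    refine key _ _ p j ho fun w hw => ?_
    exact congrArg Subtype.val (LinearMap.congr_fun (MonoidHom.mem_ker.1 hj) ⟨w, hw⟩)
  · have hy' : y ∈ X := commutator_le_of_le le_sup_left le_sup_right hy
    obtain ⟨j, hj⟩ := c1 ⟨y, hy'⟩ (by rw [← subgroupOf_comm le_sup_left le_sup_right]; exact hy)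
    exact key _ _ 2 j ho ⟨_, hj, rfl⟩

theorem aeval_smul_comp {A : Type*} [Ring A] [Algebra F A] (g : A) {c : F} (hc : c ≠ 0) (f : F[X]) :
    aeval (c • g) (f.comp (C c⁻¹ * X)) = aeval g f := by
  rw [aeval_comp]
  congr 1
  simp [Algebra.algebraMap_eq_smul_one, smul_smul, hc]

theorem hc0 {Q B : Subgroup Y} {U : Submodule F W} (hU0 : U ≠ ⊥) (hQU : Q ≤ stabOn ρ U)
    (hBU : B ≤ stabOn ρ U) (hBQ : B ≤ 𝒩(Q)) (hcop : (Nat.card B).Coprime (Nat.card Q))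
    (hs : Group.IsSolvable B ∨ Group.IsSolvable Q) (hQF : (Nat.card Q : F) ≠ 0)
    (hsc : ∀ z ∈ ⁅Q, Q⁆, ∃ c : F, ∀ w ∈ U, ρ z w = c • w)
    (hR : ∀ z ∈ relC Q (kerOn ρ U), ∃ c : F, ∀ w ∈ U, ρ z w = c • w) {g : Y} (hgQ : g ∈ 𝒩(Q))
    (hgB : g ∈ 𝒩(B)) (hgU : g ∈ stabOn ρ U) {n : ℕ} (hn : n ≠ 0) (hgn : g ^ n ∈ 𝒞(Q)) {c : F}
    (hc : ∀ w ∈ U, ρ (g ^ n) w = c • w) (hne : ¬ ⁅Q, B⁆ ≤ relC Q (kerOn ρ U))
    (hfree : ∀ (H : Subgroup Y) (i : ℕ), ¬ n ∣ i → g ^ i ∈ H → g ^ n ∈ H →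
      ⁅Q, B⁆ ≤ ⁅⁅Q, B⁆ ⊔ relC Q (kerOn ρ U), H⁆ ⊔ relC Q (kerOn ρ U))
    {f : F[X]} (f0 : f ≠ 0) (hf : ∀ w ∈ U, aeval (ρ g) f w = 0) (hlt : f.natDegree < n) :
    n - 1 ≤ f.natDegree := by
  classical
  obtain ⟨l, hl⟩ := exists_rad_wt hU0 hQU hQF
  have heis := heis_setup hQU hBU hBQ hcop hs hsc hl
  set R := relC Q (kerOn ρ U) with hRd
  set P := ⁅Q, B⁆ ⊔ R with hP
  have hN := stabOn_le_norm_kerOn (ρ := ρ) U
  have hPQ : P ≤ Q := sup_le (comm_le_left hBQ) (relC_le _ _)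
  have hgR : zpowers g ≤ 𝒩(R) := le_norm_relC (hQU.trans hN) (zpowers_le.2 hgQ) (zpowers_le.2 (hN hgU))
  have hgP : zpowers g ≤ 𝒩(P) := le_norm_sup (le_norm_comm (zpowers_le.2 hgQ) (zpowers_le.2 hgB)) hgR
  obtain ⟨v, hv, hv0⟩ := Submodule.exists_mem_ne_zero_of_ne_bot hl
  have hUw : ∀ w ∈ U, w ∈ wt ρ R l := fun w hw z hz => by
    obtain ⟨a, ha⟩ := hR z hz
    have : a = l z := smul_left_injective F hv0 ((ha v hv.1).symm.trans (hv.2 z hz))
    rw [ha w hw, this]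
  set U2 := U ⊓ wt ρ R l with hU2
  have hg2 : ∀ w ∈ U2, ρ g w ∈ U2 := fun w hw => ⟨stabOn_apply hgU hw.1, hUw _ (stabOn_apply hgU hw.1)⟩
  have c0 : c ≠ 0 := fun e => hv0 (by
    rw [← rep_inv_apply ρ (g ^ n) v, hc v hv.1, e, zero_smul, map_zero])
  obtain ⟨c', hc'⟩ := IsAlgClosed.exists_pow_nat_eq c⁻¹ (Nat.pos_of_ne_zero hn)
  have c'0 : c' ≠ 0 := fun e => inv_ne_zero c0 (by rw [← hc', e, zero_pow hn])
  have : Nontrivial U2 := Submodule.nontrivial_iff_ne_bot.2 hl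
  let α : MulAut P := cjAut P (zpowers g) hgP ⟨g, mem_zpowers g⟩
  have hα : ∀ (i : ℕ) (k : P), ((α ^ i) k : Y) = g ^ i * k * (g ^ i)⁻¹ := fun i k => by
    rw [← map_pow]; rfl
  have hd : (f.comp (C c'⁻¹ * X)).natDegree = f.natDegree := by
    rw [natDegree_comp, natDegree_C_mul_X _ (inv_ne_zero c'0), mul_one]
  rw [← hd]
  refine poly_deg heis (natCast_ne_zero_of_dvd hQF (card_dvd_of_le hPQ))
    (fun h => hne (le_sup_left.trans (subgroupOf_eq_top.1 h))) (g := c' • (ρ g).restrict hg2) (α := α) hn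
    ?_ ?_ ?_ ?_ ?_ ?_ (hd ▸ hlt)
  · rw [_root_.smul_pow, hc', Module.End.pow_restrict]
    ext u
    simp [← map_pow, hc u u.2.1, smul_smul, c0]
  · ext k
    rw [hα, ← mem_cent.1 hgn k (hPQ k.2)]; simp
  · intro k
    ext u
    have := hα 1 k
    rw [pow_one, pow_one] at this
    show c' • ρ g (ρ k u) = ρ (α k : Y) (c' • ρ g u)
    rw [this, map_smul, ← End.mul_apply, ← End.mul_apply, ← map_mul, ← map_mul, inv_mul_cancel_right]
  · intro m hm hm1 i hi hfix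
    apply hm1
    let m' : Y → F := fun y => if h : y ∈ P then m ⟨y, h⟩ else 0
    have w1 : ∀ j : ℕ, (∀ k, m ((α ^ j) k) = m k) → g ^ j ∈ wstab P m' := fun j hj => by
      refine (inv_mem_iff).1 ⟨inv_mem (hgP (pow_mem (mem_zpowers g) j)), fun k hk => ?_⟩
      rw [inv_inv]
      have h1 := H1.conj_mem_of_mem_normalizer (hgP (pow_mem (mem_zpowers g) j)) hk
      simp only [m', dif_pos hk, dif_pos h1]
      rw [← hj ⟨k, hk⟩]; congr 2; exact Subtype.ext (hα j ⟨k, hk⟩).symm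
    have w2 := hfree _ i hi (w1 i fun k => DFunLike.congr_fun hfix k) (w1 n fun k => by
      congr 1; ext; rw [hα, ← mem_cent.1 hgn k (hPQ k.2)]; simp)
    have w3 : R ≤ m.ker.map P.subtype := fun z hz => ⟨⟨z, mem_sup_right hz⟩, hm _ hz, rfl⟩
    rw [← MonoidHom.ker_eq_top_iff, eq_top_iff,
      ← map_le_map_iff_of_injective P.subtype_injective, map_top_subtype]
    refine sup_le (w2.trans (sup_le (commutator_le.2 fun k hk b hb => ?_) w3)) w3
    have h3 : b * k⁻¹ * b⁻¹ ∈ P := H1.conj_mem_of_mem_normalizer hb.1 (inv_mem hk)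
    refine ⟨⟨k, hk⟩ * ⟨_, h3⟩, ?_, by simp [commutatorElement_def, mul_assoc]⟩
    have h4 := (inv_mem hb).2 k⁻¹ (inv_mem hk)
    rw [inv_inv] at h4
    simp only [m', dif_pos h3, dif_pos (inv_mem hk)] at h4
    rw [SetLike.mem_coe, MonoidHom.mem_ker, map_mul, Units.ext h4, ← map_mul]
    exact (congrArg m (Subtype.ext (mul_inv_cancel k))).trans (map_one m)
  · intro e
    rw [comp_eq_zero_iff] at e
    rcases e with e | ⟨-, e⟩
    · exact f0 e
    · have := congrArg natDegree e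
      rw [natDegree_C_mul_X _ (inv_ne_zero c'0), natDegree_C] at this
      exact one_ne_zero this
  · rw [aeval_smul_comp _ c'0]
    ext u
    rw [aeval_restrict, hf u u.2.1]; rfl

/-- elements normalizing `R` and centralizing `Q` modulo `R` -/
def cq (Q R : Subgroup Y) : Subgroup Y where
  carrier := {h | h ∈ 𝒩(R) ∧ ∀ k ∈ Q, ⁅k, h⁆ ∈ R}
  one_mem' := ⟨one_mem _, fun k _ => by simp⟩
  mul_mem' := by
    rintro a b ⟨a1, a2⟩ ⟨b1, b2⟩
    refine ⟨mul_mem a1 b1, fun k hk => ?_⟩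
    rw [show ⁅k, a * b⁆ = ⁅k, a⁆ * (a * ⁅k, b⁆ * a⁻¹) by simp only [commutatorElement_def]; group]
    exact mul_mem (a2 k hk) (H1.conj_mem_of_mem_normalizer a1 (b2 k hk))
  inv_mem' := by
    rintro a ⟨a1, a2⟩
    refine ⟨inv_mem a1, fun k hk => ?_⟩
    rw [show ⁅k, a⁻¹⁆ = a⁻¹ * ⁅k, a⁆⁻¹ * a by simp only [commutatorElement_def]; group]
    exact H1.conj_mem_of_mem_normalizer' a1 (inv_mem (a2 k hk))

theorem le_cq {Q R B : Subgroup Y} (h : B ≤ 𝒩(R)) : B ≤ cq Q R ↔ ⁅Q, B⁆ ≤ R :=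
  ⟨fun h1 => commutator_le.2 fun k hk _ hb => (h1 hb).2 k hk,
    fun h1 _ hb => ⟨h hb, fun _ hk => h1 (commutator_mem_commutator hk hb)⟩⟩

theorem le_norm_cq {Q R B : Subgroup Y} (hQ : B ≤ 𝒩(Q)) (hR : B ≤ 𝒩(R)) : B ≤ 𝒩(cq Q R) :=
  le_norm_of_cj_le fun b hb y hy => by
    rw [mem_cj] at hy
    have h1 : y = b * (b⁻¹ * y * b) * b⁻¹ := by group
    refine ⟨h1 ▸ mul_mem (mul_mem (hR hb) hy.1) (inv_mem (hR hb)), fun k hk => ?_⟩
    rw [show ⁅k, y⁆ = b * ⁅b⁻¹ * k * b, b⁻¹ * y * b⁆ * b⁻¹ by simp only [commutatorElement_def]; group]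
    exact H1.conj_mem_of_mem_normalizer (hR hb) (hy.2 _ (H1.conj_mem_of_mem_normalizer' (hQ hb) hk))

theorem hc {r s : ℕ} (hr : r.Prime) (hs : s.Prime) (hrs : r ≠ s) {x : Y} (hx : orderOf x = r)
    {Q : Subgroup Y} (hQF : (Nat.card Q : F) ≠ 0) (hQr : r.Coprime (Nat.card Q))
    (hQs : s.Coprime (Nat.card Q)) {U : Submodule F W} (hU0 : U ≠ ⊥) (hQU : Q ≤ stabOn ρ U)
    (hxQ : x ∈ 𝒩(Q)) (hxU : x ∈ stabOn ρ U) {d : Y} {e : ℕ} (hd : d ^ s ^ e = 1) (hdQ : d ∈ 𝒩(Q))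
    (hdU : d ∈ stabOn ρ U) (hxd : Commute x d) (hsc : ∀ z ∈ ⁅Q, Q⁆, ∃ c : F, ∀ w ∈ U, ρ z w = c • w)
    (hR : ∀ z ∈ relC Q (kerOn ρ U), ∃ c : F, ∀ w ∈ U, ρ z w = c • w)
    (hC : Q ⊓ 𝒞₁(x) ≤ relC Q (kerOn ρ U)) (hfix : ∀ w ∈ U, ρ x w = w → ρ d w = w)
    (hne : ¬ ⁅Q, zpowers d⁆ ≤ relC Q (kerOn ρ U)) :
    U ⊓ fix ρ (zpowers x) ≠ ⊥ ∧ s = 2 ∧ ⁅Q, zpowers (d ^ 2)⁆ ≤ relC Q (kerOn ρ U) := by
  haveI : Fact s.Prime := ⟨hs⟩
  set R := relC Q (kerOn ρ U) with hRd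
  have hN := stabOn_le_norm_kerOn (ρ := ρ) U
  have hDQ : zpowers d ≤ 𝒩(Q) := zpowers_le.2 hdQ
  have hDR : zpowers d ≤ 𝒩(R) := le_norm_relC (hQU.trans hN) hDQ (zpowers_le.2 (hN hdU))
  have hz : ∀ j : ℕ, zpowers (d ^ j) ≤ zpowers d := fun j => zpowers_le.2 (pow_mem (mem_zpowers d) j)
  have hcop : ∀ j : ℕ, (Nat.card (zpowers (d ^ j))).Coprime (Nat.card Q) := fun j =>
    H1.IsPGroup.coprime_card ((isPGroup_zpowers_of_pow hd).to_le (hz j)) hQs.symm
  obtain ⟨t, -, ht⟩ := exists_period hs hd (cq Q R)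
  have ht' : ∀ j, ⁅Q, zpowers (d ^ j)⁆ ≤ R ↔ s ^ t ∣ j := fun j => by
    rw [← ht, ← le_cq ((hz j).trans hDR), zpowers_le]
  obtain ⟨k, rfl⟩ : ∃ k, t = k + 1 := Nat.exists_eq_succ_of_ne_zero (by
    rintro rfl; exact hne (by simpa using (ht' 1).2 (by simp)))
  set m := s ^ (k + 1) with hm
  have hm2 : 2 ≤ m := hs.two_le.trans (Nat.le_self_pow (by omega) s)
  have hmr : m.Coprime r := ((Nat.coprime_primes hs hr).2 hrs.symm).pow_left _
  set d0 := d ^ m with hd0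
  set Q0 := Q ⊓ 𝒞(zpowers d0) with hQ0
  have hdec : ∀ a ∈ Q, ∃ u ∈ R, ∃ c ∈ Q0, a = u * c := fun a ha => by
    obtain ⟨u, hu, c, hc, h⟩ := H1.exists_commutator_mul_centralizer ((hz m).trans hDQ) (hcop m)
      (Or.inl inferInstance) ha
    exact ⟨u, (ht' m).2 dvd_rfl hu, c, hc, h⟩
  have : Nontrivial U := Submodule.nontrivial_iff_ne_bot.2 hU0
  obtain ⟨c, hc⟩ := Module.End.exists_eigenvalue
    ((ρ d0).restrict (p := U) (q := U) fun w hw => stabOn_apply (pow_mem hdU m) hw)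
  obtain ⟨v, hv⟩ := hc.exists_hasEigenvector
  set U' := U ⊓ (ρ d0).eigenspace c with hU'
  have hv' : (v : W) ∈ U' := ⟨v.2, Module.End.mem_eigenspace_iff.2 (congrArg Subtype.val hv.apply_eq_smul)⟩
  have hv0 : (v : W) ≠ 0 := fun h => hv.2 (Subtype.ext h)
  have hU'0 : U' ≠ ⊥ := fun h => hv0 ((Submodule.mem_bot F).1 (h ▸ hv'))
  have heig : ∀ w ∈ U', ρ d0 w = c • w := fun w hw => Module.End.mem_eigenspace_iff.1 hw.2
  have c0 : c ≠ 0 := fun e => hv0 (by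
    rw [← rep_inv_apply ρ d0 v, heig v hv', e, zero_smul, map_zero])
  have hst : stabOn ρ U ⊓ 𝒞(zpowers d0) ≤ stabOn ρ U' := le_stabOn fun a ha w hw =>
    ⟨stabOn_apply ha.1 hw.1, Module.End.mem_eigenspace_iff.2 (by
      rw [← End.mul_apply, ← map_mul, mem_cent.1 ha.2 d0 (mem_zpowers d0), map_mul, End.mul_apply,
        heig w hw, map_smul])⟩
  have hdc : zpowers d ≤ 𝒞(zpowers d0) := cent_comm ((hz m).trans (le_cent_self inferInstance))
  have hxc : x ∈ 𝒞(zpowers d) := by rw [cent_zpowers, mem_cent1]; exact hxd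
  have hxc0 : x ∈ 𝒞(zpowers d0) := cent_anti (hz m) hxc
  have hQU' : Q0 ≤ stabOn ρ U' := (inf_le_inf_right _ hQU).trans hst
  have hN' := hQU'.trans (stabOn_le_norm_kerOn (ρ := ρ) U')
  set R0 := relC Q0 (kerOn ρ U') with hR0
  have hR0R : R0 ≤ R := fun y hy => by
    obtain ⟨y1, y2⟩ := (mem_relC hN').1 hy
    refine (mem_relC (hQU.trans hN)).2 ⟨y1.1, fun a ha => ?_⟩
    obtain ⟨u, hu, b, hb, rfl⟩ := hdec a ha
    rw [show ⁅y, u * b⁆ = ⁅u, y⁆⁻¹ * (u * ⁅y, b⁆ * u⁻¹) by simp only [commutatorElement_def]; group]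
    exact mul_mem (inv_mem (((mem_relC (hQU.trans hN)).1 hu).2 y y1.1))
      (H1.conj_mem_of_mem_normalizer (hN (hQU (relC_le _ _ hu))) (mem_kerOn_of_scalar hU'0 inf_le_left
        (hsc _ (commutator_mem_commutator y1.1 hb.1)) (y2 b hb)))
  have hRR0 : Q0 ⊓ R ≤ R0 := fun y hy => (mem_relC hN').2 ⟨hy.1, fun a ha =>
    kerOn_anti inf_le_left (((mem_relC (hQU.trans hN)).1 hy.2).2 a ha.1)⟩
  have hDQ0 : zpowers d ≤ 𝒩(Q0) := le_norm_inf hDQ (hdc.trans (le_norm_self _))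
  have hxQ0 : x ∈ 𝒩(Q0) := zpowers_le.1 (le_norm_inf (zpowers_le.2 hxQ)
    ((zpowers_le.2 hxc0).trans (le_norm_self _)))
  have hdU' : zpowers d ≤ stabOn ρ U' := (le_inf (zpowers_le.2 hdU) hdc).trans hst
  have hxU' : x ∈ stabOn ρ U' := hst ⟨hxU, hxc0⟩
  have hxr : x ^ r = 1 := hx ▸ pow_orderOf_eq_one x
  have hgn : (x * d) ^ (r * m) = d0 ^ r := by
    rw [hxd.mul_pow, pow_mul, hxr, one_pow, one_mul, mul_comm, pow_mul]
  have hcop0 := (hcop (s ^ k)).coprime_dvd_right (card_dvd_of_le (inf_le_left : Q0 ≤ Q))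
  have main : ∀ f : F[X], f ≠ 0 → (∀ w ∈ U', aeval (ρ (x * d)) f w = 0) → f.natDegree < r * m →
      r * m - 1 ≤ f.natDegree := fun f f0 hf hlt => by
    refine hc0 (B := zpowers (d ^ s ^ k)) hU'0 hQU' ((hz _).trans hdU') ((hz _).trans hDQ0) hcop0
      (Or.inl inferInstance) (natCast_ne_zero_of_dvd hQF (card_dvd_of_le inf_le_left))
      (fun z hz => (hsc z (commutator_mono inf_le_left inf_le_left hz)).imp fun a ha w hw => ha w hw.1)
      (fun z hz => (hR z (hR0R hz)).imp fun a ha w hw => ha w hw.1)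
      (mul_mem hxQ0 (hDQ0 (mem_zpowers d)))
      (cent_le_norm _ (cent_anti (hz _) (mul_mem hxc (le_cent_self inferInstance (mem_zpowers d)))))
      (mul_mem hxU' (hdU' (mem_zpowers d))) (Nat.mul_ne_zero hr.ne_zero (by omega))
      (hgn ▸ pow_mem (cent_comm (inf_le_right : Q0 ≤ _) (mem_zpowers d0)) r) (c := c ^ r)
      (fun w hw => by rw [hgn, rep_pow_of_eigen (heig w hw)]) (fun h => ?_) (fun H i hi h1 h2 => ?_) f0 hf hlt
    · have h1 : ⁅Q, zpowers (d ^ s ^ k)⁆ ≤ R := commutator_le.2 fun a ha b hb => by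
        obtain ⟨u, hu, a', ha', rfl⟩ := hdec a ha
        rw [show ⁅u * a', b⁆ = u * ⁅a', b⁆ * (b * u⁻¹ * b⁻¹) by simp only [commutatorElement_def]; group]
        exact mul_mem (mul_mem hu (hR0R (h (commutator_mem_commutator ha' hb))))
          (H1.conj_mem_of_mem_normalizer (hDR (hz _ hb)) (inv_mem hu))
      have := (Nat.pow_dvd_pow_iff_le_right hs.one_lt).1 ((ht' _).1 h1)
      omega
    · by_cases hri : r ∣ i
      · obtain ⟨u, -, hu⟩ := exists_period hs hd H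
        rw [hxd.mul_pow, orderOf_dvd_iff_pow_eq_one.1 (hx ▸ hri), one_mul, hu] at h1
        rw [hgn, hd0, ← pow_mul, hu] at h2
        have h3 := (Nat.pow_dvd_pow_iff_le_right hs.one_lt).1
          ((((Nat.coprime_primes hs hr).2 hrs.symm).pow_left u).dvd_of_dvd_mul_right h2)
        have h4 : u ≤ k := by
          by_contra h5
          obtain rfl : u = k + 1 := by omega
          exact hi (hmr.symm.mul_dvd_of_dvd_of_dvd hri h1)
        rw [← H1.commutator_commutator_eq ((hz _).trans hDQ0) hcop0 (Or.inl inferInstance)]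
        exact le_sup_of_le_left (commutator_mono (by
          rw [H1.commutator_commutator_eq ((hz _).trans hDQ0) hcop0 (Or.inl inferInstance)]; exact le_sup_left)
          (zpowers_le.2 ((hu _).2 (pow_dvd_pow s h4))))
      · have h3 : x ^ (i * s ^ e) ∈ H := by
          have := pow_mem h1 (s ^ e)
          rwa [← pow_mul, hxd.mul_pow, mul_comm i, pow_mul d, hd, one_pow, mul_one, mul_comm] at this
        have h4 : x ∈ H := by
          obtain ⟨j, hj⟩ := exists_pow_eq_self_of_coprime (x := x) (n := i * s ^ e) (hx ▸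
            Nat.Coprime.mul_left ((Nat.Prime.coprime_iff_not_dvd hr).2 hri).symm
              (((Nat.coprime_primes hs hr).2 hrs.symm).pow_left e))
          rw [← hj]; exact pow_mem h3 j
        have hxP : zpowers x ≤ 𝒩(⁅Q0, zpowers (d ^ s ^ k)⁆ ⊔ R0) := le_norm_sup
          (le_norm_comm (zpowers_le.2 hxQ0) (zpowers_le.2 (cent_le_norm _ (cent_anti (hz _) hxc))))
          (le_norm_relC hN' (zpowers_le.2 hxQ0) (zpowers_le.2 (stabOn_le_norm_kerOn U' hxU')))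
        have hPQ : ⁅Q0, zpowers (d ^ s ^ k)⁆ ⊔ R0 ≤ Q0 := sup_le (comm_le_left ((hz _).trans hDQ0)) (relC_le _ _)
        refine le_sup_left.trans ((H1.commutator_sup_centralizer hxP (by
          rw [Nat.card_zpowers, hx]
          exact hQr.coprime_dvd_right (card_dvd_of_le (hPQ.trans inf_le_left))) (Or.inl inferInstance)).ge.trans
          (sup_le_sup (commutator_mono le_rfl (zpowers_le.2 h4)) fun y hy => hRR0 ⟨hPQ hy.1,
            hC ⟨(hPQ hy.1).1, cent_zpowers x ▸ hy.2⟩⟩))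
  let Φ : F[X] := ∑ i ∈ Finset.range r, (C c⁻¹ * X ^ m) ^ i
  have hΦ0 : Φ ≠ 0 := fun h => by
    have := congrArg (eval 0) h
    simp [Φ, eval_finsetSum, zero_pow (show m ≠ 0 by omega), hr.ne_zero] at this
  have hΦd : Φ.natDegree ≤ (r - 1) * m := natDegree_sum_le_of_forall_le _ _ fun i hi =>
    natDegree_pow_le.trans (Nat.mul_le_mul (by have := Finset.mem_range.1 hi; omega)
      (natDegree_C_mul_X_pow_le _ _))
  have hΦ : ∀ w ∈ U', aeval (ρ (x * d)) Φ w ∈ U ∧ ρ x (aeval (ρ (x * d)) Φ w) = aeval (ρ (x * d)) Φ w := by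
    intro w hw
    have h1 : ∀ i : ℕ, ∀ w ∈ U', ((c⁻¹ • ρ (x * d) ^ m) ^ i) w = (ρ (x ^ m) ^ i) w := fun i => by
      induction i with
      | zero => intro w _; rfl
      | succ i ih =>
        intro w hw
        rw [pow_succ, pow_succ, End.mul_apply, End.mul_apply, ← ih _ (stabOn_apply (pow_mem hxU' m) hw)]
        congr 1
        rw [LinearMap.smul_apply, ← map_pow, hxd.mul_pow, map_mul, End.mul_apply, heig w hw, map_smul, smul_smul,
          inv_mul_cancel₀ c0, one_smul]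
    have h2 : aeval (ρ (x * d)) Φ w = (∑ i ∈ Finset.range r, ρ (x ^ m) ^ i) w := by
      simp only [Φ, map_sum, map_pow (aeval _), map_mul (aeval _), aeval_C, aeval_X,
        Algebra.algebraMap_eq_smul_one, smul_mul_assoc, one_mul, LinearMap.sum_apply]
      exact Finset.sum_congr rfl fun i _ => h1 i w hw
    rw [h2]
    refine ⟨?_, ?_⟩
    · rw [LinearMap.sum_apply]
      exact Submodule.sum_mem _ fun i _ => by
        rw [← map_pow]; exact stabOn_apply (pow_mem (pow_mem hxU m) i) hw.1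
    · have h3 := LinearMap.congr_fun (mul_geom_sum (ρ (x ^ m)) r) w
      rw [← map_pow, ← pow_mul, mul_comm m, pow_mul, hxr, one_pow, map_one, sub_self, End.mul_apply,
        LinearMap.sub_apply, LinearMap.zero_apply, sub_eq_zero, End.one_apply] at h3
      obtain ⟨j, hj⟩ := exists_pow_eq_self_of_coprime (x := x) (n := m) (hx ▸ hmr)
      exact mem_fix_zpowers.2 h3 x ⟨j, by simpa using hj⟩
  obtain ⟨r', rfl⟩ : ∃ r', r = r' + 1 := Nat.exists_eq_succ_of_ne_zero hr.ne_zero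
  simp only [Nat.add_sub_cancel] at hΦd
  have h5 := main ((X - 1) * Φ) (mul_ne_zero (X_sub_C_ne_zero 1) hΦ0) (fun w hw => by
    obtain ⟨a, b⟩ := hΦ w hw
    rw [map_mul, End.mul_apply, map_sub, aeval_X, map_one, LinearMap.sub_apply, End.one_apply]
    generalize aeval (ρ (x * d)) Φ w = z at a b
    rw [map_mul, End.mul_apply, hfix _ a b, b, sub_self])
  have h6 : ((X - 1) * Φ).natDegree ≤ 1 + r' * m :=
    natDegree_mul_le.trans (Nat.add_le_add (natDegree_X_sub_C (x := (1 : F))).le hΦd)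
  rw [add_mul, one_mul] at h5 main
  have h7 : m = 2 := by have := h5 (by omega); omega
  have h8 : s = 2 := by
    have := (Nat.dvd_prime Nat.prime_two).1 (show s ∣ 2 by rw [← h7]; exact dvd_pow_self s (Nat.succ_ne_zero k))
    exact this.resolve_left hs.ne_one
  refine ⟨fun h => ?_, h8, (ht' 2).2 h7.dvd⟩
  have := main Φ hΦ0 (fun w hw => (Submodule.mem_bot F).1
    (h ▸ ⟨(hΦ w hw).1, mem_fix_zpowers.2 (hΦ w hw).2⟩)) (by omega)
  omega

end H6.Tu
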