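import Cfsg.Agent.H6.Tu2

/-! Fixed points of an element of prime order on weight spaces. -/

set_option autoImplicit false
set_option linter.unusedSectionVars false

namespace H6.Tu
open Module H2 Subgroup H15 Cfsg H9
open scoped commutatorElement

variable {F W Y : Type*} [Field F] [IsAlgClosed F] [AddCommGroup W] [Module F W] [FiniteDimensional F W]
  [Group Y] [Finite Y] {ρ : Y →* End F W}

theorem mem_of_pow_mem {x : Y} {H : Subgroup Y} {i : ℕ} (hi : i.Coprime (orderOf x)) (h : x ^ i ∈ H) : x ∈ H := by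
  obtain ⟨j, hj⟩ := exists_pow_eq_self_of_coprime hi
  rw [← hj]; exact pow_mem h j

/-- the norm of a vector -/
def nm (ρ : Y →* End F W) (x : Y) (r : ℕ) (w : W) : W := ∑ i ∈ Finset.range r, ρ (x ^ i) w

theorem nm_fix {x : Y} {r : ℕ} (hx : orderOf x = r) (w : W) : ρ x (nm ρ x r w) = nm ρ x r w := by
  have h3 := LinearMap.congr_fun (mul_geom_sum (ρ x) r) w
  rw [← map_pow, ← hx, pow_orderOf_eq_one, map_one, sub_self, End.mul_apply,
    LinearMap.sub_apply, LinearMap.zero_apply, sub_eq_zero, End.one_apply, LinearMap.sum_apply, hx] at h3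
  simpa only [nm, map_pow] using h3

theorem nm_comm {x d : Y} (h : Commute x d) (r : ℕ) (w : W) : ρ d (nm ρ x r w) = nm ρ x r (ρ d w) := by
  rw [nm, nm, map_sum]
  exact Finset.sum_congr rfl fun i _ => by
    rw [← End.mul_apply, ← End.mul_apply, ← map_mul, ← map_mul, (h.pow_left i).eq]

theorem nm_sub (x : Y) (r : ℕ) (a b : W) : nm ρ x r (a - b) = nm ρ x r a - nm ρ x r b := by
  simp [nm, Finset.sum_sub_distrib]

theorem nm_of_fix {x : Y} (r : ℕ) {w : W} (h : ρ x w = w) : nm ρ x r w = (r : F) • w := by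
  rw [nm, Finset.sum_congr rfl fun i _ => mem_fix_zpowers.2 h _ (pow_mem (mem_zpowers x) i), Finset.sum_const,
    Finset.card_range, Nat.cast_smul_eq_nsmul]

theorem nm_mem {x : Y} (r : ℕ) {U : Submodule F W} (hx : x ∈ stabOn ρ U) {w : W} (hw : w ∈ U) : nm ρ x r w ∈ U :=
  U.sum_mem fun i _ => stabOn_apply (pow_mem hx i) hw

theorem not_wstab {M : Subgroup Y} {l : Y → F} {g : Y} (hg : g ∈ 𝒩(M)) (h : g ∉ wstab M l) :
    ∃ k ∈ M, l (g⁻¹ * k * g) ≠ l k := by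
  by_contra hc
  push Not at hc
  exact h ⟨hg, hc⟩

theorem fw_a {r : ℕ} (hr : r.Prime) {x : Y} (hx : orderOf x = r) {M : Subgroup Y} (hxM : x ∈ 𝒩(M))
    {l : Y → F} (hl : x ∉ wstab M l) {w : W} (hw : w ∈ wt ρ M l)
    (h : nm ρ x r w ∈ fix ρ ⁅M, zpowers x⁆) : w = 0 := by
  by_contra w0
  have hl0 : wt ρ M l ≠ ⊥ := fun e => w0 ((Submodule.mem_bot F).1 (e ▸ hw))
  obtain ⟨k, hk, hk'⟩ := not_wstab hxM hl
  have hk2 := H1.conj_mem_of_mem_normalizer' hxM hk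
  have hz : k⁻¹ * (x⁻¹ * k * x) ∈ ⁅M, zpowers x⁆ := by
    simpa [commutatorElement_def, mul_assoc] using
      commutator_mem_commutator (inv_mem hk) (inv_mem (mem_zpowers x))
  have hzM := mul_mem (inv_mem hk) hk2
  set z := k⁻¹ * (x⁻¹ * k * x) with hzd
  have hlz : l z ≠ 1 := fun e => hk' (by
    rw [show x⁻¹ * k * x = k * z by rw [hzd]; group, wt_mul hl0 hk hzM, e, mul_one])
  obtain ⟨r', rfl⟩ : ∃ r', r = r' + 1 := Nat.exists_eq_succ_of_ne_zero hr.ne_zero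
  have h1 := sub_eq_zero.2 (h z hz)
  rw [nm, map_sum, ← Finset.sum_sub_distrib, Finset.sum_range_succ', add_comm, pow_zero, map_one,
    End.one_apply, hw z hzM] at h1
  have h2 := eq_zero_of_wt (ρ := ρ) _ (fun (i : ℕ) k => l ((x ^ (i + 1))⁻¹ * k * x ^ (i + 1))) (fun i hi =>
    not_wstab (pow_mem hxM _) fun e => hl (mem_of_pow_mem (hx ▸ (Nat.coprime_of_lt_prime (by omega)
      (by have := Finset.mem_range.1 hi; omega) hr).symm) e)) _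
    (sub_mem (Submodule.smul_mem _ _ hw) hw) (fun i _ => by
      have := wt_apply (pow_mem hxM (i + 1)) hw
      exact sub_mem (by rw [this z hzM]; exact Submodule.smul_mem _ _ this) this) h1
  rw [← sub_eq_zero, sub_zero, sub_eq_zero, eq_comm, ← sub_eq_zero] at h2
  rw [show w - l z • w = (1 - l z) • w by rw [sub_smul, one_smul], smul_eq_zero, sub_eq_zero] at h2
  exact h2.elim (fun e => hlz e.symm) w0

theorem fw_b {r : ℕ} (hr : r.Prime) {x : Y} (hx : orderOf x = r) {M : Subgroup Y} (hxM : x ∈ 𝒩(M))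
    {l : Y → F} (hl : x ∉ wstab M l) {w : W} (hw : w ∈ wt ρ M l) {d : Y} (hdM : d ∈ 𝒩(M)) (hxd : Commute x d)
    (hd : (orderOf d).Coprime r) (h : d ∈ kerOn ρ (fix ρ (zpowers x))) : ρ d w = w := by
  have h1 : nm ρ x r (ρ d w) = nm ρ x r w := by
    rw [← nm_comm hxd]; exact h _ (mem_fix_zpowers.2 (nm_fix hx w))
  by_cases hdl : d ∈ wstab M l
  · refine sub_eq_zero.1 (fw_a hr hx hxM hl (sub_mem (stabOn_apply (wstab_le_stabOn M l hdl) hw) hw) ?_)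
    rw [nm_sub, h1, sub_self]; exact zero_mem _
  have h3 : ∀ i : ℕ, x ^ i * d ∉ wstab M l := fun i e => by
    have h4 := pow_mem e (orderOf d)
    rw [(hxd.pow_left i).mul_pow, pow_orderOf_eq_one, mul_one, ← pow_mul] at h4
    by_cases hi : r ∣ i
    · rw [orderOf_dvd_iff_pow_eq_one.1 (hx ▸ hi), one_mul] at e; exact hdl e
    · exact hl (mem_of_pow_mem (hx ▸ Nat.Coprime.mul_left ((Nat.Prime.coprime_iff_not_dvd hr).2 hi).symm hd) h4)
  obtain ⟨r', rfl⟩ : ∃ r', r = r' + 1 := Nat.exists_eq_succ_of_ne_zero hr.ne_zero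
  have h2 := eq_zero_of_wt (ρ := ρ) ((Finset.range r').disjSum (Finset.range (r' + 1)))
    (Sum.elim (fun (i : ℕ) k => l ((x ^ (i + 1))⁻¹ * k * x ^ (i + 1)))
      fun (i : ℕ) k => l ((x ^ i * d)⁻¹ * k * (x ^ i * d))) (by
      rintro (i | i) hi
      · exact not_wstab (pow_mem hxM _) fun e => hl (mem_of_pow_mem (hx ▸ (Nat.coprime_of_lt_prime (by omega)
          (by have := Finset.mem_range.1 (Finset.inl_mem_disjSum.1 hi); omega) hr).symm) e)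
      · exact not_wstab (mul_mem (pow_mem hxM _) hdM) (h3 i))
    (Sum.elim (fun i => ρ (x ^ (i + 1)) w) fun i => - ρ (x ^ i * d) w) hw (by
      rintro (i | i) -
      · exact wt_apply (pow_mem hxM _) hw
      · exact neg_mem (wt_apply (mul_mem (pow_mem hxM _) hdM) hw)) (by
      rw [nm, nm, Finset.sum_range_succ' (fun i => ρ (x ^ i) w), pow_zero, map_one, End.one_apply] at h1
      simp only [Finset.sum_disjSum, Sum.elim_inl, Sum.elim_inr, Finset.sum_neg_distrib, map_mul,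
        End.mul_apply, h1]
      abel)
  rw [h2, map_zero]

theorem gam0 {r : ℕ} (hr : r.Prime) (rF : (r : F) ≠ 0) {x : Y} (hx : orderOf x = r) {Q : Subgroup Y}
    (hxQ : x ∈ 𝒩(Q)) (hQF : (Nat.card Q : F) ≠ 0) (hab : ⁅Q, Q⁆ = ⊥) (hQ : Q ≤ ⁅Q, zpowers x⁆)
    (h0 : fix ρ Q = ⊥) [Nontrivial W] : fix ρ (zpowers x) ≠ ⊥ := fun h => by
  obtain ⟨l, hl⟩ := exists_wt (ρ := ρ) (U := ⊤) (X := ⊥) hQF (by rw [stabOn_top]; exact le_top) (hab ▸ bot_le)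
    (fun e => top_ne_bot (le_bot_iff.1 e))
  rw [top_inf_eq] at hl
  by_cases hxl : x ∈ wstab Q l
  · exact hl (h0 ▸ le_kerOn_iff.1 (hQ.trans (comm_le_kerOn_wt (zpowers_le.2 hxl))))
  · refine hl fun w hw => fw_a hr hx hxQ hxl hw ?_
    rw [show nm ρ x r w = 0 from (Submodule.mem_bot F).1 (h ▸ mem_fix_zpowers.2 (nm_fix hx w))]
    exact zero_mem _

theorem cent_le_rad {p q r : ℕ} (hp : p.Prime) [CharP F p] [Fact q.Prime] (hr : r.Prime) (rF : (r : F) ≠ 0)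
    (hq2 : q ≠ 2) (hqp : q ≠ p) (hqr : q ≠ r) {x : Y} (hx : orderOf x = r) {Q : Subgroup Y} (hQ : IsPGroup q Q)
    {U : Submodule F W} (hQU : Q ≤ stabOn ρ U) (hxQ : x ∈ 𝒩(Q)) (hxU : x ∈ stabOn ρ U) {d : Y}
    (hd : (orderOf d).Coprime q) (hdQ : d ∈ 𝒩(Q)) (hdU : d ∈ stabOn ρ U) (hxd : Commute x d)
    (hsc : ∀ z ∈ ⁅Q, Q⁆, ∃ c : F, ∀ w ∈ U, ρ z w = c • w) (hC : Q ⊓ 𝒞₁(x) ≤ relC Q (kerOn ρ U))
    (hfix : d ∈ kerOn ρ (fix ρ (zpowers x))) (hne : d ∉ kerOn ρ U) : Q ⊓ 𝒞₁(d) ≤ relC Q (kerOn ρ U) := by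
  set Q0 := Q ⊓ 𝒞₁(d) with hQ0
  set U1 := U.map (ρ d - 1) with hU1
  have hN := hQU.trans (stabOn_le_norm_kerOn (ρ := ρ) U)
  have hst : stabOn ρ U ⊓ 𝒞₁(d) ≤ stabOn ρ U1 := le_stabOn (by
    rintro a ha _ ⟨w, hw, rfl⟩
    refine ⟨ρ a w, stabOn_apply ha.1 hw, ?_⟩
    simp only [LinearMap.sub_apply, End.one_apply, map_sub]
    rw [← End.mul_apply, ← End.mul_apply, ← map_mul, ← map_mul, mem_cent1.1 ha.2])
  have hle : U1 ≤ U := by
    rintro _ ⟨w, hw, rfl⟩; exact sub_mem (stabOn_apply hdU hw) hw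
  have hU10 : U1 ≠ ⊥ := fun e => hne fun w hw =>
    sub_eq_zero.1 ((Submodule.mem_bot F).1 (e ▸ (⟨w, hw, rfl⟩ : (ρ d - 1) w ∈ U1)))
  have hQ0U := (inf_le_inf_right 𝒞₁(d) hQU).trans hst
  have hxc : x ∈ 𝒞₁(d) := mem_cent1.2 hxd
  have hxQ0 : zpowers x ≤ 𝒩(Q0) := le_norm_inf (zpowers_le.2 hxQ) ((zpowers_le.2 hxc).trans (le_norm_self _))
  have hQ0p : IsPGroup q Q0 := hQ.to_le inf_le_left
  have hcop : ∀ l : ℕ, l.Prime → q ≠ l → (Nat.card Q0).Coprime l := fun l hl hne => by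
    obtain ⟨k, hk⟩ := IsPGroup.iff_card.1 hQ0p
    rw [hk]; exact ((Nat.coprime_primes Fact.out hl).2 hne).pow_left k
  obtain ⟨K, -, k1, k2⟩ := hh_wrap hp hr rF hx (zpowers_le.1 hxQ0)
    ((Nat.Prime.coprime_iff_not_dvd hr).1 (hcop r hr hqr).symm) hQ0U (hst ⟨hxU, hxc⟩) (eq_bot_iff.2 (by
      rintro _ ⟨⟨w, hw, rfl⟩, h⟩
      have h1 := nm_of_fix r (mem_fix_zpowers.1 h)
      rw [LinearMap.sub_apply, End.one_apply, nm_sub, ← nm_comm hxd, hfix _ (mem_fix_zpowers.2 (nm_fix hx w)),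
        sub_self] at h1
      exact (smul_eq_zero.1 h1.symm).resolve_left rF))
  refine (H1.commutator_sup_centralizer hxQ0 (by rw [Nat.card_zpowers, hx]; exact (hcop r hr hqr).symm)
    (Or.inl inferInstance)).ge.trans (sup_le (fun y hy => ?_) fun y hy => hC ⟨hy.1.1, cent_zpowers x ▸ hy.2⟩)
  have hy0 : y ∈ Q0 := comm_le_left hxQ0 hy
  have ho : ∀ l : ℕ, l.Prime → q ≠ l → (orderOf y).Coprime l := fun l hl hne =>
    (hcop l hl hne).coprime_dvd_left (orderOf_dvd_natCard _ hy0)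
  have hyk := k1 y (k2 y hy (ho 2 Nat.prime_two hq2)) (ho p hp hqp)
  refine (mem_relC hN).2 ⟨hy0.1, fun a ha => ?_⟩
  obtain ⟨u, hu, c, hc, rfl⟩ := H1.exists_commutator_mul_centralizer (zpowers_le.2 hdQ)
    (by rw [Nat.card_zpowers]; obtain ⟨k, hk⟩ := IsPGroup.iff_card.1 hQ; rw [hk]; exact hd.pow_right k)
    (Or.inl inferInstance) ha
  rw [cent_zpowers] at hc
  rw [show ⁅y, u * c⁆ = ⁅u, y⁆⁻¹ * (u * ⁅y, c⁆ * u⁻¹) by simp only [commutatorElement_def]; group]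
  refine mul_mem (inv_mem (comm_cent_le_kerOn hQU (zpowers_le.2 hdU) (zpowers_le.2 hdQ) hsc
    (by rwa [cent_zpowers]) u hu)) (H1.conj_mem_of_mem_normalizer
      (hN (comm_le_left (zpowers_le.2 hdQ) hu)) (mem_kerOn_of_scalar hU10 hle
        (hsc _ (commutator_mem_commutator hy0.1 hc.1)) ?_))
  rw [commutatorElement_def, mul_assoc, mul_assoc]
  exact mul_mem hyk (by
    rw [← mul_assoc]; exact H1.conj_mem_of_mem_normalizer (stabOn_le_norm_kerOn U1 (hQ0U hc)) (inv_mem hyk))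

theorem j0 {p q r s : ℕ} (hp : p.Prime) [CharP F p] [hq : Fact q.Prime] (hr : r.Prime) [hs : Fact s.Prime]
    (rF : (r : F) ≠ 0) (hqp : q ≠ p) (hqr : q ≠ r) (hqs : q ≠ s) (hrs : r ≠ s) {x : Y} (hx : orderOf x = r)
    {Q D B : Subgroup Y} (hQ : IsPGroup q Q) (hD : IsPGroup s D) (hxQ : x ∈ 𝒩(Q)) (hDQ : D ≤ 𝒩(Q))
    (hDx : D ≤ 𝒞₁(x)) (hDc : D ≤ 𝒞(⁅Q, Q⁆)) (hQc : Q ≤ 𝒞(⁅Q, Q⁆)) (hQD : Q ≤ ⁅Q, D⁆)
    (hC : Q ⊓ 𝒞₁(x) ≤ ⁅Q, Q⁆) (h0 : fix ρ Q = ⊥) [Nontrivial W] (hDf : D ≤ kerOn ρ (fix ρ (zpowers x)))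
    (hB : ⁅Q, Q⁆ ⊓ 𝒞₁(x) ≤ kerOn ρ (fix ρ (zpowers x)) ∨
      (⁅⁅Q, Q⁆ ⊓ 𝒞₁(x), B⁆ ≤ kerOn ρ (fix ρ (zpowers x)) ∧ B ≤ 𝒩(Q) ∧ B ≤ 𝒩(D) ∧ B ≤ 𝒞₁(x) ∧
        D ≤ ⁅D, B⁆ ⊔ 𝒞(Q))) : False := by
  have hcop : ∀ l : ℕ, l.Prime → q ≠ l → l.Coprime (Nat.card Q) := fun l hl hne => by
    obtain ⟨k, hk⟩ := IsPGroup.iff_card.1 hQ
    rw [hk]; exact ((Nat.coprime_primes hl hq.out).2 hne.symm).pow_right k
  have hQF : (Nat.card Q : F) ≠ 0 := haveI := Fact.mk hp; natCast_ne_zero_of_coprime' F (hcop p hp hqp).symm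
  have hod : ∀ d ∈ D, ∀ l : ℕ, l.Prime → l ≠ s → (orderOf d).Coprime l := fun d hd l hl hne => by
    obtain ⟨k, hk⟩ := hD ⟨d, hd⟩
    exact (((Nat.coprime_primes hs.out hl).2 hne.symm).pow_left k).coprime_dvd_left
      (orderOf_dvd_of_pow_eq_one (congrArg Subtype.val hk))
  have hxd : ∀ d ∈ D, Commute x d := fun d hd => (mem_cent1.1 (hDx hd)).symm
  have hker : ∀ U : Submodule F W, U ≠ ⊥ → ¬ ⁅Q, D⁆ ≤ kerOn ρ U := fun U hU h =>
    hU (le_bot_iff.1 (h0 ▸ le_kerOn_iff.1 (hQD.trans h)))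
  have H0 : ∀ M : Subgroup Y, x ∈ 𝒩(M) → D ≤ 𝒩(M) → ∀ (l : Y → F) (U : Submodule F W), Q ≤ stabOn ρ U →
      U ≤ wt ρ M l → U ≠ ⊥ → x ∈ wstab M l := fun M h1 h2 l U h3 h4 h5 => by_contra fun h => hker U h5
    ((commutator_mono le_rfl (show D ≤ kerOn ρ U from fun d hd w hw => fw_b hr hx h1 h (h4 hw) (h2 hd) (hxd d hd)
      (hod d hd r hr hrs) (hDf hd))).trans (comm_le_right (h3.trans (stabOn_le_norm_kerOn U))))
  set Z := ⁅Q, Q⁆ with hZ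
  have hZQ : Z ≤ Q := comm_le_left (le_norm_self Q)
  have hXQ : zpowers x ≤ 𝒩(Q) := zpowers_le.2 hxQ
  have hXZ : zpowers x ≤ 𝒩(Z) := le_norm_comm hXQ hXQ
  have hcx : ∀ M ≤ Q, (Nat.card (zpowers x)).Coprime (Nat.card M) := fun M hM => by
    rw [Nat.card_zpowers, hx]; exact (hcop r hr hqr).coprime_dvd_right (card_dvd_of_le hM)
  obtain ⟨ζ, hζ⟩ := exists_wt (ρ := ρ) (U := ⊤) (X := ⊥) (natCast_ne_zero_of_dvd hQF (card_dvd_of_le hZQ))
    (by rw [stabOn_top]; exact le_top) ((le_cent_iff_comm.1 (hZQ.trans hQc)).le.trans bot_le)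
    (fun e => top_ne_bot (le_bot_iff.1 e))
  rw [top_inf_eq, le_bot_iff] at hζ
  set U := wt ρ Z ζ with hU
  have hQU : Q ≤ stabOn ρ U := hQc.trans (cent_le_stabOn Z ζ)
  have hDU : D ≤ stabOn ρ U := hDc.trans (cent_le_stabOn Z ζ)
  have hxζ : x ∈ wstab Z ζ := H0 Z (zpowers_le.1 hXZ) (le_norm_of_le_cent hDc) ζ U hQU le_rfl hζ
  have hxU : x ∈ stabOn ρ U := wstab_le_stabOn Z ζ hxζ
  have hN := stabOn_le_norm_kerOn (ρ := ρ) U
  have hsc : ∀ z ∈ Z, ∃ c : F, ∀ w ∈ U, ρ z w = c • w := wt_scalar le_rfl ζ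
  set R := relC Q (kerOn ρ U) with hR
  have hRQ : R ≤ Q := relC_le _ _
  have hZR : Z ≤ R := der_le_rad hQU hsc
  have hXR : zpowers x ≤ 𝒩(R) := le_norm_relC (hQU.trans hN) hXQ (zpowers_le.2 (hN hxU))
  have hDR : D ≤ 𝒩(R) := le_norm_relC (hQU.trans hN) hDQ (hDU.trans hN)
  have hRx : ⁅R, zpowers x⁆ ≤ kerOn ρ U := le_kerOn_iff.2 (le_of_wt_inf_le
    (natCast_ne_zero_of_dvd hQF (card_dvd_of_le hRQ)) (hRQ.trans hQU)
    ((commutator_mono le_rfl hRQ).trans (relC_comm_le (hQU.trans hN))) fun l => by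
      by_cases hl : U ⊓ wt ρ R l = ⊥
      · rw [hl]; exact bot_le
      exact inf_le_right.trans (le_kerOn_iff.1 (comm_le_kerOn_wt (zpowers_le.2
        (H0 R (zpowers_le.1 hXR) hDR l _ (le_stabOn_rad hQU l) inf_le_right hl)))))
  have hRs : ∀ z ∈ R, ∃ c : F, ∀ w ∈ U, ρ z w = c • w := fun z hz => by
    obtain ⟨u, hu, c, hc, rfl⟩ := H1.exists_commutator_mul_centralizer hXR (hcx R hRQ) (Or.inl inferInstance) hz
    obtain ⟨a, ha⟩ := hsc c (hC ⟨hRQ hc.1, cent_zpowers x ▸ hc.2⟩)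
    exact ⟨a, fun w hw => by rw [map_mul, End.mul_apply, ha w hw, map_smul, hRx hu w hw]⟩
  have hne : ¬ D ≤ cq Q R := fun h => hker U hζ (commutator_le.2 fun k hk d hd =>
    comm_mem_kerOn_of_scalar (hDU hd) (hRs k (hQD.trans ((le_cq hDR).1 h) hk)))
  have HC : ∀ d ∈ D, d ∉ cq Q R → U ⊓ fix ρ (zpowers x) ≠ ⊥ ∧ s = 2 ∧ d ^ 2 ∈ cq Q R := fun d hd h => by
    obtain ⟨k, hk⟩ := hD ⟨d, hd⟩
    obtain ⟨a, b, c⟩ := hc hr hs.out hrs hx hQF (hcop r hr hqr) (hcop s hs.out hqs) hζ hQU hxQ hxU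
      (congrArg Subtype.val hk) (hDQ hd) (hDU hd) (hxd d hd) hsc hRs (hC.trans hZR)
      (fun w _ hw => hDf hd w (mem_fix_zpowers.2 hw))
      (fun e => h (zpowers_le.1 ((le_cq (zpowers_le.2 (hDR hd))).2 e)))
    exact ⟨a, b, zpowers_le.1 ((le_cq (zpowers_le.2 (hDR (pow_mem hd 2)))).2 c)⟩
  obtain ⟨d0, hd0, hd0'⟩ := SetLike.not_le_iff_exists.1 hne
  obtain ⟨hf, rfl, -⟩ := HC d0 hd0 hd0'
  have hk : ∀ z ∈ Z, z ∈ kerOn ρ (fix ρ (zpowers x)) → z ∈ kerOn ρ U := fun z hz h =>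
    mem_kerOn_of_scalar hf inf_le_left (hsc z hz) (kerOn_anti inf_le_right h)
  have hZx : ⁅Z, zpowers x⁆ ≤ kerOn ρ U := comm_le_kerOn_wt (zpowers_le.2 hxζ)
  rcases hB with hB | ⟨b1, b2, b3, b4, b5⟩
  · refine hne ((le_cq hDR).2 ((comm_le_left hDQ).trans fun k hk' => (mem_relC (hQU.trans hN)).2
      ⟨hk', fun a ha => ?_⟩))
    refine (H1.commutator_sup_centralizer hXZ (hcx Z hZQ) (Or.inl inferInstance)).ge.trans
      (sup_le hZx fun z hz => hk z hz.1 (hB ⟨hz.1, cent_zpowers x ▸ hz.2⟩)) (commutator_mem_commutator hk' ha)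
  have hBZ : B ≤ 𝒩(Z) := le_norm_comm b2 b2
  have hBw : B ≤ wstab Z ζ := fun b hb => ⟨hBZ hb, fun z hz => by
    obtain ⟨u, hu, c, hc, rfl⟩ := H1.exists_commutator_mul_centralizer hXZ (hcx Z hZQ) (Or.inl inferInstance) hz
    rw [cent_zpowers] at hc
    have h1 : ⁅c⁻¹, b⁻¹⁆ ∈ Z := comm_le_left hBZ (commutator_mem_commutator (inv_mem hc.1) (inv_mem hb))
    have h2 := H1.conj_mem_of_mem_normalizer'
      (le_norm_comm hBZ (le_norm_of_le_cent (b4.trans (cent_zpowers x).ge)) hb) hu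
    have h3 := comm_le_left hXZ
    rw [show b⁻¹ * (u * c) * b = (b⁻¹ * u * b) * (c * ⁅c⁻¹, b⁻¹⁆) by simp only [commutatorElement_def]; group,
      wt_mul hζ (h3 h2) (mul_mem hc.1 h1), wt_mul hζ hc.1 h1, wt_mul hζ (h3 hu) hc.1,
      (mem_kerOn_wt_iff hζ (h3 h2)).1 (hZx h2), (mem_kerOn_wt_iff hζ (h3 hu)).1 (hZx hu),
      (mem_kerOn_wt_iff hζ h1).1 (hk _ h1 (b1 (commutator_mem_commutator (inv_mem hc) (inv_mem hb)))), mul_one]⟩
  have hBR : B ≤ 𝒩(R) := le_norm_rad hQc b2 hBw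
  have hinv : ∀ d ∈ D, d ∉ cq Q R → ∀ k ∈ Q, k * (d * k * d⁻¹) ∈ R := fun d hd h k hk => by
    have h1 := cent_le_rad hp hr rF hqs hqp hqr hx hQ hQU hxQ hxU (hod d hd q hq.out hqs) (hDQ hd) (hDU hd)
      (hxd d hd) hsc (hC.trans hZR) (hDf hd) (fun e => h ⟨hDR hd, fun a ha =>
        (mem_relC (hQU.trans hN)).2 ⟨comm_le_left hDQ (commutator_mem_commutator ha hd), fun c hc =>
          comm_le_left (hQU.trans hN) (commutator_mem_commutator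
            (comm_le_right (hQU.trans hN) (commutator_mem_commutator ha e)) hc)⟩⟩)
    have h2 := H1.conj_mem_of_mem_normalizer (hDQ hd) hk
    refine fpf_mod (hDR hd) hRQ ?_ h1 (mul_mem hk h2) ?_
    · obtain ⟨j, hj⟩ := IsPGroup.iff_card.1 (hQ.to_le hRQ)
      rw [hj]; exact (hod d hd q hq.out hqs).pow_right j
    · rw [show (k * (d * k * d⁻¹))⁻¹ * (d * (k * (d * k * d⁻¹)) * d⁻¹) =
        ⁅(d * k * d⁻¹)⁻¹, k⁻¹⁆ * ⁅k⁻¹, d ^ 2⁆ by simp only [commutatorElement_def, pow_two]; group]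
      exact mul_mem (hZR (commutator_mem_commutator (inv_mem h2) (inv_mem hk)))
        ((HC d hd h).2.2.2 _ (inv_mem hk))
  refine hne (b5.trans (sup_le (commutator_le.2 fun d hd b hb => ?_) fun c hc => ⟨?_, fun k hk => ?_⟩))
  · have hN' := le_norm_cq b2 hBR hb
    rw [commutatorElement_def, mul_assoc, mul_assoc, ← mul_assoc b]
    by_cases h : d ∈ cq Q R
    · exact mul_mem h (H1.conj_mem_of_mem_normalizer hN' (inv_mem h))
    have h1 := H1.conj_mem_of_mem_normalizer (b3 hb) (inv_mem hd)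
    have h2 : b * d⁻¹ * b⁻¹ ∉ cq Q R := fun e => h (by
      simpa [mul_assoc] using inv_mem (H1.conj_mem_of_mem_normalizer' hN' e))
    generalize b * d⁻¹ * b⁻¹ = d' at h1 h2
    refine ⟨hDR (mul_mem hd h1), fun k hk => ?_⟩
    rw [show ⁅k, d * d'⁆ = k * (d * k * d⁻¹) * (d * (k⁻¹ * (d' * k⁻¹ * d'⁻¹)) * d⁻¹) by
      simp only [commutatorElement_def]; group]
    exact mul_mem (hinv d hd h k hk) (H1.conj_mem_of_mem_normalizer (hDR hd) (hinv d' h1 h2 _ (inv_mem hk)))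
  · exact cent_le_norm _ (cent_anti hRQ hc)
  · rw [commutatorElement_eq_one_iff_mul_comm.2 (mem_cent.1 hc k hk)]; exact one_mem _

end H6.Tu
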