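import Cfsg.Agent.H6.Tu3

/-! The inductive step on a level of a tower. -/

set_option autoImplicit false
set_option linter.unusedSectionVars false

namespace H6.Tu
open Module H2 Subgroup H15 Cfsg H9
open scoped commutatorElement

variable {F W Y : Type*} [Field F] [IsAlgClosed F] [AddCommGroup W] [Module F W] [FiniteDimensional F W]
  [Group Y] [Finite Y] {ρ : Y →* End F W}

theorem cop_pg {q l : ℕ} [hq : Fact q.Prime] {Q : Subgroup Y} (hQ : IsPGroup q Q) (hl : l.Prime) (h : q ≠ l) :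
    (Nat.card Q).Coprime l := by
  obtain ⟨k, hk⟩ := IsPGroup.iff_card.1 hQ
  rw [hk]; exact ((Nat.coprime_primes hq.out hl).2 h).pow_left k

theorem cop_ord {q l : ℕ} [hq : Fact q.Prime] {Q : Subgroup Y} (hQ : IsPGroup q Q) (hl : l.Prime) (h : q ≠ l)
    {y : Y} (hy : y ∈ Q) : (orderOf y).Coprime l :=
  (cop_pg hQ hl h).coprime_dvd_left (orderOf_dvd_natCard _ hy)

theorem exists_wt_ne {Z : Subgroup Y} (hZ : (Nat.card Z : F) ≠ 0) (hc : ⁅Z, Z⁆ ≤ ρ.ker) {z : Y}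
    (hz : z ∉ ρ.ker) : ∃ l, z ∉ kerOn ρ (wt ρ Z l) := by
  obtain ⟨l, hl⟩ := exists_wt (ρ := ρ) (U := ⊤) (X := fix ρ (zpowers z)) hZ (by rw [stabOn_top]; exact le_top)
    (by rwa [kerOn_top]) (fun e => hz (kerOn_top (ρ := ρ) ▸ zpowers_le.1 (le_kerOn_iff.2 e)))
  exact ⟨l, fun e => hl (inf_le_right.trans (le_kerOn_iff.1 (zpowers_le.2 e)))⟩

theorem ker_of_J {r : ℕ} (hr : r.Prime) {x : Y} (hx : orderOf x = r) {P M : Subgroup Y} (hMP : M ≤ P)
    (hxM : x ∈ 𝒩(M)) {l : Y → F} (hl : x ∉ wstab M l) {e : Y} (he : Commute x e) (hel : e ∈ wstab M l)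
    (h : ∀ v, ρ x v = v → ρ e v - v ∈ fix ρ ⁅P, zpowers x⁆) : e ∈ kerOn ρ (wt ρ M l) := fun w hw =>
  sub_eq_zero.1 (fw_a hr hx hxM hl (sub_mem (stabOn_apply (wstab_le_stabOn M l hel) hw) hw) (by
    rw [nm_sub, ← nm_comm he]
    exact fun y hy => h _ (nm_fix hx w) y (commutator_mono hMP le_rfl hy)))

theorem nlem {p' p r s : ℕ} (hp' : p'.Prime) [CharP F p'] [hp : Fact p.Prime] (hr : r.Prime) [hs : Fact s.Prime]
    (rF : (r : F) ≠ 0) (hpp : p ≠ p') (hpr : p ≠ r) (hsp : s ≠ p) {x : Y} (hx : orderOf x = r)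
    {G P S : Subgroup Y} (hG : ¬ r ∣ Nat.card G) (hPG : P ≤ G) (hSG : S ≤ G) (hP : IsPGroup p P)
    (hS : IsPGroup s S) (hxP : x ∈ 𝒩(P)) (hxS : x ∈ 𝒩(S)) (hSP : S ≤ 𝒩(P)) (hSc : S ≤ 𝒞(⁅P, P⁆))
    (hPc : P ≤ 𝒞(⁅P, P⁆)) {e : Y} (he : e ∈ P ⊓ 𝒞₁(x)) {t : Y} (ht : t ∈ ⁅S, zpowers x⁆)
    (hne : ⁅e, t⁆ ∉ relC P ρ.ker) (h : ∀ v, ρ x v = v → ρ e v - v ∈ fix ρ ⁅P, zpowers x⁆) : False := by
  have hPF : (Nat.card P : F) ≠ 0 := haveI := Fact.mk hp'; natCast_ne_zero_of_coprime' F (cop_pg hP hp' hpp)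
  set Z := ⁅P, P⁆ with hZ
  have hZP : Z ≤ P := comm_le_left (le_norm_self P)
  have hXP : zpowers x ≤ 𝒩(P) := zpowers_le.2 hxP
  have hXS : zpowers x ≤ 𝒩(S) := zpowers_le.2 hxS
  have hXZ : zpowers x ≤ 𝒩(Z) := le_norm_comm hXP hXP
  have htS : t ∈ S := comm_le_left hXS ht
  have het : ⁅e, t⁆ ∈ P := comm_le_left hSP (commutator_mem_commutator he.1 htS)
  rw [mem_relC le_normalizer_of_normal] at hne
  push Not at hne
  obtain ⟨y, hy, hy'⟩ := hne het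
  obtain ⟨ζ, hζ⟩ := exists_wt_ne (natCast_ne_zero_of_dvd hPF (card_dvd_of_le hZP))
    ((le_cent_iff_comm.1 (hZP.trans hPc)).le.trans bot_le) hy'
  set U := wt ρ Z ζ with hU
  have hPU : P ≤ stabOn ρ U := hPc.trans (cent_le_stabOn Z ζ)
  have hSU : S ≤ stabOn ρ U := hSc.trans (cent_le_stabOn Z ζ)
  have hN := stabOn_le_norm_kerOn (ρ := ρ) U
  have hsc : ∀ z ∈ Z, ∃ c : F, ∀ w ∈ U, ρ z w = c • w := wt_scalar le_rfl ζ
  set R := relC P (kerOn ρ U) with hR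
  have hSR : S ≤ 𝒩(R) := le_norm_relC (hPU.trans hN) hSP (hSU.trans hN)
  have hetR : ⁅e, t⁆ ∉ R := fun e => hζ (((mem_relC (hPU.trans hN)).1 e).2 y hy)
  have heR : e ∉ R := fun h => hetR (comm_le_left hSR (commutator_mem_commutator h htS))
  have hkR : P ⊓ kerOn ρ U ≤ R := fun k hk => (mem_relC (hPU.trans hN)).2 ⟨hk.1, fun a ha =>
    comm_le_left (hPU.trans hN) (commutator_mem_commutator hk.2 ha)⟩
  have hxe : Commute x e := (mem_cent1.1 he.2).symm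
  have hxζ : x ∈ wstab Z ζ := by_contra fun hc => heR (hkR ⟨he.1,
    ker_of_J hr hx hZP (zpowers_le.1 hXZ) hc hxe (cent_le_wstab Z ζ (hPc he.1)) h⟩)
  have hxU : x ∈ stabOn ρ U := wstab_le_stabOn Z ζ hxζ
  have h1 : U ⊓ fix ρ ⁅P, zpowers x⁆ = ⊥ := by_contra fun hc => by
    have h2 : ⁅P, zpowers x⁆ ≤ R := fun k hk => (mem_relC (hPU.trans hN)).2 ⟨comm_le_left hXP hk, fun a ha =>
      mem_kerOn_of_scalar hc inf_le_left (hsc _ (commutator_mem_commutator (comm_le_left hXP hk) ha))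
        (le_kerOn_iff.2 inf_le_right (comm_le_left (normalizer_commutator_ge_left P (zpowers x))
          (commutator_mem_commutator hk ha)))⟩
    have h3 := (le_cq (le_norm_relC (hPU.trans hN) hXP (zpowers_le.2 (hN hxU)))).2 h2
    exact hetR (((commutator_mono le_rfl h3).trans (comm_le_right (le_norm_cq hSP hSR)) ht).2 e he.1)
  have h2 : U ⊓ fix ρ (zpowers x) ≠ ⊥ := fun hc => by
    obtain ⟨K, k0, k1, k2⟩ := hh_wrap hp' hr rF hx (H := P ⊔ S) (zpowers_le.1 (le_norm_sup hXP hXS))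
      (fun e => hG (e.trans (card_dvd_of_le (sup_le hPG hSG)))) (sup_le hPU hSU) hxU hc
    have h3 : t ∈ ⁅P ⊔ S, zpowers x⁆ := commutator_mono le_sup_right le_rfl ht
    refine hetR (hkR ⟨het, k1 _ ?_ (cop_ord hP hp' hpp het)⟩)
    by_cases p2 : p = 2
    · exact comm_le_right k0 (commutator_mem_commutator (mem_sup_left he.1)
        (k2 t h3 (cop_ord hS Nat.prime_two (p2 ▸ hsp) htS)))
    · exact k2 _ (comm_le_right (normalizer_commutator_ge_left _ _)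
        (commutator_mem_commutator (mem_sup_left he.1) h3)) (cop_ord hP Nat.prime_two p2 het)
  have h3 : e ∈ kerOn ρ (U ⊓ fix ρ (zpowers x)) := fun w hw => sub_eq_zero.1 ((Submodule.mem_bot F).1
    (h1 ▸ ⟨sub_mem (stabOn_apply (hPU he.1) hw.1) hw.1, h w (mem_fix_zpowers.1 hw.2)⟩))
  refine heR ((mem_relC (hPU.trans hN)).2 ⟨he.1, fun a ha => ?_⟩)
  obtain ⟨u, hu, c, hc, rfl⟩ := H1.exists_commutator_mul_centralizer hXP
    (by rw [Nat.card_zpowers, hx]; exact (cop_pg hP hr hpr).symm) (Or.inl inferInstance) ha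
  rw [show ⁅e, u * c⁆ = ⁅u, e⁆⁻¹ * (u * ⁅e, c⁆ * u⁻¹) by simp only [commutatorElement_def]; group]
  refine mul_mem (inv_mem (comm_cent_le_kerOn hPU (zpowers_le.2 hxU) hXP hsc
    (by rwa [cent_zpowers]) u hu)) (H1.conj_mem_of_mem_normalizer
      (hN (hPU (comm_le_left hXP hu))) (mem_kerOn_of_scalar h2 inf_le_left
        (hsc _ (commutator_mem_commutator he.1 hc.1)) ?_))
  have h4 : P ⊓ 𝒞(zpowers x) ≤ stabOn ρ (U ⊓ fix ρ (zpowers x)) := le_stabOn fun b hb w hw =>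
    ⟨stabOn_apply (hPU hb.1) hw.1, mem_fix_zpowers.2 (by
      rw [← End.mul_apply, ← map_mul, mem_cent.1 hb.2 x (mem_zpowers x), map_mul, End.mul_apply,
        mem_fix_zpowers.1 hw.2])⟩
  exact comm_le_left (h4.trans (stabOn_le_norm_kerOn _)) (commutator_mem_commutator h3 hc)

/-- linear characters, written additively -/
def Ch (F P : Type*) [Field F] [Group P] : Type _ := Additive (P →* Fˣ)

instance chGroup (F P : Type*) [Field F] [Group P] : AddCommGroup (Ch F P) :=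
  inferInstanceAs (AddCommGroup (Additive (P →* Fˣ)))

/-- the underlying homomorphism -/
def Ch.ch {F P : Type*} [Field F] [Group P] (χ : Ch F P) : P →* Fˣ := Additive.toMul χ

theorem Ch.ext {F P : Type*} [Field F] [Group P] {a b : Ch F P} (h : ∀ k, a.ch k = b.ch k) : a = b :=
  Additive.toMul.injective (MonoidHom.ext h)

variable (F) in
/-- action on linear characters of a normal subgroup -/
def act (P : Subgroup Y) [P.Normal] : Y →* End ℤ (Ch F P) where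
  toFun y := AddMonoidHom.toIntLinearMap
    { toFun := fun χ => Additive.ofMul (χ.ch.comp (MulAut.conjNormal y⁻¹).toMonoidHom)
      map_zero' := rfl
      map_add' := fun _ _ => rfl }
  map_one' := LinearMap.ext fun χ => Ch.ext fun k => congrArg χ.ch (Subtype.ext (by simp))
  map_mul' a b := LinearMap.ext fun χ => Ch.ext fun k => congrArg χ.ch (Subtype.ext (by simp [mul_assoc]))

omit [IsAlgClosed F] [Finite Y] in
theorem act_apply {P : Subgroup Y} [P.Normal] (y : Y) (χ : Ch F P) (k : P) :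
    (act F P y χ).ch k = χ.ch (MulAut.conjNormal y⁻¹ k) := rfl

variable (F) in
/-- the abelian case -/
def AB (P : Subgroup Y) [P.Normal] (S E : Subgroup Y) (x : Y) : Prop :=
  ∀ χ : Ch F P, act F P x χ = χ →
    (∀ s ∈ S, act F P x (act F P s χ) ≠ act F P s χ → ∀ e : P, (e : Y) ∈ E → (act F P s χ).ch e = 1) →
    (∃ t ∈ ⁅S, zpowers x⁆, act F P t χ ≠ χ) → ∀ e : P, (e : Y) ∈ E → χ.ch e = 1

theorem exists_chi {P : Subgroup Y} {l : Y → F} (hl : wt ρ P l ≠ ⊥) : ∃ χ : P →* Fˣ, ∀ k : P, (χ k : F) = l k := by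
  have h1 : l 1 = 1 := (mem_kerOn_wt_iff hl (one_mem P)).1 (one_mem _)
  let χ : P →* F := ⟨⟨fun k => l k, h1⟩, fun a b => wt_mul hl a.2 b.2⟩
  exact ⟨χ.toHomUnits, fun k => rfl⟩

theorem wt_conj_ne {P : Subgroup Y} [P.Normal] {l : Y → F} (hl : wt ρ P l ≠ ⊥) (u : Y) :
    (wt ρ P fun k => l (u⁻¹ * k * u)) ≠ ⊥ := fun h => by
  obtain ⟨w, hw, w0⟩ := Submodule.exists_mem_ne_zero_of_ne_bot hl
  have := (Submodule.mem_bot F).1 (h ▸ wt_apply (le_normalizer_of_normal (mem_top u)) hw)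
  exact w0 (by rw [← rep_inv_apply ρ u w, this, map_zero])

theorem jlem {p' p r s : ℕ} (hp' : p'.Prime) [CharP F p'] [hp : Fact p.Prime] (hr : r.Prime) [hs : Fact s.Prime]
    (rF : (r : F) ≠ 0) (hpp : p ≠ p') (hpr : p ≠ r) (hsp : s ≠ p) {x : Y} (hx : orderOf x = r)
    {G P S E : Subgroup Y} [P.Normal] (hG : ¬ r ∣ Nat.card G) (hPG : P ≤ G) (hSG : S ≤ G) (hP : IsPGroup p P)
    (hS : IsPGroup s S) (hxS : x ∈ 𝒩(S)) (hSc : S ≤ 𝒞(⁅P, P⁆)) (hPc : P ≤ 𝒞(⁅P, P⁆))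
    (hmin : ∀ P0 < P, P0.Normal → P0 ≤ ⁅P, P⁆) (hE : E ≤ P ⊓ 𝒞₁(x)) {e : Y} (he : e ∈ E) {t : Y}
    (ht : t ∈ ⁅S, zpowers x⁆) (hne : ⁅e, t⁆ ∉ ⁅P, P⁆) (hAB : AB F P S E x) (h0 : fix ρ P = ⊥) [Nontrivial W] :
    ∃ e ∈ E, ∃ v, ρ x v = v ∧ ρ e v - v ∉ fix ρ ⁅P, zpowers x⁆ := by
  by_contra h
  push Not at h
  have nP : ∀ y : Y, y ∈ 𝒩(P) := fun y => le_normalizer_of_normal (mem_top y)
  by_cases hab : ⁅P, P⁆ ≤ ρ.ker
  swap
  · refine nlem hp' hr rF hpp hpr hsp hx hG hPG hSG hP hS (nP x) hxS le_normalizer_of_normal hSc hPc (hE he) ht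
      (fun c => hne (hmin _ (lt_of_le_of_ne (relC_le _ _) fun e => hab ?_) (normalizer_eq_top_iff.1
        (top_le_iff.1 (le_norm_relC le_normalizer_of_normal le_normalizer_of_normal le_normalizer_of_normal))) c))
      (h e he)
    exact (commutator_mono e.ge le_rfl).trans (relC_comm_le le_normalizer_of_normal)
  have hPF : (Nat.card P : F) ≠ 0 := haveI := Fact.mk hp'; natCast_ne_zero_of_coprime' F (cop_pg hP hp' hpp)
  have heP := (hE he).1
  have het : ⁅e, t⁆ ∈ P := comm_le_left (le_normalizer_of_normal (K := ⊤)) (commutator_mem_commutator heP (mem_top t))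
  obtain ⟨l, hl⟩ := exists_wt_ne hPF hab (z := ⁅e, t⁆) fun c => hne (hmin (P ⊓ ρ.ker)
    (lt_of_le_of_ne inf_le_left fun e => top_ne_bot (le_bot_iff.1 (h0 ▸ le_kerOn_iff.1
      (kerOn_top (ρ := ρ) ▸ inf_eq_left.1 e)))) inferInstance ⟨het, c⟩)
  have hl0 : wt ρ P l ≠ ⊥ := fun c => hl fun w hw => by rw [c] at hw; rw [(Submodule.mem_bot F).1 hw, map_zero]
  rw [mem_kerOn_wt_iff hl0 het] at hl
  have star : ∀ l : Y → F, wt ρ P l ≠ ⊥ → x ∉ wstab P l → ∀ e ∈ E, l e = 1 := fun l h1 h2 e he =>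
    (mem_kerOn_wt_iff h1 (hE he).1).1 (ker_of_J hr hx le_rfl (nP x) h2 (mem_cent1.1 (hE he).2).symm
      ⟨nP e, fun k hk => by
        have a1 := (hE he).1
        rw [wt_mul h1 (mul_mem (inv_mem a1) hk) a1, mul_comm, ← wt_mul h1 a1 (mul_mem (inv_mem a1) hk),
          mul_inv_cancel_left]⟩ (h e he))
  have key : ∀ l : Y → F, wt ρ P l ≠ ⊥ → ∀ t ∈ ⁅S, zpowers x⁆, t ∉ wstab P l → l e = 1 := by
    intro l h1 t ht h2
    by_cases h3 : x ∈ wstab P l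
    swap
    · exact star l h1 h3 e he
    obtain ⟨χ, hχ⟩ := exists_chi h1
    have a1 : ∀ (u : Y) (k : P), ((act F P u (Additive.ofMul χ)).ch k : F) = l (u⁻¹ * k * u) := fun u k =>
      (hχ _).trans (by simp)
    rw [← hχ ⟨e, heP⟩, show χ ⟨e, heP⟩ = 1 from hAB (Additive.ofMul χ) ?_ (fun s _ c a ha => ?_) ⟨t, ht, fun c => ?_⟩
      ⟨e, heP⟩ he, Units.val_one]
    · exact Ch.ext fun k => Units.ext (by rw [a1, h3.2 k k.2]; exact (hχ k).symm)
    · refine Units.ext ((a1 s a).trans (star _ (wt_conj_ne h1 s) (fun c' => c ?_) a ha))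
      refine Ch.ext fun k => Units.ext ?_
      rw [act_apply, a1, a1]; simpa using c'.2 k k.2
    · exact h2 ⟨nP t, fun k hk => by rw [← a1 t ⟨k, hk⟩, c]; exact hχ _⟩
  have h4 : t * e⁻¹ * t⁻¹ ∈ P := Normal.conj_mem inferInstance _ (inv_mem heP) t
  have h5 : t * e * t⁻¹ ∈ P := Normal.conj_mem inferInstance _ heP t
  have h6 : l e ≠ l (t * e * t⁻¹) := fun c => hl (by
    rw [commutatorElement_def, mul_assoc, mul_assoc, ← mul_assoc t, wt_mul hl0 heP h4, c, ← wt_mul hl0 h5 h4,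
      show t * e * t⁻¹ * (t * e⁻¹ * t⁻¹) = 1 by group]
    exact (mem_kerOn_wt_iff hl0 (one_mem P)).1 (one_mem _))
  refine h6 ((key l hl0 t⁻¹ (inv_mem ht) fun c => h6 ?_).trans (Eq.symm ?_))
  · rw [← c.2 e heP, inv_inv]
  · have := key _ (wt_conj_ne hl0 t⁻¹) t ht fun c => h6 (by
      have := c.2 e heP
      simpa [mul_assoc] using this)
    rwa [inv_inv] at this

end H6.Tu
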