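import Cfsg.Agent.H6.Tu4
import Cfsg.Agent.H20.TuA2

/-! Configurations on the levels of a tower. -/

set_option autoImplicit false
set_option linter.unusedSectionVars false

namespace H6.Tu
open Module H2 Subgroup H15 Cfsg H9
open scoped commutatorElement

universe u

section
variable {F Y : Type*} [Field F] [Group Y] [Finite Y] {P : Subgroup Y} [P.Normal]

theorem exists_lift {Y' E : Type*} [Group Y'] [Monoid E] {g : Y →* Y'} (hg : Function.Surjective g) (σ : Y →* E)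
    (h : ∀ y, g y = 1 → σ y = 1) : ∃ σ' : Y' →* E, ∀ y, σ' (g y) = σ y :=
  ⟨(Units.coeHom E).comp (g.liftOfSurjective hg ⟨σ.toHomUnits, fun y hy => Units.ext (h y hy)⟩), fun y => by
    simp [MonoidHom.liftOfSurjective]⟩

theorem ch_sum {ι : Type*} (s : Finset ι) (a : ι → Ch F P) (k : P) :
    (∑ i ∈ s, a i).ch k = ∏ i ∈ s, (a i).ch k := by
  classical
  induction s using Finset.induction_on with
  | empty => rfl
  | insert i s hi ih => rw [Finset.sum_insert hi, Finset.prod_insert hi, ← ih]; rfl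

theorem ch_kill {a : Ch F P} {H B : Subgroup Y} (hH : H ≤ P) (h : ∀ b ∈ B, act F P b a = a) (k : P)
    (hk : (k : Y) ∈ ⁅H, B⁆) : a.ch k = 1 := by
  have : ⁅H, B⁆ ≤ a.ch.ker.map P.subtype := commutator_le.2 fun y hy b hb => by
    refine ⟨⟨y, hH hy⟩ * MulAut.conjNormal b (⟨y, hH hy⟩ : P)⁻¹, ?_, by simp [commutatorElement_def, mul_assoc]⟩
    have := act_apply b⁻¹ a (⟨y, hH hy⟩ : P)⁻¹
    rw [h _ (inv_mem hb), inv_inv] at this
    rw [SetLike.mem_coe, MonoidHom.mem_ker, map_mul, ← this, ← map_mul, mul_inv_cancel, map_one]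
  obtain ⟨k', h1, h2⟩ := this hk
  rwa [← show k' = k from Subtype.ext h2]

theorem ch_ext {x : Y} (hx : (orderOf x).Coprime (Nat.card P)) {a b : Ch F P} (ha : act F P x a = a)
    (hb : act F P x b = b) (h : ∀ k : P, (k : Y) ∈ 𝒞₁(x) → a.ch k = b.ch k) : a = b := Ch.ext fun k => by
  have h1 : ∀ a : Ch F P, act F P x a = a → ∀ y ∈ zpowers x, act F P y a = a := fun a ha y hy => by
    obtain ⟨j, rfl⟩ := mem_powers_iff_mem_zpowers.2 hy
    induction j with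
    | zero => simp
    | succ j ih => simp only [pow_succ, map_mul, End.mul_apply, ha]; exact ih (pow_mem (mem_zpowers x) j)
  obtain ⟨u, hu, c, hc, e⟩ := H1.exists_commutator_mul_centralizer (A := zpowers x) (K := P)
    le_normalizer_of_normal (by rwa [Nat.card_zpowers]) (Or.inl inferInstance) k.2
  have hu' : u ∈ P := comm_le_left le_normalizer_of_normal hu
  rw [show k = ⟨u, hu'⟩ * ⟨c, hc.1⟩ from Subtype.ext e, map_mul, map_mul, ch_kill le_rfl (h1 a ha) _ hu,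
    ch_kill le_rfl (h1 b hb) _ hu, h _ (cent_zpowers x ▸ hc.2)]

theorem nmz_fix {M : Type*} [AddCommGroup M] (σ : Y →* End ℤ M) {x : Y} {r : ℕ} (hx : orderOf x = r) (m : M) :
    σ x (∑ i ∈ Finset.range r, σ (x ^ i) m) = ∑ i ∈ Finset.range r, σ (x ^ i) m := by
  have h3 := LinearMap.congr_fun (mul_geom_sum (σ x) r) m
  rw [← map_pow, ← hx, pow_orderOf_eq_one, map_one, sub_self, End.mul_apply,
    LinearMap.sub_apply, LinearMap.zero_apply, sub_eq_zero, End.one_apply, LinearMap.sum_apply, hx] at h3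
  simpa only [map_pow] using h3

theorem nmz_ch {x : Y} (r : ℕ) (a : Ch F P) (k : P) (hk : (k : Y) ∈ 𝒞₁(x)) :
    (∑ i ∈ Finset.range r, act F P (x ^ i) a).ch k = a.ch k ^ r := by
  rw [ch_sum, Finset.prod_congr rfl (g := fun _ => a.ch k), Finset.prod_const, Finset.card_range]
  intro i _
  rw [act_apply]
  congr 1
  have : Commute x k := (mem_cent1.1 hk).symm
  refine Subtype.ext ?_
  show (x ^ i)⁻¹ * k * (x ^ i)⁻¹⁻¹ = k
  rw [inv_inv, mul_assoc, ← (this.pow_left i).eq, inv_mul_cancel_left]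

theorem ab_of {x : Y} {r : ℕ} (hx : orderOf x = r) (hc : r.Coprime (Nat.card P)) {S D : Subgroup Y}
    (hD : D ≤ 𝒞₁(x)) (H : ∀ l : Ch F P, act F P x l = l → (∀ s ∈ S, act F P x (act F P s l) ≠ act F P s l →
      ∀ d ∈ D, act F P d (∑ i ∈ Finset.range r, act F P (x ^ i) (act F P s l)) =
        ∑ i ∈ Finset.range r, act F P (x ^ i) (act F P s l)) → (∃ t ∈ ⁅S, zpowers x⁆, act F P t l ≠ l) →
      ∀ d ∈ D, act F P d l = l) : AB F P S ⁅P ⊓ 𝒞₁(x), D⁆ x := fun χ h1 h2 h3 =>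
  ch_kill inf_le_left (H χ h1 (fun s hs h d hd => ch_ext (hx ▸ hc) (by
    rw [← End.mul_apply, ← map_mul, ← mem_cent1.1 (hD hd), map_mul, End.mul_apply, nmz_fix _ hx]) (nmz_fix _ hx _)
    fun k hk => by
      have hk' : ((MulAut.conjNormal d⁻¹ k : P) : Y) ∈ 𝒞₁(x) := by
        simpa using mul_mem (mul_mem (inv_mem (hD hd)) hk) (hD hd)
      rw [act_apply, nmz_ch r _ _ hk', nmz_ch r _ _ hk, ← mul_inv_cancel_left k (MulAut.conjNormal d⁻¹ k),
        map_mul, h2 s hs h (k⁻¹ * _) (by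
          simpa [commutatorElement_def, mul_assoc] using
            commutator_mem_commutator (inv_mem (show (k : Y) ∈ P ⊓ 𝒞₁(x) from ⟨k.2, hk⟩)) (inv_mem hd)), mul_one]) h3)

theorem ab_gam {x : Y} {r : ℕ} (hx : orderOf x = r) (hc : r.Coprime (Nat.card P)) {S : Subgroup Y}
    (H : ∀ l : Ch F P, act F P x l = l → (∀ s ∈ S, act F P x (act F P s l) ≠ act F P s l →
      ∑ i ∈ Finset.range r, act F P (x ^ i) (act F P s l) = 0) → ∀ t ∈ ⁅S, zpowers x⁆, act F P t l = l) :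
    AB F P S (P ⊓ 𝒞₁(x)) x := fun χ h1 h2 ⟨t, ht, h3⟩ => (h3 (H χ h1 (fun s hs h =>
      ch_ext (hx ▸ hc) (nmz_fix _ hx _) (map_zero _) fun k hk => by
        rw [nmz_ch r _ _ hk, h2 s hs h k ⟨k.2, hk⟩, one_pow]; rfl) t ht)).elim

theorem ch_tors {r : ℕ} (hc : r.Coprime (Nat.card P)) (a : Ch F P) (h : r • a = 0) : a = 0 := Ch.ext fun k => by
  have h1 : a.ch k ^ r = 1 := by
    have := ch_sum (Finset.range r) (fun _ => a) k
    rw [Finset.sum_const, Finset.prod_const, Finset.card_range, h] at this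
    exact this.symm
  have h2 : a.ch k ^ Nat.card P = 1 := by rw [← map_pow, pow_card_eq_one', map_one]
  exact (pow_eq_one_iff_of_coprime hc).1 ⟨h1, h2⟩

theorem act_eq_one {y : Y} (h : ∀ k ∈ P, ⁅k, y⁆ ∈ ⁅P, P⁆) : act F P y⁻¹ = 1 :=
  LinearMap.ext fun a => Ch.ext fun k => by
    have h1 := ch_kill (a := a) (B := P) le_rfl (fun b hb => Ch.ext fun k => by
      rw [act_apply, show MulAut.conjNormal b⁻¹ k = (⟨b, hb⟩ : P)⁻¹ * k * ⟨b, hb⟩ from Subtype.ext (by simp),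
        map_mul, map_mul, map_inv, mul_right_comm, inv_mul_cancel, one_mul])
      (k⁻¹ * MulAut.conjNormal y k) (by simpa [commutatorElement_def, mul_assoc] using h _ (inv_mem k.2))
    rw [map_mul, map_inv, inv_mul_eq_one] at h1
    rw [act_apply, inv_inv, ← h1]; rfl

theorem fix_nrm {T : Subgroup Y} {f : homSp F P ⊥} : f ∈ fix (nrmRep F P) T ↔ ∀ y ∈ ⁅P, T⁆, (f : Y → F) y = 0 := by
  have h1 : f ∈ fix (nrmRep F P) T ↔ (f : Y → F) ∈ homSp F P ⊥ ⊓ fix (conjRep F Y) T :=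
    ⟨fun h => ⟨f.2, fun t ht => congrArg Subtype.val (h t ht)⟩, fun h t ht => Subtype.ext (h.2 t ht)⟩
  rw [h1, homSp_inf_fix le_normalizer_of_normal]
  refine ⟨fun h y hy => h.2.2 y (mem_sup_right hy), fun h => ⟨f.2.1, f.2.2.1, fun y hy => ?_⟩⟩
  have : homKer F P ⊔ ⁅P, T⁆ ≤ homZero f.2 := sup_le (fun z hz => ⟨hz.1, hz.2 _ f.2⟩)
    fun z hz => ⟨comm_le_left le_normalizer_of_normal hz, h z hz⟩
  exact (this hy).2

theorem hom_avg {T : Subgroup Y} (hT : (Nat.card T : F) ≠ 0) {y : Y} (hy : y ∈ ⁅P, T⁆)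
    (h : ∀ t ∈ T, ⁅y, t⁆ ∈ ⁅P, P⁆) (f : homSp F P ⊥) : (f : Y → F) y = 0 := by
  haveI := Fintype.ofFinite T
  have hyP : y ∈ P := comm_le_left le_normalizer_of_normal hy
  have h1 : ∑ t : T, nrmRep F P t f ∈ fix (nrmRep F P) T := fun s hs => by
    rw [map_sum, ← Equiv.sum_comp (Equiv.mulLeft (⟨s, hs⟩ : T)) fun t : T => nrmRep F P t f]
    exact Finset.sum_congr rfl fun t _ => by simp
  have h2 := fix_nrm.1 h1 y hy
  rw [Submodule.coe_sum, Finset.sum_apply, Finset.sum_congr rfl (g := fun _ => (f : Y → F) y), Finset.sum_const,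
    nsmul_eq_mul, Finset.card_univ, ← Nat.card_eq_fintype_card] at h2
  · exact (mul_eq_zero.1 h2).resolve_left hT
  intro t _
  have h3 := commutator_le_homKer (F := F) P (inv_mem (h _ (inv_mem t.2)))
  rw [nrmRep_apply, show (t : Y)⁻¹ * y * t = ⁅y, (t : Y)⁻¹⁆⁻¹ * y by simp only [commutatorElement_def]; group,
    f.2.1 _ h3.1 _ hyP, h3.2 _ f.2, zero_add]

theorem dual {x : Y} (hx : (orderOf x).Coprime (Nat.card P)) {T E : Subgroup Y} (hT : (Nat.card T : F) ≠ 0)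
    (hxT : x ∈ 𝒩(T)) (h : ∀ e ∈ E, ∀ t ∈ T, ⁅e, t⁆ ∈ ⁅P, P⁆) {g f : homSp F P ⊥} (hg : nrmRep F P x g = g)
    (hf : ∀ c ∈ ⁅P, T⁆ ⊓ 𝒞₁(x), ∃ y ∈ E ⊓ ⁅P, T⁆, (g : Y → F) c = (f : Y → F) y) : g ∈ fix (nrmRep F P) T := by
  have hle : ⁅P, T⁆ ≤ P := comm_le_left le_normalizer_of_normal
  refine fix_nrm.2 fun y hy => ?_
  obtain ⟨u, hu, c, hc, rfl⟩ := H1.exists_commutator_mul_centralizer (A := zpowers x)
    (le_norm_comm le_normalizer_of_normal (zpowers_le.2 hxT))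
    (by rw [Nat.card_zpowers]; exact hx.coprime_dvd_right (card_dvd_of_le hle)) (Or.inl inferInstance) hy
  have hu' := commutator_mono hle le_rfl hu
  obtain ⟨y, hy, e⟩ := hf c ⟨hc.1, cent_zpowers x ▸ hc.2⟩
  rw [g.2.1 _ (comm_le_left le_normalizer_of_normal hu') _ (hle hc.1), fix_nrm.1 (mem_fix_zpowers.2 hg) u hu', e,
    hom_avg hT hy.2 (h y hy.1), add_zero]

theorem le_norm_nres {A D : Subgroup Y} (h : A ≤ 𝒩(D)) (k : ℕ) : A ≤ 𝒩(nres^[k] D) :=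
  le_norm_of_cj_le fun a ha => by rw [map_nres_iter, cj_of_mem_norm (h ha)]

theorem nres_iter_le (D : Subgroup Y) (k : ℕ) : nres^[k] D ≤ D := nres_iter_anti D (Nat.zero_le k)

theorem comm_le_nres {H D M : Subgroup Y} (hH : H ≤ 𝒩(M)) (hD : D ≤ M) (hDH : D ≤ 𝒩(H))
    (hc : (Nat.card D).Coprime (Nat.card H)) (hs : Group.IsSolvable D ∨ Group.IsSolvable H) : ⁅H, D⁆ ≤ nres M :=
  le_iInf fun k => by
    induction k with
    | zero => exact (commutator_mono le_rfl hD).trans (comm_le_right hH)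
    | succ k ih =>
      rw [← H1.commutator_commutator_eq hDH hc hs]
      exact commutator_mono ih hD

end

variable {Y : Type u} [Group Y] [Finite Y]

/-- an element of prime order acting on a subgroup of coprime order -/
structure Bas (x : Y) (G : Subgroup Y) (r : ℕ) : Prop where
  rp : r.Prime
  ord : orderOf x = r
  nrm : G.Normal
  cop : ¬ r ∣ Nat.card G

theorem Bas.cp {x : Y} {G : Subgroup Y} {r : ℕ} (b : Bas x G r) {H : Subgroup Y} (h : H ≤ G) :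
    r.Coprime (Nat.card H) := ((Nat.Prime.coprime_iff_not_dvd b.rp).2 b.cop).coprime_dvd_right (card_dvd_of_le h)

theorem Bas.cz {x : Y} {G : Subgroup Y} {r : ℕ} (b : Bas x G r) {H : Subgroup Y} (h : H ≤ G) :
    (Nat.card (zpowers x)).Coprime (Nat.card H) := by rw [Nat.card_zpowers, b.ord]; exact b.cp h

theorem Bas.ne {x : Y} {G : Subgroup Y} {r : ℕ} (b : Bas x G r) {H : Subgroup Y} (h : H ≤ G) {q : ℕ}
    [Fact q.Prime] (hq : IsPGroup q H) (h0 : H ≠ ⊥) : q ≠ r := by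
  rintro rfl
  obtain ⟨k, hk⟩ := IsPGroup.iff_card.1 hq
  have := b.cp h
  rw [hk] at this
  rcases k with _ | k
  · exact h0 (card_eq_one.1 hk)
  · exact b.rp.ne_one ((Nat.coprime_self _).1 (this.coprime_dvd_right (dvd_pow_self _ k.succ_ne_zero)))

/-- a fixed vector moved by `d` -/
def JJ {F W : Type*} [Field F] [AddCommGroup W] [Module F W] (ρ : Y →* End F W) (x : Y) (S : Subgroup Y) (d : Y) :
    Prop := ∃ v, ρ x v = v ∧ ρ d v - v ∉ fix ρ ⁅S, zpowers x⁆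

/-- a level not centralized by `x`, or below such a level -/
structure Cfg (x : Y) (G S : Subgroup Y) (q r j : ℕ) : Prop where
  nS : S.Normal
  SG : S ≤ G
  qS : IsPGroup q S
  ne : S ≠ ⊥
  cl : ⁅⁅S, S⁆, S⁆ = ⊥
  J : ∀ (F : Type) [Field F] [IsAlgClosed F] (p : ℕ) [CharP F p], p.Prime → q ≠ p → (r : F) ≠ 0 →
    ∀ (W : Type u) [AddCommGroup W] [Module F W] [FiniteDimensional F W] [Nontrivial W] (ρ : Y →* End F W),
      fix ρ S = ⊥ → (∃ d ∈ S ⊓ nres^[j - 2] (G ⊓ 𝒞₁(x)), JJ ρ x S d) ∨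
        (∃ D ≤ nres^[j - 1] (G ⊓ 𝒞₁(x)), S ≤ ⁅S, D⁆ ∧ S ≤ ⁅S, zpowers x⁆ ∧ ∃ d ∈ D, JJ ρ x S d) ∨
        (j = 0 ∧ ⁅S, S⁆ = ⊥ ∧ ∃ v, ρ x v = v ∧ v ∉ fix ρ ⁅S, zpowers x⁆)

/-- a minimal nontrivial action -/
structure St (x : Y) (G L S P : Subgroup Y) (p q r : ℕ) : Prop where
  bas : Bas x G r
  xL : x ∈ L
  SL : S ≤ L
  LS : L ≤ 𝒩(S)
  LP : L ≤ 𝒩(P)
  PG : P ≤ G
  SG : S ≤ G
  pP : IsPGroup p P
  qS : IsPGroup q S
  pq : p ≠ q
  ne : ¬ S ≤ 𝒞(P)
  min : ∀ P0 < P, L ≤ 𝒩(P0) → S ≤ 𝒞(P0)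

namespace St
variable {x : Y} {G L S P : Subgroup Y} {p q r : ℕ} [hp : Fact p.Prime] [hq : Fact q.Prime]
  (h : St x G L S P p q r)
include h

theorem P0 : P ≠ ⊥ := by rintro rfl; exact h.ne (by rw [cent_bot]; exact le_top)
theorem S0 : S ≠ ⊥ := by rintro rfl; exact h.ne bot_le
theorem pr : p ≠ r := h.bas.ne h.PG h.pP h.P0
theorem qr : q ≠ r := h.bas.ne h.SG h.qS h.S0
theorem cop : (Nat.card S).Coprime (Nat.card P) := H1.IsPGroup.coprime_card h.qS (cop_pg h.pP hq.out h.pq)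

theorem comm : ⁅P, S⁆ = P := by
  by_contra e
  have := h.min _ (lt_of_le_of_ne (comm_le_left (h.SL.trans h.LP)) e) (le_norm_comm h.LP h.LS)
  exact h.ne (H1.le_centralizer_of_commutator_commutator_eq_bot (h.SL.trans h.LP) h.cop
    (le_cent_iff_comm.1 (cent_comm this)))

theorem lt : ⁅P, P⁆ < P := haveI := h.pP.isNilpotent; H1.commutator_self_lt inferInstance h.P0

theorem Sc : S ≤ 𝒞(⁅P, P⁆) := h.min _ h.lt (le_norm_comm h.LP h.LP)

theorem minP (P0 : Subgroup Y) (h1 : P0 < P) (h2 : L ≤ 𝒩(P0)) : P0 ≤ ⁅P, P⁆ := by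
  refine le_trans ?_ (inf_cent_inf_comm_le (h.SL.trans h.LP) h.cop)
  rw [h.comm]; exact le_inf (le_inf h1.le (cent_comm (h.min P0 h1 h2))) h1.le

theorem cent : P ≤ 𝒞(⁅P, P⁆) := by
  rw [le_cent_iff_comm]
  conv_lhs => enter [1]; rw [← h.comm]
  refine commutator_commutator_eq_bot_of_rotate ?_ ?_
  · rw [le_cent_iff_comm.1 h.Sc, commutator_bot_left]
  · exact le_cent_iff_comm.1 (cent_comm (h.Sc.trans (cent_anti
      (comm_le_left (le_norm_comm (le_norm_self P) (le_norm_self P))))))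

theorem sub : St (⟨x, mem_sup_right h.xL⟩ : ↥(P ⊔ L)) (G.subgroupOf _) (L.subgroupOf _) (S.subgroupOf _)
    (P.subgroupOf _) p q r where
  bas := ⟨h.bas.rp, (orderOf_coe _).symm.trans h.bas.ord, h.bas.nrm.subgroupOf _, fun e => h.bas.cop
    (e.trans (card_comap_dvd_of_injective _ _ (subtype_injective _)))⟩
  xL := h.xL
  SL := comap_mono h.SL
  LS := (comap_mono h.LS).trans (subgroupOf_norm (h.SL.trans le_sup_right)).le
  LP := (comap_mono h.LP).trans (subgroupOf_norm le_sup_left).le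
  PG := comap_mono h.PG
  SG := comap_mono h.SG
  pP := h.pP.comap_subtype
  qS := h.qS.comap_subtype
  pq := h.pq
  ne := fun e => h.ne (by
    rwa [← subgroupOf_cent le_sup_left, subgroupOf_le_iff (h.SL.trans le_sup_right)] at e)
  min := fun P0 h1 h2 => by
    have h3 := (map_lt_map_iff_of_injective (P ⊔ L).subtype_injective).2 h1
    have h4 := (map_le_norm_iff (P ⊔ L).subtype_injective).2 h2
    rw [map_subgroupOf le_sup_left] at h3
    rw [map_subgroupOf le_sup_right] at h4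
    rw [← map_le_cent_iff (P ⊔ L).subtype_injective, map_subgroupOf (h.SL.trans le_sup_right)]
    exact h.min _ h3 h4

theorem nsub : (P.subgroupOf (P ⊔ L)).Normal := normal_subgroupOf (sup_le (le_norm_self P) h.LP)

theorem trans [P.Normal] {j : ℕ} {B : Subgroup Y} (hL : L ≤ 𝒞₁(x)) (hP : ¬ P ≤ 𝒞₁(x))
    (hD : S ≤ nres^[j] (G ⊓ 𝒞₁(x)))
    (hB : j = 0 ∨ (B ≤ L ∧ B ≤ nres^[j - 1] (G ⊓ 𝒞₁(x)) ∧ S ≤ ⁅S, B⁆ ⊔ 𝒞(P))) : Cfg x G P p r (j + 1) := by
  have h1 : P ⊓ 𝒞₁(x) ≤ ⁅P, P⁆ := h.minP _ (lt_of_le_of_ne inf_le_left fun e => hP (inf_eq_left.1 e))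
    (le_norm_inf h.LP (hL.trans (le_norm_self _)))
  have h2 : P ≤ ⁅P, zpowers x⁆ := by
    by_contra e
    refine h.lt.not_ge ((H1.commutator_sup_centralizer (A := zpowers x) le_normalizer_of_normal (h.bas.cz h.PG)
      (Or.inl inferInstance)).ge.trans (sup_le (h.minP _ (lt_of_le_of_ne (comm_le_left le_normalizer_of_normal)
        fun e' => e e'.ge) (le_norm_comm h.LP (le_norm_of_le_cent (hL.trans (cent_zpowers x).ge))))
        (cent_zpowers x ▸ h1)))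
  refine ⟨inferInstance, h.PG, h.pP, h.P0, le_cent_iff_comm.1 (cent_comm h.cent),
    fun F _ _ p' _ hp' hpp rF W _ _ _ _ ρ h0 => ?_⟩
  have h3 : ∀ d, ¬ JJ ρ x P d → d ∈ kerOn ρ (fix ρ (zpowers x)) := fun d hd v hv => by
    by_contra e
    exact hd ⟨v, mem_fix_zpowers.1 hv, fun e' => e (sub_eq_zero.1 ((Submodule.mem_bot F).1
      (h0 ▸ fun y hy => e' y (h2 hy))))⟩
  by_contra hc
  simp only [not_or, not_exists, not_and] at hc
  obtain ⟨c1, c2, -⟩ := hc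
  have hZ : ⁅P, P⁆ ⊓ 𝒞₁(x) ≤ G ⊓ 𝒞₁(x) := inf_le_inf_right _ (h.lt.le.trans h.PG)
  refine j0 (B := B) hp' h.bas.rp rF hpp h.pr h.pq h.qr.symm h.bas.ord h.pP h.qS
    (le_normalizer_of_normal (mem_top x)) le_normalizer_of_normal (h.SL.trans hL) h.Sc h.cent h.comm.ge h1 h0
    (fun d hd => h3 d (c2 S hD h.comm.ge h2 d hd)) ?_
  rcases hB with rfl | ⟨b1, b2, b3⟩
  · exact Or.inl fun d hd => h3 d (c1 d ⟨h.lt.le hd.1, hZ hd⟩)
  · refine Or.inr ⟨fun d hd => h3 d (c1 d ⟨?_, ?_⟩), le_normalizer_of_normal, b1.trans h.LS, b1.trans hL, b3⟩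
    · exact comm_le_left le_normalizer_of_normal (commutator_mono (inf_le_left.trans h.lt.le) le_rfl hd)
    · exact ((commutator_mono hZ b2).trans (comm_le_right (le_norm_nres (le_norm_self _) _))) hd

theorem cfg_of [P.Normal] {j : ℕ} {E : Subgroup Y} (hE : E ≤ P ⊓ 𝒞₁(x)) (hE' : E ≤ nres^[j - 1] (G ⊓ 𝒞₁(x)))
    (h1 : ¬ ∀ e ∈ E, ∀ t ∈ ⁅S, zpowers x⁆, ⁅e, t⁆ ∈ ⁅P, P⁆) (h2 : ∀ (F : Type) [Field F], AB F P S E x) :
    Cfg x G P p r (j + 1) ∧ nres^[j - 1] (G ⊓ 𝒞₁(x)) ≠ ⊥ := by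
  push Not at h1
  obtain ⟨e, he, t, ht, h1⟩ := h1
  refine ⟨⟨inferInstance, h.PG, h.pP, h.P0, le_cent_iff_comm.1 (cent_comm h.cent),
    fun F _ _ p' _ hp' hpp rF W _ _ _ _ ρ h0 => Or.inl ?_⟩, fun c => h1 ?_⟩
  · obtain ⟨e, he, v, hv⟩ := jlem hp' h.bas.rp rF hpp h.pr h.pq.symm h.bas.ord h.bas.cop h.PG h.SG h.pP h.qS
      (h.LS h.xL) h.Sc h.cent (fun P0 a _ => h.minP P0 a le_normalizer_of_normal) hE he ht h1 (h2 F) h0
    exact ⟨e, ⟨(hE he).1, hE' he⟩, v, hv⟩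
  · rw [show e = 1 from mem_bot.1 (c ▸ hE' he), commutatorElement_one_left]; exact one_mem _

theorem step [P.Normal] {Y' : Type u} [Group Y'] [Finite Y'] {g : Y →* Y'} {G' : Subgroup Y'} {j : ℕ}
    (hg : Function.Surjective g) (hG : (L ⊓ G).map g = G') (hker : ∀ y, g y = 1 → ∀ k ∈ P, ⁅k, y⁆ ∈ ⁅P, P⁆)
    (b : Bas (g x) G' r) (c : Cfg (g x) G' (S.map g) q r j) :
    Cfg x G P p r (j + 1) ∧ nres^[j - 1] (G ⊓ 𝒞₁(x)) ≠ ⊥ := by
  let F := AlgebraicClosure (ZMod p)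
  have hr := h.bas.rp
  have rF : (r : F) ≠ 0 := natCast_ne_zero_of_coprime' F ((Nat.coprime_primes hr hp.out).2 h.pr.symm)
  obtain ⟨ρ, hρ⟩ := exists_lift hg (nrmRep F P) fun y hy => zpowers_le.1 (le_ker_nrmRep_of
    (commutator_le.2 fun k hk z hz => commutator_le_homKer P (hker z (zpowers_le.2 (g.mem_ker.2 hy) hz) k hk)))
  have hσ : ∀ (F : Type) [Field F], ∃ σ : Y' →* End ℤ (Ch F P), ∀ y, σ (g y) = act F P y := fun F _ =>
    exists_lift hg _ fun y hy => by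
      have := act_eq_one (F := F) (hker y⁻¹ (by rw [map_inv, hy, inv_one]))
      rwa [inv_inv] at this
  have hfix : ∀ (T : Subgroup Y) (f), f ∈ fix ρ (T.map g) ↔ f ∈ fix (nrmRep F P) T := fun T f =>
    ⟨fun a t ht => hρ t ▸ a _ ⟨t, ht, rfl⟩, by rintro a _ ⟨t, ht, rfl⟩; rw [hρ, a t ht]⟩
  have hT : ⁅S.map g, zpowers (g x)⁆ = ⁅S, zpowers x⁆.map g := by rw [map_commutator, MonoidHom.map_zpowers]
  have hXS : zpowers x ≤ 𝒩(S) := zpowers_le.2 (h.LS h.xL)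
  have hTF : (Nat.card ↥⁅S, zpowers x⁆ : F) ≠ 0 := natCast_ne_zero_of_coprime' F
    (cop_pg (h.qS.to_le (comm_le_left hXS)) hp.out h.pq.symm)
  have hxT : x ∈ 𝒩(⁅S, zpowers x⁆) := normalizer_commutator_ge_right _ _ (mem_zpowers x)
  have hcP := h.bas.cp h.PG
  have : Nontrivial (homSp F P ⊥) := by
    obtain ⟨y, h1, h2⟩ := SetLike.exists_of_lt (homKer_lt_of_isPGroup F h.pP h.P0)
    by_contra hc
    rw [not_nontrivial_iff_subsingleton] at hc
    exact h2 ⟨h1, fun f hf => congrFun (congrArg Subtype.val (Subsingleton.elim (⟨f, hf⟩ : homSp F P ⊥) 0)) y⟩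
  set C1 := L ⊓ G ⊓ 𝒞₁(x) with hC1
  have hC : C1.map g = G' ⊓ 𝒞₁(g x) := by
    haveI := h.bas.nrm
    rw [hC1, ← cent_zpowers, H1.map_inf_centralizer_of_coprime g (le_norm_inf (le_norm_of_le (zpowers_le.2 h.xL))
      le_normalizer_of_normal) (h.bas.cz inf_le_right) (Or.inl inferInstance), hG, MonoidHom.map_zpowers,
      cent_zpowers]
  have hCC : ∀ k, nres^[k] C1 ≤ nres^[k] (G ⊓ 𝒞₁(x)) := nres_iter_mono (inf_le_inf_right _ inf_le_right)
  have hlift : ∀ (k : ℕ) (D' : Subgroup Y'), D' ≤ nres^[k] (G' ⊓ 𝒞₁(g x)) → (nres^[k] C1 ⊓ D'.comap g).map g = D' :=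
    fun k D' e => le_antisymm ((map_mono inf_le_right).trans (map_comap_le _ _)) fun y hy => by
      have := e hy
      rw [← hC, ← map_nres_iter] at this
      obtain ⟨z, hz, rfl⟩ := this
      exact ⟨z, ⟨hz, hy⟩, rfl⟩
  have hJ : ∀ D ≤ C1, ∀ d ∈ D, JJ ρ (g x) (S.map g) (g d) →
      ¬ ∀ e ∈ ⁅P ⊓ 𝒞₁(x), D⁆, ∀ t ∈ ⁅S, zpowers x⁆, ⁅e, t⁆ ∈ ⁅P, P⁆ := by
    rintro D hD d hd ⟨f, h1, h2⟩ h3
    rw [hρ] at h1 h2
    rw [hT, hfix] at h2
    refine h2 (dual (f := f) (h.bas.ord ▸ hcP) hTF hxT h3 ?_ fun c hc => ?_)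
    · rw [map_sub, h1, ← End.mul_apply, ← map_mul, ← mem_cent1.1 (hD hd).2, map_mul, End.mul_apply, h1]
    have hcP : c ∈ P := comm_le_left le_normalizer_of_normal hc.1
    refine ⟨⁅c⁻¹, d⁻¹⁆, ⟨commutator_mem_commutator (inv_mem ⟨hcP, hc.2⟩) (inv_mem hd), ?_⟩, ?_⟩
    · refine comm_le_left (K := D) (le_norm_comm le_normalizer_of_normal (le_norm_comm
        ((hD.trans (inf_le_left.trans inf_le_left)).trans h.LS) (le_norm_of_le_cent
          ((hD.trans inf_le_right).trans (cent_zpowers x).ge))))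
        (commutator_mem_commutator (inv_mem hc.1) (inv_mem hd))
    · have := nrmRep_sub_one_apply d f hcP
      simpa [commutatorElement_def, mul_assoc] using this
  have hPD : ∀ D ≤ C1, D ≤ 𝒩(P ⊓ 𝒞₁(x)) := fun D hD =>
    le_norm_inf le_normalizer_of_normal (le_norm_of_le (hD.trans inf_le_right))
  have hPC : P ⊓ 𝒞₁(x) ≤ G ⊓ 𝒞₁(x) := inf_le_inf_right _ h.PG
  haveI := c.nS
  rcases c.J F p hp.out h.pq.symm rF _ ρ (eq_bot_iff.2 fun f hf => (Submodule.mem_bot F).2 (homSp_ext fun t ht =>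
    fix_nrm.1 ((hfix S f).1 hf) t (h.comm.ge ht))) with ⟨d, hd, hd'⟩ | ⟨D', d1, d2, d3, d, hd, hd'⟩ | ⟨rfl, d1, f, d2, d3⟩
  · obtain ⟨D, hD⟩ := exists_syl q (nres^[j - 2] C1 ⊓ (zpowers d).comap g)
    have h1 := hD.map g
    rw [hlift _ _ (zpowers_le.2 hd.2)] at h1
    have h2 := h1.eq_of_le (c.qS.to_le (zpowers_le.2 hd.1)).isPi le_rfl h1.le
    obtain ⟨d, hdD, rfl⟩ : d ∈ D.map g := h2 ▸ mem_zpowers d
    have hDC : D ≤ C1 := hD.le.trans (inf_le_left.trans (nres_iter_le _ _))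
    refine h.cfg_of (comm_le_left (hPD D hDC)) ?_ (hJ D hDC d hdD hd') fun F _ =>
      ab_of h.bas.ord hcP (hDC.trans inf_le_right) fun l a1 a2 a3 e he => ?_
    · haveI := h.pP.isNilpotent
      have h3 := comm_le_nres (hPC.trans (le_norm_nres (le_norm_self _) (j - 2)))
        (hD.le.trans (inf_le_left.trans (hCC _))) (hPD D hDC) (H1.IsPGroup.coprime_card hD.isPGroup
          (cop_pg (h.pP.to_le inf_le_left) hq.out h.pq)) (Or.inr (H1.isSolvable_of_le inferInstance inf_le_left))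
      rw [← Function.iterate_succ_apply' nres] at h3
      exact h3.trans (nres_iter_anti _ (by omega))
    · obtain ⟨σ, hσ⟩ := hσ F
      rw [← hσ]
      refine H20Tu.al σ hr b.ord (ch_tors hcP) (b.cp c.SG).symm (le_normalizer_of_normal (mem_top _)) c.cl
        (by rwa [hσ]) (zpowers_le.2 hd.1 (hD.le he).2) ((show Commute x e from (mem_cent1.1 (hDC he).2).symm).map g) ?_ ?_
      · rintro _ ⟨s, hs, rfl⟩
        simp only [← map_pow g, hσ]
        exact fun a => a2 s hs a e he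
      · obtain ⟨t, ht, a⟩ := a3
        exact ⟨g t, hT ▸ ⟨t, ht, rfl⟩, by rwa [hσ]⟩
  · have h2 := hlift _ _ d1
    set D := nres^[j - 1] C1 ⊓ D'.comap g with hD
    obtain ⟨d, hdD, rfl⟩ : d ∈ D.map g := h2 ▸ hd
    have hDC : D ≤ C1 := inf_le_left.trans (nres_iter_le _ _)
    refine h.cfg_of (comm_le_left (hPD D hDC)) ((commutator_mono hPC (inf_le_left.trans (hCC _))).trans
      (comm_le_right (le_norm_nres (le_norm_self _) _))) (hJ D hDC d hdD hd') fun F _ =>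
      ab_of h.bas.ord hcP (hDC.trans inf_le_right) fun l a1 a2 a3 e he => ?_
    obtain ⟨σ, hσ⟩ := hσ F
    have d4 := d1.trans (nres_iter_le _ _)
    rw [← hσ]
    refine H20Tu.bl σ hr b.ord (ch_tors hcP) c.qS h.qr (le_normalizer_of_normal (mem_top _))
      le_normalizer_of_normal (b.cp (d4.trans inf_le_left)).symm (fun d hd => (mem_cent1.1 (d4 hd).2).symm) d2 d3
      (by rwa [hσ]) ?_ ?_ _ he.2
    · rintro _ ⟨s, hs, rfl⟩ a d hd
      obtain ⟨d, hdD, rfl⟩ : d ∈ D.map g := h2 ▸ hd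
      simp only [← map_pow g, hσ] at a ⊢
      exact a2 s hs a d hdD
    · obtain ⟨t, ht, a⟩ := a3
      exact ⟨g t, ⟨t, comm_le_left hXS ht, rfl⟩, by rwa [hσ]⟩
  · refine h.cfg_of le_rfl hPC (fun h3 => d3 ?_) fun F _ => ab_gam h.bas.ord hcP fun l a1 a2 t ht => ?_
    · rw [hT, hfix]
      exact dual (f := f) (h.bas.ord ▸ hcP) hTF hxT h3 (hρ x ▸ d2) fun c hc =>
        ⟨c, ⟨⟨comm_le_left le_normalizer_of_normal hc.1, hc.2⟩, hc.1⟩, rfl⟩
    · obtain ⟨σ, hσ⟩ := hσ F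
      rw [← hσ]
      refine H20Tu.gam σ hr b.ord (ch_tors hcP) (b.cp c.SG).symm (le_normalizer_of_normal (mem_top _)) d1
        (by rwa [hσ]) ?_ _ (hT ▸ ⟨t, ht, rfl⟩)
      rintro _ ⟨s, hs, rfl⟩
      simp only [← map_pow g, hσ]
      exact a2 s hs

end St

end H6.Tu
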