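import Cfsg.Agent.H6.Tu5

/-! Fitting height and fixed points of a coprime automorphism of prime order. -/

set_option autoImplicit false
set_option linter.unusedSectionVars false

namespace H6.Tu
open Module H2 Subgroup H15 Cfsg H9
open scoped commutatorElement

universe u

section
variable {Y Y' : Type*} [Group Y] [Finite Y] [Group Y']

theorem map_inf_comap (f : Y →* Y') {K : Subgroup Y} {D : Subgroup Y'} (h : D ≤ K.map f) :
    (K ⊓ D.comap f).map f = D :=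
  le_antisymm ((map_mono inf_le_right).trans (map_comap_le _ _)) fun y hy => by
    obtain ⟨z, hz, rfl⟩ := h hy
    exact ⟨z, ⟨hz, hy⟩, rfl⟩

theorem le_norm_comap (f : Y →* Y') {K : Subgroup Y} {D : Subgroup Y'} (h : K.map f ≤ 𝒩(D)) : K ≤ 𝒩(D.comap f) :=
  (map_le_iff_le_comap.1 h).trans (le_normalizer_comap f)

theorem exists_min_lift (f : Y →* Y') {A K0 : Subgroup Y} (h : A ≤ K0) (hA : Group.IsSolvable A) :
    ∃ K ≤ K0, A ≤ K ∧ K.map f = K0.map f ∧ ∀ (q : ℕ) [Fact q.Prime], ∀ D0 ≤ K, K ≤ 𝒩(D0) → IsPGroup q (D0.map f) →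
      (Nat.card A).Coprime (Nat.card D0) → ∃ D ≤ D0, IsPGroup q D ∧ K ≤ 𝒩(D) ∧ D.map f = D0.map f := by
  obtain ⟨K, ⟨h1, h2⟩, h3, h4⟩ := H1.exists_minimal_le (fun K : Subgroup Y => A ≤ K ∧ K.map f = K0.map f) ⟨h, rfl⟩
  refine ⟨K, h3, h1, h2, fun q _ D0 a1 a2 a3 a4 => ?_⟩
  obtain ⟨D, hD, hAD⟩ := H1.exists_invariant_sylowOf q (h1.trans a2) a4 (Or.inl hA)
  haveI : Finite (D0.map f) := Finite.of_surjective _ (f.subgroupMap_surjective D0)
  have h5 : D.map f = D0.map f := by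
    have h6 := (hD.subgroupOf le_rfl).map (f.subgroupMap D0)
    rw [subgroupOf_self, map_top_of_surjective _ (f.subgroupMap_surjective D0)] at h6
    have h7 := h6.eq_of_le (a3.to_subgroup ⊤).isPi le_rfl le_top
    refine le_antisymm (map_mono hD.le) fun y hy => ?_
    obtain ⟨z, hz, e⟩ : (⟨y, hy⟩ : D0.map f) ∈ (D.subgroupOf D0).map (f.subgroupMap D0) := h7 ▸ mem_top _
    exact ⟨z, hz, congrArg Subtype.val e⟩
  refine ⟨D, hD.le, hD.isPGroup, (h4 (K ⊓ 𝒩(D)) ⟨le_inf h1 hAD, ?_⟩ inf_le_left).ge.trans inf_le_right, h5⟩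
  rw [← h2]
  conv_rhs => rw [← hD.frattini a1 a2, Subgroup.map_sup, ← h5]
  exact (sup_eq_right.2 (map_mono (le_inf (hD.le.trans a1) (le_norm_self D)))).symm

theorem nres_subgroupOf {K L : Subgroup Y} (h : K ≤ L) (k : ℕ) :
    (nres^[k] K).subgroupOf L = nres^[k] (K.subgroupOf L) := by
  rw [← map_subgroupOf h, ← map_nres_iter, subgroupOf_map, subgroupOf_map]

theorem tower {G : Subgroup Y} [G.Normal] {j p : ℕ} [hp : Fact p.Prime] (hn : nres^[j + 2] G = ⊥)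
    (hd : p ∣ Nat.card ↥(nres^[j + 1] G)) : ∃ (T N : Subgroup Y) (_ : T.Normal) (_ : N.Normal) (q : ℕ), q.Prime ∧
      p ≠ q ∧ T ≤ N ∧ N ≤ G ∧ IsPGroup p T ∧ nres^[j + 1] G ≤ N ∧
      q ∣ Nat.card ((nres^[j] G).map (QuotientGroup.mk' N)) ∧
      (∀ R ≤ N, (Nat.card R).Coprime p → R ≤ 𝒞(T)) ∧ G ⊓ 𝒞(T) ≤ N := by
  rw [Function.iterate_succ_apply'] at hn
  have hE := nres_eq_bot_iff.1 hn
  have hEG := nres_iter_le G (j + 1)
  rw [Function.iterate_succ_apply'] at hE hd hEG ⊢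
  have hDG := nres_iter_le G j
  haveI := nres_iter_normal G j
  set D := nres^[j] G
  set E := nres D
  set Q := piCoreOf {p} E
  haveI hQn : Q.Normal := normalizer_eq_top_iff.1 (top_le_iff.1
    (le_norm_piCoreOf _ le_normalizer_of_normal))
  have hQp : IsPGroup p Q := (isPi_piCoreOf _ E).isPGroup
  have hQ0 : Q ≠ ⊥ := piCoreOf_ne_bot_of_nilpotent hE hp.out rfl hd
  have hQD : Q ≤ ⁅Q, D⁆ := core_le_comm hE le_normalizer_of_normal (comm_nres D).ge _
  let C := (nrmRep (ZMod p) Q).ker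
  haveI := homKer_normal (ZMod p) Q
  have hCC : 𝒞(Q) ≤ C := le_ker_nrmRep_of (by
    rw [commutator_comm, le_cent_iff_comm.1 le_rfl]; exact bot_le)
  have hEC : E ≤ C := by
    rw [← piCoreOf_sup_compl hE {p}]
    exact sup_le le_ker_nrmRep ((piCoreOf_compl_le_cent _ E).trans hCC)
  obtain ⟨q, hq, hqp, hqd⟩ := exists_prime_relIndex (C := C ⊓ G) (D := D)
    (homKer_lt_of_isPGroup (ZMod p) hQp hQ0) (fun x hx => pow_mem_homKer Q p hx) hQD
    ((commutator_mono le_rfl inf_le_left).trans (comm_ker_nrmRep Q))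
  exact ⟨Q, C ⊓ G, hQn, inferInstance, q, hq, hqp.symm, (piCoreOf_le _ E).trans (le_inf hEC hEG), inf_le_right, hQp,
    le_inf hEC hEG, by rwa [H1.card_map_mk'_eq_relIndex],
    fun R hR hc => le_cent_of_le_ker hQp hc (hR.trans inf_le_left), le_inf (inf_le_right.trans hCC) inf_le_left⟩

end

variable {Y : Type u} [Group Y] [Finite Y]

theorem exists_st {x : Y} {G L S T : Subgroup Y} {p q r : ℕ} [T.Normal] (b : Bas x G r) (xL : x ∈ L) (SL : S ≤ L)
    (LS : L ≤ 𝒩(S)) (TG : T ≤ G) (SG : S ≤ G) (pT : IsPGroup p T) (qS : IsPGroup q S) (pq : p ≠ q)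
    (ne : ¬ S ≤ 𝒞(T)) : ∃ P ≤ T, St x G L S P p q r := by
  obtain ⟨P, ⟨h1, h2⟩, h3, h4⟩ := H1.exists_minimal_le (fun P : Subgroup Y => L ≤ 𝒩(P) ∧ ¬ S ≤ 𝒞(P))
    ⟨le_normalizer_of_normal, ne⟩
  exact ⟨P, h3, b, xL, SL, LS, h1, h3.trans TG, SG, pT.to_le h3, qS, pq, h2,
    fun P0 a c => by_contra fun e => a.ne (h4 P0 ⟨c, e⟩ a.le)⟩

theorem St.ker {x : Y} {G L S P N : Subgroup Y} {p q r : ℕ} [hp : Fact p.Prime] [Fact q.Prime] [N.Normal]
    (h : St x G L S P p q r) (hPN : P ≤ N) (hN : ∀ R ≤ N, (Nat.card R).Coprime p → R ≤ 𝒞(P)) :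
    ⁅P, N ⊓ (P ⊔ L)⁆ ≤ ⁅P, P⁆ := by
  set M := N ⊓ (P ⊔ L) with hM
  have hMP : M ≤ 𝒩(P) := inf_le_right.trans (sup_le (le_norm_self P) h.LP)
  refine h.minP _ ?_ (le_norm_comm h.LP (le_norm_inf le_normalizer_of_normal (le_norm_of_le le_sup_right)))
  obtain ⟨R, hR⟩ := exists_syl p M
  have h1 : P ≤ R := hR.le_of_norm' h.pP.isPi (le_inf hPN le_sup_left) (hR.le.trans hMP)
  have h2 : R ⊔ (𝒞(P) ⊓ M) = M := hR.sup_eq_of_idx inf_le_right fun l hl hd => by_contra fun e => by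
    haveI := Fact.mk hl
    obtain ⟨R', hR'⟩ := exists_syl l M
    exact hR'.not_dvd_idx hl rfl (hd.trans (relIndex_dvd_of_le_left M (le_inf (hN R' (hR'.le.trans inf_le_left)
      (cop_pg hR'.isPGroup hp.out e)) hR'.le)))
  refine lt_of_le_of_lt ?_ (H1.commutator_lt_of_isNilpotent hR.isPGroup.isNilpotent h1 (hR.le.trans hMP) h.P0)
  rw [← h2, commutator_comm]
  refine comm_sup_left_le (commutator_comm _ _).le ((le_cent_iff_comm.1 inf_le_left).le.trans bot_le)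
    (normalizer_commutator_ge_right _ _) (le_norm_of_le_cent (inf_le_left.trans
      (cent_anti (comm_le_left (hR.le.trans hMP)))))

/-- a level centralized by `x` together with all levels above it -/
structure Triv (x : Y) (G P K : Subgroup Y) (p j : ℕ) : Prop where
  KC : K ≤ G ⊓ 𝒞₁(x)
  KP : K ≤ 𝒩(P)
  PK : P ≤ nres^[j] K
  pP : IsPGroup p P
  ne : P ≠ ⊥
  cm : j = 0 ∨ P ≤ ⁅P, nres^[j - 1] K⁆

/-- the two kinds of levels -/
def Res (x : Y) (G : Subgroup Y) (p r j : ℕ) : Prop :=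
  (∃ P K, Triv x G P K p j) ∨ ∃ (L : Subgroup Y) (hx : x ∈ L) (S : Subgroup L),
    Cfg (⟨x, hx⟩ : L) (G.subgroupOf L) S p r j ∧ (j = 0 ∨ nres^[j - 2] (G ⊓ 𝒞₁(x)) ≠ ⊥)

theorem cent1_sub {x : Y} {L : Subgroup Y} (hx : x ∈ L) : 𝒞₁((⟨x, hx⟩ : L)) = 𝒞₁(x).subgroupOf L := by
  ext y
  rw [mem_subgroupOf, mem_cent1, mem_cent1, Subtype.ext_iff]; rfl

theorem Bas.sub {x : Y} {G : Subgroup Y} {r : ℕ} (b : Bas x G r) {L : Subgroup Y} (hx : x ∈ L) :
    Bas (⟨x, hx⟩ : L) (G.subgroupOf L) r :=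
  ⟨b.rp, (orderOf_coe _).symm.trans b.ord, b.nrm.subgroupOf _, fun e => b.cop
    (e.trans (card_comap_dvd_of_injective _ _ (subtype_injective _)))⟩

theorem res_zero {x : Y} {G : Subgroup Y} {p r : ℕ} [hp : Fact p.Prime] (b : Bas x G r) (hd : p ∣ Nat.card G) :
    Res x G p r 0 := by
  haveI := b.nrm
  obtain ⟨R, hR, hxR⟩ := H1.exists_invariant_sylowOf p (A := zpowers x) (K := G) le_normalizer_of_normal
    (b.cz le_rfl) (Or.inl inferInstance)
  obtain ⟨Q, ⟨h1, h2⟩, h3, h4⟩ := H1.exists_minimal_le (fun Q : Subgroup Y => zpowers x ≤ 𝒩(Q) ∧ Q ≠ ⊥)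
    ⟨hxR, hR.ne_bot hp.out rfl hd⟩
  have hQ := hR.isPGroup.to_le h3
  have hQG := h3.trans hR.le
  by_cases hc : Q ≤ 𝒞₁(x)
  · exact Or.inl ⟨Q, Q, le_inf hQG hc, le_norm_self Q, le_rfl, hQ, h2, Or.inl rfl⟩
  have h5 : ⁅Q, Q⁆ = ⊥ := by_contra fun e => by
    haveI := hQ.isNilpotent
    have := H1.commutator_self_lt (N := Q) inferInstance h2
    exact this.ne (h4 _ ⟨le_norm_comm h1 h1, e⟩ this.le)
  have h6 : ⁅Q, zpowers x⁆ = Q := h4 _ ⟨normalizer_commutator_ge_right _ _, fun e => hc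
    ((le_cent_iff_comm.2 e).trans (cent_zpowers x).le)⟩ (comm_le_left h1)
  have hx : x ∈ Q ⊔ zpowers x := mem_sup_right (mem_zpowers x)
  have h7 : zpowers (⟨x, hx⟩ : ↥(Q ⊔ zpowers x)) = (zpowers x).subgroupOf _ := by
    rw [← subgroupOf_map (zpowers _), MonoidHom.map_zpowers]; rfl
  have h8 : ⁅Q.subgroupOf (Q ⊔ zpowers x), Q.subgroupOf (Q ⊔ zpowers x)⁆ = ⊥ := by
    rw [← subgroupOf_comm le_sup_left le_sup_left, h5, bot_subgroupOf]
  have h9 : ⁅Q.subgroupOf (Q ⊔ zpowers x), zpowers (⟨x, hx⟩ : ↥(Q ⊔ zpowers x))⁆ = Q.subgroupOf _ := by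
    rw [h7, ← subgroupOf_comm le_sup_left le_sup_right, h6]
  have hn : (Q.subgroupOf (Q ⊔ zpowers x)).Normal := normal_subgroupOf (sup_le (le_norm_self Q) h1)
  refine Or.inr ⟨_, hx, Q.subgroupOf _, ⟨hn, comap_mono hQG, hQ.comap_subtype,
    fun e => h2 ((subgroupOf_eq_bot_iff le_sup_left).1 e), by rw [h8, commutator_bot_left],
    fun F _ _ p' _ hp' hpp rF W _ _ _ _ ρ h0 => Or.inr (Or.inr ⟨rfl, h8, ?_⟩)⟩, Or.inl rfl⟩
  haveI := Fact.mk hp'
  obtain ⟨v, hv, v0⟩ := Submodule.exists_mem_ne_zero_of_ne_bot (gam0 b.rp rF (b.sub hx).ord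
    (le_normalizer_of_normal (mem_top _)) (natCast_ne_zero_of_coprime' F (cop_pg (Q := Q.subgroupOf _) hQ.comap_subtype hp' hpp)) h8
    h9.ge h0)
  exact ⟨v, mem_fix_zpowers.1 hv, by rwa [h9, h0]⟩

theorem res_succ {x : Y} {G : Subgroup Y} {p r j : ℕ} [hp : Fact p.Prime] (b : Bas x G r)
    (hn : nres^[j + 2] G = ⊥) (hd : p ∣ Nat.card ↥(nres^[j + 1] G))
    (ih : ∀ (Y' : Type u) [Group Y'] [Finite Y'] (x : Y') (G : Subgroup Y') (q : ℕ) [Fact q.Prime], Bas x G r →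
      nres^[j + 1] G = ⊥ → q ∣ Nat.card ↥(nres^[j] G) → Res x G q r j) : Res x G p r (j + 1) := by
  haveI := b.nrm
  obtain ⟨T, N, _, _, q, hq, pq, TN, NG, pT, EN, hqd, hN, hCN⟩ := tower hn hd
  haveI := Fact.mk hq
  set f := QuotientGroup.mk' N with hf
  have fs : Function.Surjective f := QuotientGroup.mk'_surjective N
  have fk : ∀ {y}, f y = 1 ↔ y ∈ N := fun {y} => QuotientGroup.eq_one_iff y
  have b' : Bas (f x) (G.map f) r := ⟨b.rp, by
      refine ((Nat.dvd_prime b.rp).1 (b.ord ▸ orderOf_map_dvd f x)).resolve_left fun e => b.cop ?_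
      exact b.ord ▸ orderOf_dvd_natCard _ (NG (fk.1 (orderOf_eq_one_iff.1 e))),
    b.nrm.map f fs, fun e => b.cop (e.trans (card_map_dvd _ _))⟩
  have hGc : (G.map f).comap f ≤ G := by
    rw [comap_map_eq, QuotientGroup.ker_mk']; exact sup_le le_rfl NG
  have hne : ∀ S ≤ G, S.map f ≠ ⊥ → ¬ S ≤ 𝒞(T) := fun S h1 h2 h3 => h2 (by
    rw [Subgroup.map_eq_bot_iff, QuotientGroup.ker_mk']; exact (le_inf h1 h3).trans hCN)
  have hNP : ∀ P ≤ T, ∀ R ≤ N, (Nat.card R).Coprime p → R ≤ 𝒞(P) := fun P h1 R h2 h3 =>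
    (hN R h2 h3).trans (cent_anti h1)
  rcases ih _ (f x) (G.map f) q b' (by
      rw [← map_nres_iter, Subgroup.map_eq_bot_iff, QuotientGroup.ker_mk']; exact EN)
    (by rwa [← map_nres_iter]) with ⟨P', K', t⟩ | ⟨L', hx', S', c, -⟩
  · have hC : (G ⊓ 𝒞₁(x)).map f = G.map f ⊓ 𝒞₁(f x) := by
      rw [← cent_zpowers, H1.map_inf_centralizer_of_coprime f le_normalizer_of_normal (b.cz le_rfl)
        (Or.inl inferInstance), MonoidHom.map_zpowers, cent_zpowers]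
    obtain ⟨K, k1, -, k2, k3⟩ := exists_min_lift f (bot_le : ⊥ ≤ G ⊓ 𝒞₁(x) ⊓ K'.comap f) inferInstance
    rw [map_inf_comap f (hC ▸ t.KC)] at k2
    have k4 : (nres^[j] K ⊓ P'.comap f).map f = P' := map_inf_comap f (by rw [map_nres_iter, k2]; exact t.PK)
    obtain ⟨D, d1, d2, d3, d4⟩ := k3 q _ (inf_le_left.trans (nres_iter_le K j))
      (le_norm_inf (le_norm_nres (le_norm_self K) j) (le_norm_comap f (k2 ▸ t.KP))) (k4.symm ▸ t.pP) (by simp)
    rw [k4] at d4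
    have KC : K ≤ G ⊓ 𝒞₁(x) := k1.trans inf_le_left
    have DK : D ≤ K := d1.trans (inf_le_left.trans (nres_iter_le K j))
    have LC : K ⊔ zpowers x ≤ 𝒞₁(x) := sup_le (KC.trans inf_le_right) (zpowers_le.2 (mem_cent1_self x))
    obtain ⟨P, PT, h⟩ := exists_st (L := K ⊔ zpowers x) b (mem_sup_right (mem_zpowers x)) (le_sup_of_le_left DK)
      (sup_le d3 (le_norm_of_le_cent (cent_comm ((DK.trans (KC.trans inf_le_right)).trans (cent_zpowers x).ge))))
      (TN.trans NG) (DK.trans (KC.trans inf_le_left)) pT d2 pq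
      (hne D (DK.trans (KC.trans inf_le_left)) (d4 ▸ t.ne))
    by_cases hc : P ≤ 𝒞₁(x)
    · have h1 : D ≤ nres^[j] (K ⊔ P) := d1.trans (inf_le_left.trans (nres_iter_mono le_sup_left j))
      refine Or.inl ⟨P, K ⊔ P, sup_le KC (le_inf h.PG hc), sup_le (le_sup_left.trans h.LP) (le_norm_self P), ?_,
        h.pP, h.P0, Or.inr (h.comm.ge.trans (commutator_mono le_rfl h1))⟩
      haveI := h.pP.isNilpotent
      rw [Function.iterate_succ_apply']
      exact h.comm.ge.trans (comm_le_nres (le_norm_nres (le_norm_of_le le_sup_right) j) h1 (h.SL.trans h.LP) h.cop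
        (Or.inr inferInstance))
    haveI := h.nsub
    have KL : K ≤ P ⊔ (K ⊔ zpowers x) := le_sup_of_le_right le_sup_left
    have h1 : ∀ k, (nres^[k] K).subgroupOf (P ⊔ (K ⊔ zpowers x)) ≤ nres^[k] (G.subgroupOf _ ⊓
        𝒞₁((⟨x, mem_sup_right h.xL⟩ : ↥(P ⊔ (K ⊔ zpowers x))))) := fun k => by
      rw [nres_subgroupOf KL, cent1_sub]
      exact nres_iter_mono (comap_mono KC) k
    refine Or.inr ⟨P ⊔ (K ⊔ zpowers x), _, _, h.sub.trans (B := (nres^[j - 1] K).subgroupOf _) (by rw [cent1_sub]; exact comap_mono LC)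
      (fun e => hc (by rwa [cent1_sub, subgroupOf_le_iff le_sup_left] at e))
      ((comap_mono (d1.trans inf_le_left)).trans (h1 j)) (t.cm.imp id fun e =>
        ⟨comap_mono ((nres_iter_le K _).trans le_sup_left), h1 _, ?_⟩), Or.inr fun e => h.S0 (le_bot_iff.1
        (e ▸ d1.trans (inf_le_left.trans ((nres_iter_anti K (by omega)).trans (nres_iter_mono KC _)))))⟩
    intro d hd
    obtain ⟨y, hy, e'⟩ : f d ∈ ⁅D, nres^[j - 1] K⁆.map f := by
      rw [map_commutator, map_nres_iter, d4, k2]; exact e (d4 ▸ ⟨d, hd, rfl⟩)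
    have hyD : y ∈ D := comm_le_left ((nres_iter_le K _).trans d3) hy
    have hyL := KL (DK hyD)
    rw [← mul_inv_cancel_left (⟨y, hyL⟩ : ↥(P ⊔ (K ⊔ zpowers x))) d]
    refine mul_mem (mem_sup_left ?_) (mem_sup_right ?_)
    · rw [← subgroupOf_comm (DK.trans KL) ((nres_iter_le K _).trans KL)]; exact hy
    · rw [← subgroupOf_cent le_sup_left]
      exact hNP P PT (N ⊓ D) inf_le_left (cop_pg (d2.to_le inf_le_right) hp.out pq.symm)
        (show y⁻¹ * d ∈ N ⊓ D from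
          ⟨fk.1 (by rw [map_mul, map_inv, e', inv_mul_cancel]), D.mul_mem (D.inv_mem hyD) hd⟩)
  · obtain ⟨K, k1, xK, k2, k3⟩ := exists_min_lift f (zpowers_le.2 hx' : zpowers x ≤ L'.comap f) inferInstance
    rw [map_comap_eq_self_of_surjective fs] at k2
    haveI := c.nS
    have k4 : (K ⊓ (S'.map L'.subtype).comap f).map f = S'.map L'.subtype :=
      map_inf_comap f (k2 ▸ map_subtype_le S')
    have k5 : K ⊓ (S'.map L'.subtype).comap f ≤ G := inf_le_right.trans ((comap_mono (map_le_iff_le_comap.2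
      c.SG)).trans hGc)
    obtain ⟨S, s1, s2, s3, s4⟩ := k3 q _ inf_le_left (le_norm_inf (le_norm_self K) (le_norm_comap f (by
      rw [k2]
      have := (map_le_norm_iff L'.subtype_injective (A := ⊤) (H := S')).2 le_normalizer_of_normal
      rwa [map_top_subtype] at this))) (k4.symm ▸ c.qS.map _) (b.cz k5)
    rw [k4] at s4
    obtain ⟨P, PT, h⟩ := exists_st b (zpowers_le.1 xK) (s1.trans inf_le_left) s3 (TN.trans NG) (s1.trans k5) pT s2
      pq (hne S (s1.trans k5) (by rw [s4, Ne, map_eq_bot_iff_of_injective _ L'.subtype_injective]; exact c.ne))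
    haveI := h.nsub
    have hPK : (P ⊔ K).map f ≤ L' := by
      rw [Subgroup.map_sup, k2, (Subgroup.map_eq_bot_iff P).2 (by rw [QuotientGroup.ker_mk']; exact PT.trans TN)]
      exact sup_le bot_le le_rfl
    let g : ↥(P ⊔ K) →* L' := (f.comp (P ⊔ K).subtype).codRestrict L' fun y => hPK ⟨y, y.2, rfl⟩
    have hg : ∀ H ≤ P ⊔ K, ((H.subgroupOf (P ⊔ K)).map g).map L'.subtype = H.map f := fun H hH => by
      rw [map_map, show L'.subtype.comp g = f.comp (P ⊔ K).subtype from rfl, ← map_map, map_subgroupOf hH]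
    have hS : (S.subgroupOf (P ⊔ K)).map g = S' := map_injective L'.subtype_injective
      ((hg S (h.SL.trans le_sup_right)).trans s4)
    obtain ⟨a1, a2⟩ := h.sub.step (g := g) (G' := (G.map f).subgroupOf L') (j := j) (fun y => by
        obtain ⟨z, hz, e⟩ : (y : Y ⧸ N) ∈ K.map f := k2 ▸ y.2
        exact ⟨⟨z, mem_sup_right hz⟩, Subtype.ext e⟩)
      (le_antisymm (by rintro _ ⟨y, hy, rfl⟩; exact ⟨y, hy.2, rfl⟩) fun y hy => by
        obtain ⟨z, hz, e⟩ : (y : Y ⧸ N) ∈ K.map f := k2 ▸ y.2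
        exact ⟨⟨z, mem_sup_right hz⟩, ⟨hz, hGc (show f z ∈ G.map f from e ▸ hy)⟩, Subtype.ext e⟩)
      (fun y hy k hk => by
        rw [← subgroupOf_comm le_sup_left le_sup_left]
        exact h.ker (PT.trans TN) (hNP P PT) (commutator_mem_commutator hk
          ⟨fk.1 (congrArg Subtype.val hy), y.2⟩)) (b'.sub hx') (hS ▸ c)
    refine Or.inr ⟨_, _, _, a1, Or.inr fun e => a2 ?_⟩
    rw [← map_eq_bot_iff_of_injective _ (P ⊔ K).subtype_injective, map_nres_iter, cent1_sub, ← le_bot_iff, ← e]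
    refine nres_iter_mono ?_ (j - 1)
    rintro _ ⟨y, hy, rfl⟩
    exact hy

theorem res (r j : ℕ) : ∀ (Y : Type u) [Group Y] [Finite Y] (x : Y) (G : Subgroup Y) (q : ℕ) [Fact q.Prime],
    Bas x G r → nres^[j + 1] G = ⊥ → q ∣ Nat.card ↥(nres^[j] G) → Res x G q r j := by
  induction j with
  | zero => exact fun Y _ _ x G q _ b _ h => res_zero b h
  | succ j ih => exact fun Y _ _ x G q _ b h1 h2 => res_succ b h1 h2 ih

theorem turull {x : Y} {G : Subgroup Y} {r n : ℕ} (b : Bas x G r) (hG : Group.IsSolvable G)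
    (h : nres^[n] (G ⊓ 𝒞₁(x)) = ⊥) : nres^[n + 2] G = ⊥ := by
  classical
  by_contra hc
  have hex : ∃ m, nres^[m] G = ⊥ := by
    obtain ⟨k, hk⟩ := WellFoundedLT.antitone_chain_condition (nres_iter_anti G)
    refine ⟨k, by_contra fun e => ?_⟩
    have h1 := hk (k + 1) (Nat.le_succ k)
    simp only [Function.iterate_succ_apply'] at h1
    exact (H1.commutator_self_lt (H1.isSolvable_of_le hG (nres_iter_le G k)) e).not_ge
      (h1.le.trans (nres_le_lcs _ 1))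
  have h1 : n + 2 < Nat.find hex := by_contra fun e =>
    hc (le_bot_iff.1 (Nat.find_spec hex ▸ nres_iter_anti G (not_lt.1 e)))
  obtain ⟨j, hj⟩ : ∃ j, Nat.find hex = j + 1 := Nat.exists_eq_succ_of_ne_zero (by omega)
  obtain ⟨q, hq, hd⟩ := Nat.exists_prime_and_dvd (fun e => Nat.find_min hex (m := j) (by omega) (card_eq_one.1 e))
  haveI := Fact.mk hq
  rcases res r j Y x G q b (hj ▸ Nat.find_spec hex) hd with ⟨P, K, t⟩ | ⟨-, -, -, -, e | e⟩
  · exact t.ne (le_bot_iff.1 (h ▸ t.PK.trans ((nres_iter_mono t.KC j).trans (nres_iter_anti _ (by omega)))))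
  · omega
  · exact e (le_bot_iff.1 (h ▸ nres_iter_anti _ (by omega)))

open SemidirectProduct in
theorem turull_aut {G : Type u} [Group G] [Finite G] (hG : Group.IsSolvable G) (σ : MulAut G) {r : ℕ} (hr : r.Prime)
    (hσ : orderOf σ = r) (hcop : ¬ r ∣ Nat.card G) {C : Subgroup G} (hC : ∀ g : G, g ∈ C ↔ σ g = g) {n : ℕ}
    (h : nres^[n] C = ⊥) : nres^[n + 2] (⊤ : Subgroup G) = ⊥ := by
  let φ := (zpowers σ).subtype
  let x : G ⋊[φ] zpowers σ := inr ⟨σ, mem_zpowers σ⟩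
  refine nres_iter_of_sdL φ (turull (x := x) (r := r) ⟨hr, by
    rw [orderOf_injective _ inr_injective, ← hσ, ← orderOf_coe], inferInstance, by rwa [H8.card_sdL, card_top]⟩
    (H1.isSolvable_map inferInstance _) (le_bot_iff.1 ?_))
  have h1 : H8.sdL φ ⊤ ⊓ 𝒞₁(x) ≤ H8.sdL φ C := by
    rintro _ ⟨⟨g, -, rfl⟩, hg⟩
    refine ⟨g, (hC g).2 ?_, rfl⟩
    have := congrArg SemidirectProduct.left (mem_cent1.1 hg)
    simpa [x, φ] using this.symm
  refine (nres_iter_mono h1 n).trans ?_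
  rw [← map_nres_iter, h, Subgroup.map_bot]

end H6.Tu
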