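import Cfsg.Agent.H6.SCl
import Cfsg.Agent.H6.Misc
import Cfsg.Agent.H18.Small
import Cfsg.Agent.S0111

/-! A 2-central involution with centralizer `Z₂ × S₄`: fusion and transfer. -/

set_option autoImplicit false

namespace H6.ZS4

open Subgroup Equiv
open scoped commutatorElement

abbrev S4 := Perm (Fin 4)
def z0 : S4 := swap 0 1 * swap 2 3
def a0 : S4 := swap 0 1
def y0 : S4 := swap 0 2 * swap 1 3
def x0 : S4 := swap 0 1 * (swap 0 2 * swap 1 3)

theorem d0_dh : H6.DH (centralizer {z0}) 1 x0 a0 :=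
  H18.dh_mk4 (orderOf_eq_prime_pow (p := 2) (n := 1) (by decide +kernel) (by decide +kernel))
    (by decide +kernel) (by decide +kernel) (by decide +kernel) (by decide +kernel)
    (by decide +kernel) (by decide +kernel)

theorem d0_equiv : Nonempty (centralizer ({z0} : Set S4) ≃* DihedralGroup 4) := H18.dh_equiv d0_dh

theorem card_d0 : Nat.card (centralizer ({z0} : Set S4)) = 8 := by
  obtain ⟨e⟩ := d0_equiv
  rw [Nat.card_congr e.toEquiv, DihedralGroup.nat_card]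

theorem card_s4 : Nat.card S4 = 24 := by rw [Nat.card_perm, Nat.card_fin]; rfl

theorem comm_d0 : ∀ σ τ : S4, σ * z0 = z0 * σ → τ * z0 = z0 * τ →
    σ * τ * σ⁻¹ * τ⁻¹ = 1 ∨ σ * τ * σ⁻¹ * τ⁻¹ = z0 := by decide +kernel

set_option synthInstance.maxSize 1024 in
theorem inv_d0 : ∀ σ : S4, σ * z0 = z0 * σ → σ * σ = 1 →
    σ = 1 ∨ (∃ τ : S4, τ * z0 * τ⁻¹ = σ) ∨ (∃ τ : S4, τ * a0 * τ⁻¹ = σ) := by decide +kernel

theorem v4_mul : ∀ σ τ : S4, (σ = 1 ∨ ∃ ρ : S4, ρ * z0 * ρ⁻¹ = σ) → (τ = 1 ∨ ∃ ρ : S4, ρ * z0 * ρ⁻¹ = τ) →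
    (σ * τ = 1 ∨ ∃ ρ : S4, ρ * z0 * ρ⁻¹ = σ * τ) := by decide +kernel

variable {G : Type*} [Group G] {t : G} {f : S4 →* G}

/-- the configuration `C(t) = ⟨t⟩ × f(S₄)` with `C(f z₀)` a Sylow 2-subgroup -/
structure Cfg (t : G) (f : S4 →* G) : Prop where
  ord : orderOf t = 2
  inj : Function.Injective f
  comm : ∀ σ, Commute t (f σ)
  ne : ∀ σ, f σ ≠ t
  cent : ∀ g, Commute g t → ∃ σ, g = f σ ∨ g = t * f σ
  syl : ∃ T : Sylow 2 G, (T : Subgroup G) = centralizer {f z0}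
  sub : ∀ g, Commute g (f z0) → Commute g t
  card : Nat.card (centralizer ({t} : Set G)) = 48
  cardT : Nat.card (centralizer ({f z0} : Set G)) = 16

namespace Cfg
variable (h : Cfg t f)
include h

theorem tt : t * t = 1 := ord2_mul_self h.ord

theorem ttf (σ τ : S4) : t * f σ * (t * f τ) = f σ * f τ := by
  calc t * f σ * (t * f τ) = t * (f σ * t) * f τ := by group
    _ = (t * t) * f σ * f τ := by rw [← (h.comm σ).eq]; group
    _ = _ := by rw [h.tt, one_mul]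

theorem mem_T {g : G} (hg : Commute g (f z0)) : ∃ σ, σ * z0 = z0 * σ ∧ (g = f σ ∨ g = t * f σ) := by
  obtain ⟨σ, e⟩ := h.cent g (h.sub g hg)
  refine ⟨σ, h.inj ?_, e⟩
  rw [map_mul, map_mul]
  rcases e with rfl | rfl
  · exact hg
  · have := ((h.comm z0).inv_left.mul_left hg)
    rwa [inv_mul_cancel_left] at this

omit h in
theorem comm_f {σ : S4} (hσ : σ * z0 = z0 * σ) : Commute (f σ) (f z0) := by
  show f σ * f z0 = f z0 * f σ
  rw [← map_mul, hσ, map_mul]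

theorem comm_T {g g' : G} (hg : Commute g (f z0)) (hg' : Commute g' (f z0)) :
    g * g' * g⁻¹ * g'⁻¹ = 1 ∨ g * g' * g⁻¹ * g'⁻¹ = f z0 := by
  obtain ⟨σ, hσ, e⟩ := h.mem_T hg
  obtain ⟨τ, hτ, e'⟩ := h.mem_T hg'
  have k1 : g * g' * g⁻¹ = f σ * g' * (f σ)⁻¹ := by
    rcases e with rfl | rfl
    · rfl
    · have := (h.sub _ hg').symm
      calc t * f σ * g' * (t * f σ)⁻¹ = t * (f σ * g' * (f σ)⁻¹) * t⁻¹ := by group
        _ = _ := conj_eq_iff_commute.mpr (((h.comm σ).mul_right this).mul_right (h.comm σ).inv_right)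
  have k2 : f σ * g' * (f σ)⁻¹ * g'⁻¹ = f (σ * τ * σ⁻¹ * τ⁻¹) := by
    simp only [map_mul, map_inv]
    rcases e' with rfl | rfl
    · rfl
    · calc f σ * (t * f τ) * (f σ)⁻¹ * (t * f τ)⁻¹
          = (f σ * t) * (f τ * (f σ)⁻¹ * (f τ)⁻¹) * t⁻¹ := by group
        _ = t * (f σ * f τ * (f σ)⁻¹ * (f τ)⁻¹) * t⁻¹ := by rw [← (h.comm σ).eq]; group
        _ = _ := conj_eq_iff_commute.mpr ((((h.comm σ).mul_right (h.comm τ)).mul_right
          (h.comm σ).inv_right).mul_right (h.comm τ).inv_right)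
  rw [k1, k2]
  rcases comm_d0 σ τ hσ hτ with k | k <;> rw [k]
  · exact Or.inl (map_one f)
  · exact Or.inr rfl

theorem z_ne : f z0 ≠ 1 := fun e => absurd (h.inj (e.trans (map_one f).symm)) (by decide +kernel)

variable [Finite G]

theorem eq_of_conj_central {w : G} (hw : ∀ s, Commute s (f z0) → Commute s w) (hc : IsConj t w) :
    w = t := by
  obtain ⟨T, hT⟩ := h.syl
  have hm : ∀ s, s ∈ (T : Subgroup G) ↔ Commute s (f z0) := fun s => by rw [hT, mem_cent_iff_commute]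
  obtain ⟨n, hn, e⟩ := burnside_fusion_comm T (fun s hs => h.sub s ((hm s).mp hs))
    (fun s hs => hw s ((hm s).mp hs)) hc
  have k1 : n * f a0 * n⁻¹ ∈ (T : Subgroup G) :=
    (mem_normalizer_iff.mp hn _).mp ((hm _).mpr (comm_f (by decide +kernel)))
  have k2 : n * f y0 * n⁻¹ ∈ (T : Subgroup G) :=
    (mem_normalizer_iff.mp hn _).mp ((hm _).mpr (comm_f (by decide +kernel)))
  have k3 : n * f a0 * n⁻¹ * (n * f y0 * n⁻¹) * (n * f a0 * n⁻¹)⁻¹ * (n * f y0 * n⁻¹)⁻¹ = n * f z0 * n⁻¹ := by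
    rw [show z0 = a0 * y0 * a0⁻¹ * y0⁻¹ by decide +kernel]
    simp only [map_mul, map_inv]
    group
  rcases h.comm_T ((hm _).mp k1) ((hm _).mp k2) with k | k <;> rw [k3] at k
  · exact absurd (by calc f z0 = n⁻¹ * (n * f z0 * n⁻¹) * n := by group
      _ = 1 := by rw [k]; group) h.z_ne
  · rw [← e, conj_eq_iff_commute.mpr (h.sub n (conj_eq_iff_commute.mp k))]

theorem not_conj_v {σ : S4} (hσ : σ = 1 ∨ ∃ ρ : S4, ρ * z0 * ρ⁻¹ = σ) : ¬ IsConj t (f σ) := by
  intro hc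
  rcases hσ with rfl | ⟨ρ, rfl⟩
  · rw [map_one, isConj_one_left] at hc
    exact ord2_ne_one h.ord hc
  · refine h.ne z0 (h.eq_of_conj_central (fun s hs => hs) (hc.trans ?_))
    simp only [map_mul, map_inv]
    exact (isConj_iff.mpr ⟨_, rfl⟩).symm

omit [Finite G] in
theorem conj_tmul (ρ σ : S4) : IsConj (t * f σ) (t * f (ρ * σ * ρ⁻¹)) := by
  refine isConj_iff.mpr ⟨f ρ, ?_⟩
  simp only [map_mul, map_inv]
  rw [← mul_assoc, ← (h.comm ρ).eq]
  group

theorem not_conj_tv {σ : S4} (hσ : ∃ ρ : S4, ρ * z0 * ρ⁻¹ = σ) : ¬ IsConj t (t * f σ) := by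
  intro hc
  obtain ⟨ρ, rfl⟩ := hσ
  have := h.eq_of_conj_central (w := t * f z0) (fun s hs => (h.sub s hs).mul_right hs)
    (hc.trans (h.conj_tmul ρ z0).symm)
  exact h.z_ne (by simpa using this)

theorem not_both : ¬ (IsConj t (f a0) ∧ IsConj t (t * f a0)) := by
  rintro ⟨h1, h2⟩
  obtain ⟨T, hT⟩ := h.syl
  have hm : ∀ s, s ∈ (T : Subgroup G) ↔ Commute s (f z0) := fun s => by rw [hT, mem_cent_iff_commute]
  obtain ⟨g₀, e₀⟩ := isConj_iff.mp h1.symm
  have hz2 : f z0 * f z0 = 1 := by rw [← map_mul, show z0 * z0 = 1 by decide +kernel, map_one]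
  have hQ : IsPGroup 2 ((closure {t, f z0}).map (MulAut.conj g₀).toMonoidHom) :=
    (isPGroup_closure_commute h.tt hz2 (h.comm z0)).map _
  have haz : Commute (f a0) (f z0) := comm_f (by decide +kernel)
  obtain ⟨c, hc, hcT⟩ := exists_conj_le_sylow_in T (H := centralizer {t})
    (fun s hs => mem_cent_iff_commute.mpr (h.sub s ((hm s).mp hs))) hQ (by
      rintro _ ⟨x, hx, rfl⟩
      rw [mem_cent_iff_commute, ← e₀]
      have : closure {t, f z0} ≤ centralizer {f a0} := by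
        rw [closure_le]
        rintro _ (rfl | rfl)
        exacts [mem_cent_iff_commute.mpr (h.comm a0), mem_cent_iff_commute.mpr haz.symm]
      exact (mem_cent_iff_commute.mp (this hx)).map (MulAut.conj g₀))
  have hct : c * t * c⁻¹ = t := conj_eq_iff_commute.mpr (mem_cent_iff_commute.mp hc)
  have key : ∀ x ∈ closure {t, f z0}, x * x = 1 → ¬ IsConj t x →
      ∃ σ, (σ = 1 ∨ ∃ ρ : S4, ρ * z0 * ρ⁻¹ = σ) ∧
        (c * g₀ * x * (c * g₀)⁻¹ = f σ ∨ c * g₀ * x * (c * g₀)⁻¹ = t * f σ) := by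
    intro x hx hx2 hn
    have k := (hm _).mp (hcT _ ⟨x, hx, rfl⟩)
    have e : c * (MulAut.conj g₀).toMonoidHom x * c⁻¹ = c * g₀ * x * (c * g₀)⁻¹ := by
      simp [mul_assoc]
    rw [e] at k
    obtain ⟨σ, hσ, e'⟩ := h.mem_T k
    have hn' : ¬ IsConj t (c * g₀ * x * (c * g₀)⁻¹) := fun k => hn (k.trans (isConj_iff.mpr ⟨_, rfl⟩).symm)
    have hsq : (c * g₀ * x * (c * g₀)⁻¹) * (c * g₀ * x * (c * g₀)⁻¹) = 1 := by
      calc _ = c * g₀ * (x * x) * (c * g₀)⁻¹ := by group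
        _ = 1 := by rw [hx2]; group
    have hσ2 : σ * σ = 1 := h.inj (by
      rw [map_mul, map_one]
      rcases e' with e' | e' <;> rw [e'] at hsq
      · exact hsq
      · rwa [h.ttf] at hsq)
    refine ⟨σ, ?_, e'⟩
    rcases inv_d0 σ hσ hσ2 with k | k | ⟨ρ, rfl⟩
    exacts [Or.inl k, Or.inr k, by
      rcases e' with e' | e' <;> rw [e'] at hn'
      · exact absurd (h1.trans (by simp only [map_mul, map_inv]; exact isConj_iff.mpr ⟨_, rfl⟩)) hn'
      · exact absurd (h2.trans (h.conj_tmul ρ a0)) hn']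
  have ht : t ∈ closure {t, f z0} := subset_closure (Or.inl rfl)
  have hz : f z0 ∈ closure {t, f z0} := subset_closure (Or.inr rfl)
  obtain ⟨σ, hσ, e1⟩ := key _ hz hz2 (h.not_conj_v (Or.inr ⟨1, by simp⟩))
  obtain ⟨τ, hτ, e2⟩ := key _ (mul_mem ht hz) (by rw [h.ttf, hz2]) (h.not_conj_tv ⟨1, by simp⟩)
  have e3 : c * g₀ * t * (c * g₀)⁻¹ = f (τ * σ) ∨ c * g₀ * t * (c * g₀)⁻¹ = t * f (τ * σ) := by
    have : c * g₀ * t * (c * g₀)⁻¹ = (c * g₀ * (t * f z0) * (c * g₀)⁻¹) * (c * g₀ * f z0 * (c * g₀)⁻¹) := by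
      calc _ = c * g₀ * (t * (f z0 * f z0)) * (c * g₀)⁻¹ := by rw [hz2, mul_one]
        _ = _ := by group
    rw [this, map_mul]
    rcases e1 with e1 | e1 <;> rcases e2 with e2 | e2 <;> rw [e1, e2]
    · exact Or.inl rfl
    · exact Or.inr (mul_assoc _ _ _)
    · right; rw [← mul_assoc, ← (h.comm τ).eq, mul_assoc]
    · exact Or.inl (h.ttf _ _)
  have hc1 : IsConj t (c * g₀ * t * (c * g₀)⁻¹) := isConj_iff.mpr ⟨_, rfl⟩
  have e4 : c * g₀ * t * (c * g₀)⁻¹ = t := by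
    rcases e3 with e3 | e3 <;> rw [e3] at hc1 ⊢
    · exact absurd hc1 (h.not_conj_v (v4_mul _ _ hτ hσ))
    · rcases v4_mul _ _ hτ hσ with k | k
      · rw [k, map_one, mul_one]
      · exact absurd hc1 (h.not_conj_tv k)
  refine h.ne a0 ?_
  calc f a0 = (c * g₀)⁻¹ * (c * (g₀ * f a0 * g₀⁻¹) * c⁻¹) * (c * g₀) := by group
    _ = (c * g₀)⁻¹ * (c * g₀ * t * (c * g₀)⁻¹) * (c * g₀) := by rw [e₀, hct, e4]
    _ = t := by group

theorem exists_index_two (hn : ¬ IsConj t (f a0)) : ∃ M : Subgroup G, M.index = 2 ∧ t ∉ M := by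
  obtain ⟨T, hT⟩ := h.syl
  have hle : (centralizer ({z0} : Set S4)).map f ≤ (T : Subgroup G) := by
    rintro _ ⟨σ, hσ, rfl⟩
    rw [hT, mem_cent_iff_commute]
    exact comm_f (mem_cent_iff_commute.mp hσ)
  have hi : ((centralizer ({z0} : Set S4)).map f).relIndex (T : Subgroup G) = 2 := by
    have k := card_mul_index (((centralizer ({z0} : Set S4)).map f).subgroupOf (T : Subgroup G))
    rw [Nat.card_congr (subgroupOfEquivOfLe hle).toEquiv, card_map_of_injective h.inj, card_d0] at k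
    have k2 : Nat.card (T : Subgroup G) = 16 := by rw [hT, h.cardT]
    rw [k2] at k
    unfold relIndex
    omega
  rcases Cfsg.Agent.S0111.result T _ hle hi t h.ord (by rw [hT, mem_cent_iff_commute]; exact h.comm z0)
    (by rintro ⟨σ, -, e⟩; exact h.ne σ e) with ⟨M, -, k1, k2⟩ | ⟨g, σ, hσ, e⟩
  · exact ⟨M, k1, k2⟩
  exfalso
  have hc : IsConj t (f σ) := isConj_iff.mpr ⟨g, e.symm⟩
  have hσ2 : σ * σ = 1 := h.inj (by
    rw [map_mul, map_one, e]
    calc g * t * g⁻¹ * (g * t * g⁻¹) = g * (t * t) * g⁻¹ := by group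
      _ = 1 := by rw [h.tt]; group)
  rcases inv_d0 σ (mem_cent_iff_commute.mp hσ) hσ2 with k | k | ⟨ρ, rfl⟩
  · exact h.not_conj_v (Or.inl k) hc
  · exact h.not_conj_v (Or.inr k) hc
  · exact hn (hc.trans (by simp only [map_mul, map_inv]; exact (isConj_iff.mpr ⟨_, rfl⟩).symm))

omit [Finite G] in
open Classical in
/-- twisting by a character -/
theorem twist (P : S4 → Prop) (hP : ∀ σ τ, P (σ * τ) ↔ (P σ ↔ P τ)) :
    ∃ f' : S4 →* G, Cfg t f' ∧ ∀ σ, f' σ = if P σ then f σ else t * f σ := by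
  have htt := h.ttf
  let f' : S4 →* G := MonoidHom.mk' (fun σ => if P σ then f σ else t * f σ) fun σ τ => by
    by_cases h1 : P σ <;> by_cases h2 : P τ
    · simp [hP, h1, h2]
    · simp only [hP, h1, h2, iff_false, not_true, if_false, if_true, map_mul]
      rw [← mul_assoc, ← mul_assoc, (h.comm σ).eq]
    · simp only [hP, h1, h2, iff_true, if_false, if_true, map_mul, mul_assoc]
    · simp only [hP, h1, h2, if_false, if_true, map_mul, htt]
  have hf : ∀ σ, f' σ = if P σ then f σ else t * f σ := fun _ => rfl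
  have hz : f' z0 = f z0 := by
    rw [hf, if_pos]
    rw [show z0 = x0 * x0 by decide +kernel, hP]
  have hor : ∀ σ, f' σ = f σ ∨ f' σ = t * f σ := fun σ => by
    rw [hf]; split_ifs
    exacts [Or.inl rfl, Or.inr rfl]
  have h1 : P 1 := by simpa using hP 1 1
  refine ⟨f', ⟨h.ord, (injective_iff_map_eq_one _).mpr fun σ e => ?_, fun σ => ?_, fun σ e => ?_,
    fun g hg => ?_, hz ▸ h.syl, hz ▸ h.sub, h.card, hz ▸ h.cardT⟩, hf⟩
  · rcases hor σ with k | k <;> rw [k] at e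
    · exact h.inj (e.trans (map_one f).symm)
    · exact absurd (by rw [← ord2_inv h.ord]; exact (eq_inv_of_mul_eq_one_right e)) (h.ne σ)
  · rcases hor σ with k | k <;> rw [k]
    exacts [h.comm σ, (Commute.refl t).mul_right (h.comm σ)]
  · rw [hf] at e
    split_ifs at e with k
    · exact h.ne σ e
    · have : σ = 1 := h.inj (by simpa using e)
      exact k (this ▸ h1)
  · obtain ⟨σ, e⟩ := h.cent g hg
    refine ⟨σ, ?_⟩
    rcases hor σ with k | k <;> rw [k]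
    · exact e
    · rw [← mul_assoc, h.tt, one_mul]; exact e.symm

/-- a subgroup of index two containing the twisted copy of `S₄` -/
theorem exists_M : ∃ (f' : S4 →* G) (M : Subgroup G), Cfg t f' ∧ M.index = 2 ∧ t ∉ M ∧ ∀ σ, f' σ ∈ M := by
  obtain ⟨M, h1, h2⟩ : ∃ M : Subgroup G, M.index = 2 ∧ t ∉ M := by
    by_cases k : IsConj t (f a0)
    · obtain ⟨f', h', e⟩ := h.twist (fun σ => Perm.sign σ = 1) (fun σ τ => by
        rw [map_mul]
        rcases Int.units_eq_one_or (Perm.sign σ) with k | k <;>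
          rcases Int.units_eq_one_or (Perm.sign τ) with k' | k' <;> simp [k, k'])
      refine h'.exists_index_two ?_
      rw [e, if_neg (by decide +kernel)]
      exact fun k' => h.not_both ⟨k, k'⟩
    · exact h.exists_index_two k
  obtain ⟨f', h', e⟩ := h.twist (fun σ => f σ ∈ M) (fun σ τ => by
    rw [map_mul, mul_mem_iff_of_index_two h1])
  refine ⟨f', M, h', h1, h2, fun σ => ?_⟩
  rw [e]
  split_ifs with k
  · exact k
  · rw [mul_mem_iff_of_index_two h1]; simp [h2, k]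

end Cfg

end H6.ZS4
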